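import Mathlib
import Cfsg.Agent.H10.HO.Defs

/-!
# HO-FIXX (helper3, for helper10, S2075): `fixx : StFIXX`, the exact Prop of `H10.HO.Defs`
-/

set_option autoImplicit false

namespace Cfsg.Agent.H3.Ho

universe u

/-- HO-FIXX. -/
theorem fixx : Cfsg.Agent.H10.HO.StFIXX.{u} := by
  intro G _ _ x z t hx17 hx1 hzx hCx hCz htz htc hbad hrig α hαx
  have h1 : α z * x * (α z)⁻¹ = x ^ 2 := by
    have h0 := congrArg α hzx
    rw [map_mul, map_mul, map_inv, map_pow, hαx] at h0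
    exact h0
  have h3 : α z * x = x ^ 2 * α z := mul_inv_eq_iff_eq_mul.1 h1
  have h4 : z * x = x ^ 2 * z := mul_inv_eq_iff_eq_mul.1 hzx
  have h5 : z⁻¹ * x ^ 2 = x * z⁻¹ := by
    rw [inv_mul_eq_iff_eq_mul, ← mul_assoc, h4, mul_inv_cancel_right]
  have h2 : (z⁻¹ * α z) * x = x * (z⁻¹ * α z) := by
    calc z⁻¹ * α z * x = z⁻¹ * (α z * x) := by group
      _ = z⁻¹ * x ^ 2 * α z := by rw [h3]; group
      _ = x * (z⁻¹ * α z) := by rw [h5]; group
  obtain ⟨i, hi⟩ := hCx _ h2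
  have hαz : α z = z * x ^ i := by rw [← hi]; group
  have hsc : z * x ^ i = x ^ (2 * i) * z := by
    have h6 : SemiconjBy z x (x ^ 2) := h4
    have h7 := h6.pow_right i
    rw [← pow_mul] at h7
    exact h7
  obtain ⟨β, hβ⟩ : ∃ β : MulAut G, β = MulAut.conj (x ^ (2 * i)) * α := ⟨_, rfl⟩
  have hβx : β x = x := by
    rw [hβ, MulAut.mul_apply, hαx, MulAut.conj_apply]
    rw [← pow_succ, pow_succ', mul_inv_cancel_right]
  have hβz : β z = z := by
    rw [hβ, MulAut.mul_apply, hαz, MulAut.conj_apply]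
    calc x ^ (2 * i) * (z * x ^ i) * (x ^ (2 * i))⁻¹
        = (x ^ (2 * i) * z) * x ^ i * (x ^ (2 * i))⁻¹ := by group
      _ = (z * x ^ i) * x ^ i * (x ^ (2 * i))⁻¹ := by rw [hsc]
      _ = z * (x ^ i * x ^ i) * (x ^ (2 * i))⁻¹ := by group
      _ = z := by rw [← pow_add, ← two_mul, mul_inv_cancel_right]
  have hβt : β t * z = z * β t := by
    have h0 := congrArg β htc
    rw [map_mul, map_mul, hβz] at h0
    exact h0
  obtain ⟨a, ha, h | h⟩ := hCz _ hβt
  · exfalso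
    have h8 : β t = β (z ^ a) := by rw [map_pow, hβz]; exact h
    exact htz a ha (β.injective h8)
  · rcases Nat.eq_zero_or_pos a with h0 | h0
    · subst h0
      rw [pow_zero, one_mul] at h
      have hβ1 := hrig β hβx hβz h
      refine ⟨(x ^ (2 * i))⁻¹, ?_⟩
      rw [map_inv]
      rw [hβ1] at hβ
      exact eq_inv_of_mul_eq_one_right hβ.symm
    · exact absurd h (hbad a h0 ha β hβx hβz)

example : Cfsg.Agent.H10.HO.StFIXX.{u} := fixx

end Cfsg.Agent.H3.Ho
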