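import Mathlib

set_option autoImplicit false

namespace Cfsg.Agent.H3

/-- Recognition of dihedral groups: a group of order `2 m` generated by a rotation `ρ` of order `m`
and a reflection `τ` inverting `ρ` is dihedral. -/
theorem dihedral_of_gens {Q : Type*} [Group Q] [Finite Q] (m : ℕ) [NeZero m]
    (hcard : Nat.card Q = 2 * m) (ρ τ : Q) (hρ : orderOf ρ = m)
    (hτ : τ ∉ Subgroup.zpowers ρ) (hτ2 : τ * τ = 1) (hconj : τ * ρ * τ⁻¹ = ρ⁻¹) :
    Nonempty (Q ≃* DihedralGroup m) := by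
  subst hρ
  have he_add : ∀ i j : ZMod (orderOf ρ), ρ ^ (i + j).val = ρ ^ i.val * ρ ^ j.val := by
    intro i j
    rw [ZMod.val_add, pow_mod_orderOf, pow_add]
  have he_zero : ρ ^ (0 : ZMod (orderOf ρ)).val = 1 := by
    rw [ZMod.val_zero, pow_zero]
  have he_neg : ∀ i : ZMod (orderOf ρ), ρ ^ (-i).val = (ρ ^ i.val)⁻¹ := by
    intro i
    apply eq_inv_of_mul_eq_one_left
    rw [← he_add, neg_add_cancel, he_zero]
  have he_sub : ∀ i j : ZMod (orderOf ρ), ρ ^ (j - i).val = ρ ^ j.val * (ρ ^ i.val)⁻¹ := by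
    intro i j
    rw [sub_eq_add_neg, he_add, he_neg]
  have hτinv : τ⁻¹ = τ := by
    exact (eq_inv_of_mul_eq_one_left hτ2).symm
  have hτe : ∀ k : ℕ, ρ ^ k * τ = τ * (ρ ^ k)⁻¹ := by
    intro k
    have h1 : τ * ρ ^ k * τ⁻¹ = (ρ ^ k)⁻¹ := by
      rw [← conj_pow, hconj, inv_pow]
    have h2 : τ * (ρ ^ k)⁻¹ * τ⁻¹ = (τ * ρ ^ k * τ⁻¹)⁻¹ := by group
    have h3 : τ * (ρ ^ k)⁻¹ * τ⁻¹ = ρ ^ k := by rw [h2, h1, inv_inv]
    calc ρ ^ k * τ = (τ * (ρ ^ k)⁻¹ * τ⁻¹) * τ := by rw [h3]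
      _ = τ * (ρ ^ k)⁻¹ := by group
  have hcomm : ∀ a b : ℕ, ρ ^ a * (ρ ^ b)⁻¹ = (ρ ^ b)⁻¹ * ρ ^ a := by
    intro a b
    exact ((Commute.refl ρ).pow_pow a b).inv_right.eq
  let f : DihedralGroup (orderOf ρ) → Q := fun a =>
    match a with
    | DihedralGroup.r i => ρ ^ i.val
    | DihedralGroup.sr i => τ * ρ ^ i.val
  have hmul : ∀ a b, f (a * b) = f a * f b := by
    intro a b
    cases a with
    | r i =>
      cases b with
      | r j =>
        rw [DihedralGroup.r_mul_r]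
        exact he_add i j
      | sr j =>
        rw [DihedralGroup.r_mul_sr]
        show τ * ρ ^ (j - i).val = ρ ^ i.val * (τ * ρ ^ j.val)
        rw [he_sub, ← mul_assoc (ρ ^ i.val), hτe, hcomm, mul_assoc]
    | sr i =>
      cases b with
      | r j =>
        rw [DihedralGroup.sr_mul_r]
        show τ * ρ ^ (i + j).val = τ * ρ ^ i.val * ρ ^ j.val
        rw [he_add, mul_assoc]
      | sr j =>
        rw [DihedralGroup.sr_mul_sr]
        show ρ ^ (j - i).val = τ * ρ ^ i.val * (τ * ρ ^ j.val)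
        rw [he_sub, hcomm]
        calc (ρ ^ i.val)⁻¹ * ρ ^ j.val = τ * τ * (ρ ^ i.val)⁻¹ * ρ ^ j.val := by
              rw [hτ2, one_mul]
          _ = τ * (τ * (ρ ^ i.val)⁻¹) * ρ ^ j.val := by rw [mul_assoc τ τ]
          _ = τ * (ρ ^ i.val * τ) * ρ ^ j.val := by rw [hτe]
          _ = τ * ρ ^ i.val * (τ * ρ ^ j.val) := by simp only [mul_assoc]
  have hval : ∀ i j : ZMod (orderOf ρ), ρ ^ i.val = ρ ^ j.val → i = j := by
    intro i j h
    apply ZMod.val_injective
    exact pow_injOn_Iio_orderOf (Set.mem_Iio.mpr (ZMod.val_lt i)) (Set.mem_Iio.mpr (ZMod.val_lt j)) h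
  have hinj : Function.Injective f := by
    intro a b hab
    cases a with
    | r i =>
      cases b with
      | r j => rw [hval i j hab]
      | sr j =>
        exfalso
        apply hτ
        have h1 : ρ ^ i.val = τ * ρ ^ j.val := hab
        have h2 : τ = ρ ^ i.val * (ρ ^ j.val)⁻¹ := by rw [h1]; group
        rw [h2]
        exact Subgroup.mul_mem _ (Subgroup.pow_mem _ (Subgroup.mem_zpowers ρ) _)
          (Subgroup.inv_mem _ (Subgroup.pow_mem _ (Subgroup.mem_zpowers ρ) _))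
    | sr i =>
      cases b with
      | r j =>
        exfalso
        apply hτ
        have h1 : τ * ρ ^ i.val = ρ ^ j.val := hab
        have h2 : τ = ρ ^ j.val * (ρ ^ i.val)⁻¹ := by rw [← h1]; group
        rw [h2]
        exact Subgroup.mul_mem _ (Subgroup.pow_mem _ (Subgroup.mem_zpowers ρ) _)
          (Subgroup.inv_mem _ (Subgroup.pow_mem _ (Subgroup.mem_zpowers ρ) _))
      | sr j =>
        have h1 : τ * ρ ^ i.val = τ * ρ ^ j.val := hab
        rw [hval i j (mul_left_cancel h1)]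
  have hbij : Function.Bijective f := by
    rw [Nat.bijective_iff_injective_and_card]
    exact ⟨hinj, by rw [DihedralGroup.nat_card, hcard]⟩
  exact ⟨(MulEquiv.ofBijective (MonoidHom.mk' f hmul) hbij).symm⟩

end Cfsg.Agent.H3
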