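import Cfsg.Agent.H3.Extraspecial

set_option autoImplicit false

namespace Cfsg.Agent.H3

/-- Cardinality of the preimage of a subgroup under a quotient map. -/
theorem card_comap_mk' {G : Type*} [Group G] [Finite G] (N : Subgroup G) [N.Normal]
    (S : Subgroup (G ⧸ N)) :
    Nat.card (S.comap (QuotientGroup.mk' N)) = Nat.card N * Nat.card S := by
  have h1 := Subgroup.index_comap_of_surjective S (QuotientGroup.mk'_surjective N)
  have h2 := Subgroup.card_mul_index (S.comap (QuotientGroup.mk' N))
  have h3 := Subgroup.card_mul_index S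
  have h4 := Subgroup.card_eq_card_quotient_mul_card_subgroup N
  rw [h1] at h2
  have h5 : Nat.card (S.comap (QuotientGroup.mk' N)) * S.index =
      Nat.card N * Nat.card S * S.index := by
    rw [h2, h4, mul_assoc, h3, mul_comm]
  exact Nat.eq_of_mul_eq_mul_right (Nat.pos_of_ne_zero Subgroup.index_ne_zero_of_finite) h5

/-- The preimage of the cyclic group generated by a central element `π x` of `G ⧸ N`:
elements are `x ^ j * n`. -/
theorem mem_comap_zpowers {G : Type*} [Group G] (N : Subgroup G) [N.Normal] (x : G) (b : G)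
    (hb : b ∈ (Subgroup.zpowers ((QuotientGroup.mk' N) x)).comap (QuotientGroup.mk' N)) :
    ∃ j : ℤ, ∃ n ∈ N, b = x ^ j * n := by
  rw [Subgroup.mem_comap] at hb
  obtain ⟨j, hj⟩ := Subgroup.mem_zpowers_iff.mp hb
  rw [← map_zpow] at hj
  exact ⟨j, (x ^ j)⁻¹ * b, QuotientGroup.eq.mp hj, by group⟩

/-- A maximal normal abelian subgroup of a finite `p`-group is self-centralizing. -/
theorem max_normal_abelian_self_centralizing {G : Type*} [Group G] [Finite G] {p : ℕ}
    [Fact p.Prime] (hG : IsPGroup p G) (A : Subgroup G) [A.Normal]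
    (hA : ∀ a ∈ A, ∀ b ∈ A, a * b = b * a)
    (hmax : ∀ B : Subgroup G, B.Normal → (∀ a ∈ B, ∀ b ∈ B, a * b = b * a) → A ≤ B → B = A) :
    Subgroup.centralizer (A : Set G) = A := by
  apply le_antisymm
  · by_contra hcon
    have hCn : (Subgroup.centralizer (A : Set G)).Normal := Subgroup.normal_centralizer
    have hmapn : ((Subgroup.centralizer (A : Set G)).map (QuotientGroup.mk' A)).Normal :=
      Subgroup.Normal.map hCn _ (QuotientGroup.mk'_surjective A)
    have hne : (Subgroup.centralizer (A : Set G)).map (QuotientGroup.mk' A) ≠ ⊥ := by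
      intro hbot
      apply hcon
      rw [Subgroup.map_eq_bot_iff, QuotientGroup.ker_mk'] at hbot
      exact hbot
    have hQ : IsPGroup p (G ⧸ A) := hG.to_quotient A
    obtain ⟨z, hzC, hzc, hz1⟩ := normal_inf_center_ne_bot hQ _ hne
    obtain ⟨x, hxC, rfl⟩ := Subgroup.mem_map.mp hzC
    have hBn : ((Subgroup.zpowers ((QuotientGroup.mk' A) x)).comap (QuotientGroup.mk' A)).Normal := by
      have : (Subgroup.zpowers ((QuotientGroup.mk' A) x)).Normal := ⟨fun n hn g => by
        have h1 : Subgroup.zpowers ((QuotientGroup.mk' A) x) ≤ Subgroup.center (G ⧸ A) :=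
          (Subgroup.zpowers_le).mpr hzc
        have h2 := Subgroup.mem_center_iff.mp (h1 hn) g
        rw [h2, mul_inv_cancel_right]
        exact hn⟩
      exact Subgroup.Normal.comap this _
    have hAB : A ≤ (Subgroup.zpowers ((QuotientGroup.mk' A) x)).comap (QuotientGroup.mk' A) := by
      intro a ha
      rw [Subgroup.mem_comap]
      have : (QuotientGroup.mk' A) a = 1 := (QuotientGroup.eq_one_iff a).mpr ha
      rw [this]
      exact Subgroup.one_mem _
    have hBab : ∀ a ∈ (Subgroup.zpowers ((QuotientGroup.mk' A) x)).comap (QuotientGroup.mk' A),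
        ∀ b ∈ (Subgroup.zpowers ((QuotientGroup.mk' A) x)).comap (QuotientGroup.mk' A),
        a * b = b * a := by
      intro a ha b hb
      obtain ⟨i, n, hn, rfl⟩ := mem_comap_zpowers A x a ha
      obtain ⟨j, m, hm, rfl⟩ := mem_comap_zpowers A x b hb
      have hxc : ∀ (k : ℤ) (c : G), c ∈ A → c * x ^ k = x ^ k * c := by
        intro k c hc
        have h1 : x ^ k ∈ Subgroup.centralizer (A : Set G) := Subgroup.zpow_mem _ hxC k
        exact (Subgroup.mem_centralizer_iff.mp h1) c hc
      have hcc : x ^ i * x ^ j = x ^ j * x ^ i := ((Commute.refl x).zpow_zpow i j).eq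
      calc x ^ i * n * (x ^ j * m) = x ^ i * (n * x ^ j) * m := by group
        _ = x ^ i * (x ^ j * n) * m := by rw [hxc j n hn]
        _ = (x ^ i * x ^ j) * (n * m) := by group
        _ = (x ^ j * x ^ i) * (m * n) := by rw [hcc, hA n hn m hm]
        _ = x ^ j * (x ^ i * m) * n := by group
        _ = x ^ j * (m * x ^ i) * n := by rw [hxc i m hm]
        _ = x ^ j * m * (x ^ i * n) := by group
    have hBA := hmax _ hBn hBab hAB
    have hxB : x ∈ (Subgroup.zpowers ((QuotientGroup.mk' A) x)).comap (QuotientGroup.mk' A) := by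
      rw [Subgroup.mem_comap]
      exact Subgroup.mem_zpowers _
    rw [hBA] at hxB
    exact hz1 ((QuotientGroup.eq_one_iff x).mpr hxB)
  · intro a ha
    rw [Subgroup.mem_centralizer_iff]
    intro b hb
    exact hA b hb a ha

/-- The chain step: inside a normal subgroup `A` of a `p`-group there are `G`-normal subgroups
`N` of every order `p ^ i` (`i ≤ a`) with `|G| ≤ p ^ (i (i - 1) / 2) |C_G(N)|`. -/
theorem exists_normal_chain_centralizer {G : Type*} [Group G] [Finite G] {p : ℕ}
    [Fact p.Prime] (hG : IsPGroup p G) (A : Subgroup G) [A.Normal] (a : ℕ)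
    (ha : Nat.card A = p ^ a) :
    ∀ i : ℕ, i ≤ a → ∃ N : Subgroup G, N.Normal ∧ N ≤ A ∧ Nat.card N = p ^ i ∧
      Nat.card G ≤ p ^ (i * (i - 1) / 2) * Nat.card (Subgroup.centralizer (N : Set G)) := by
  have hp : p.Prime := Fact.out
  intro i
  induction i with
  | zero =>
    intro _
    refine ⟨⊥, inferInstance, bot_le, by simp, ?_⟩
    have : Subgroup.centralizer ((⊥ : Subgroup G) : Set G) = ⊤ := by
      rw [Subgroup.centralizer_eq_top_iff_subset]
      intro x hx
      rw [SetLike.mem_coe, Subgroup.mem_bot] at hx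
      rw [hx]
      exact Subgroup.one_mem _
    rw [this, Subgroup.card_top]
    simp
  | succ i ih =>
    intro hi
    obtain ⟨N, hNn, hNA, hNcard, hbound⟩ := ih (by omega)
    have hmapn : (A.map (QuotientGroup.mk' N)).Normal :=
      Subgroup.Normal.map inferInstance _ (QuotientGroup.mk'_surjective N)
    have hne : A.map (QuotientGroup.mk' N) ≠ ⊥ := by
      intro hbot
      rw [Subgroup.map_eq_bot_iff, QuotientGroup.ker_mk'] at hbot
      have h1 := Subgroup.card_le_of_le hbot
      rw [ha, hNcard] at h1
      have h2 : p ^ i < p ^ a := Nat.pow_lt_pow_right hp.one_lt (by omega)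
      omega
    have hQ : IsPGroup p (G ⧸ N) := hG.to_quotient N
    obtain ⟨z, hzA, hzΩ, hz1⟩ := normal_exists_central_order_p hQ _ hne
    obtain ⟨x, hxA, rfl⟩ := Subgroup.mem_map.mp hzA
    have hzc : (QuotientGroup.mk' N) x ∈ Subgroup.center (G ⧸ N) := hzΩ.1
    have hzp : ((QuotientGroup.mk' N) x) ^ p = 1 := hzΩ.2
    have hN'n : ((Subgroup.zpowers ((QuotientGroup.mk' N) x)).comap (QuotientGroup.mk' N)).Normal := by
      have : (Subgroup.zpowers ((QuotientGroup.mk' N) x)).Normal := ⟨fun n hn g => by
        have h1 : Subgroup.zpowers ((QuotientGroup.mk' N) x) ≤ Subgroup.center (G ⧸ N) :=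
          (Subgroup.zpowers_le).mpr hzc
        have h2 := Subgroup.mem_center_iff.mp (h1 hn) g
        rw [h2, mul_inv_cancel_right]
        exact hn⟩
      exact Subgroup.Normal.comap this _
    refine ⟨(Subgroup.zpowers ((QuotientGroup.mk' N) x)).comap (QuotientGroup.mk' N), hN'n, ?_, ?_, ?_⟩
    · intro b hb
      obtain ⟨j, n, hn, rfl⟩ := mem_comap_zpowers N x b hb
      exact A.mul_mem (A.zpow_mem hxA j) (hNA hn)
    · rw [card_comap_mk', hNcard, Nat.card_zpowers, orderOf_eq_prime hzp hz1, pow_succ]
    · have hB := card_le_mul_card_inf_centralizer (Subgroup.centralizer (N : Set G)) N x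
        (fun t _ => by
          have h1 : (QuotientGroup.mk' N) (t * x * t⁻¹ * x⁻¹) = 1 := by
            rw [map_mul, map_mul, map_mul, map_inv, map_inv,
              Subgroup.mem_center_iff.mp hzc ((QuotientGroup.mk' N) t)]
            group
          exact (QuotientGroup.eq_one_iff _).mp h1)
      have hle : Subgroup.centralizer (N : Set G) ⊓ Subgroup.centralizer {x} ≤
          Subgroup.centralizer (((Subgroup.zpowers ((QuotientGroup.mk' N) x)).comap
            (QuotientGroup.mk' N) : Subgroup G) : Set G) := by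
        intro t ht
        obtain ⟨ht1, ht2⟩ := Subgroup.mem_inf.mp ht
        rw [Subgroup.mem_centralizer_iff]
        intro b hb
        obtain ⟨j, n, hn, rfl⟩ := mem_comap_zpowers N x b hb
        have e1 : n * t = t * n := (Subgroup.mem_centralizer_iff.mp ht1) n hn
        have e2 : x * t = t * x := (Subgroup.mem_centralizer_iff.mp ht2) x rfl
        have e3 : x ^ j * t = t * x ^ j := by
          have hc : Commute x t := e2
          exact (hc.zpow_left j).eq
        calc x ^ j * n * t = x ^ j * (n * t) := by group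
          _ = x ^ j * (t * n) := by rw [e1]
          _ = (x ^ j * t) * n := by group
          _ = (t * x ^ j) * n := by rw [e3]
          _ = t * (x ^ j * n) := by group
      have h3 := Subgroup.card_le_of_le hle
      rw [hNcard] at hB
      have h4 : (i + 1) * (i + 1 - 1) / 2 = i * (i - 1) / 2 + i := Nat.triangle_succ i
      rw [h4, pow_add]
      calc Nat.card G ≤ p ^ (i * (i - 1) / 2) * Nat.card (Subgroup.centralizer (N : Set G)) := hbound
        _ ≤ p ^ (i * (i - 1) / 2) * (p ^ i * Nat.card (Subgroup.centralizer (N : Set G) ⊓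
              Subgroup.centralizer {x} : Subgroup G)) := Nat.mul_le_mul_left _ hB
        _ ≤ p ^ (i * (i - 1) / 2) * (p ^ i * Nat.card (Subgroup.centralizer
              (((Subgroup.zpowers ((QuotientGroup.mk' N) x)).comap
            (QuotientGroup.mk' N) : Subgroup G) : Set G))) :=
            Nat.mul_le_mul_left _ (Nat.mul_le_mul_left _ h3)
        _ = _ := by ring

/-- A finite `p`-group with a maximal normal abelian subgroup of order `p ^ a` has order at most
`p ^ (a (a + 1) / 2)`. -/
theorem card_le_of_max_normal_abelian {G : Type*} [Group G] [Finite G] {p : ℕ}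
    [Fact p.Prime] (hG : IsPGroup p G) (A : Subgroup G) [A.Normal]
    (hA : ∀ a ∈ A, ∀ b ∈ A, a * b = b * a)
    (hmax : ∀ B : Subgroup G, B.Normal → (∀ a ∈ B, ∀ b ∈ B, a * b = b * a) → A ≤ B → B = A)
    (a : ℕ) (ha : Nat.card A = p ^ a) : Nat.card G ≤ p ^ (a * (a + 1) / 2) := by
  obtain ⟨N, hNn, hNA, hNcard, hbound⟩ := exists_normal_chain_centralizer hG A a ha a le_rfl
  have hNeq : N = A := Subgroup.eq_of_le_of_card_ge hNA (by rw [ha, hNcard])
  rw [hNeq, max_normal_abelian_self_centralizing hG A hA hmax, ha, ← pow_add] at hbound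
  have h4 : (a + 1) * (a + 1 - 1) / 2 = a * (a - 1) / 2 + a := Nat.triangle_succ a
  have h5 : a * (a + 1) / 2 = a * (a - 1) / 2 + a := by
    rw [← h4, Nat.add_sub_cancel, mul_comm]
  rw [h5]
  exact hbound

end Cfsg.Agent.H3
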