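import Cfsg.Agent.H3.PGroup
import Cfsg.Agent.H3.Class2

set_option autoImplicit false

namespace Cfsg.Agent.H3

/-- Lifting the exponent: for `p` odd, `k ^ p ≡ 1 mod p ^ m` forces `k ≡ 1 mod p ^ (m - 1)`
and `k ≡ 1 mod p`. -/
theorem modEq_one_of_pow_prime {p : ℕ} (hp : p.Prime) (hp2 : p ≠ 2) {m k : ℕ} (hm : 1 ≤ m)
    (h : k ^ p ≡ 1 [MOD p ^ m]) : k ≡ 1 [MOD p] ∧ k ≡ 1 [MOD p ^ (m - 1)] := by
  have : Fact p.Prime := ⟨hp⟩
  have h1 : k ^ p ≡ 1 [MOD p] := Nat.ModEq.of_dvd (dvd_pow_self p (by omega)) h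
  have h2 : k ^ p ≡ k [MOD p] := by
    rw [← ZMod.natCast_eq_natCast_iff]
    push_cast
    exact ZMod.pow_card _
  have hk1 : k ≡ 1 [MOD p] := h2.symm.trans h1
  refine ⟨hk1, ?_⟩
  have hkpos : 1 ≤ k := by
    by_contra hk
    have : k = 0 := by omega
    subst this
    have : (0 : ℕ) ≡ 1 [MOD p] := hk1
    have h3 := (Nat.modEq_iff_dvd' (Nat.zero_le 1)).mp this
    simp at h3
    exact hp.one_lt.ne' h3
  have hdvd : p ∣ k - 1 := (Nat.modEq_iff_dvd' hkpos).mp hk1.symm
  have hndvd : ¬ p ∣ k := by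
    intro hpk
    have : p ∣ 1 := by
      have := Nat.dvd_sub hpk hdvd
      rwa [Nat.sub_sub_self hkpos] at this
    exact hp.one_lt.ne' (Nat.dvd_one.mp this)
  have hodd : Odd p := hp.odd_of_ne_two hp2
  have hlte := Nat.emultiplicity_pow_sub_pow hp hodd hdvd hndvd p
  rw [one_pow, hp.emultiplicity_self] at hlte
  have hkp : 1 ≤ k ^ p := Nat.one_le_pow _ _ hkpos
  have hd2 : p ^ m ∣ k ^ p - 1 := (Nat.modEq_iff_dvd' hkp).mp h.symm
  have hle : (m : ℕ∞) ≤ emultiplicity p (k - 1) + 1 := by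
    rw [← hlte]; exact pow_dvd_iff_le_emultiplicity.mp hd2
  have hle2 : ((m - 1 : ℕ) : ℕ∞) ≤ emultiplicity p (k - 1) := by
    by_cases htop : emultiplicity p (k - 1) = ⊤
    · rw [htop]; exact le_top
    · obtain ⟨e, he⟩ := ENat.ne_top_iff_exists.mp htop
      rw [← he] at hle ⊢
      have h5 : m ≤ e + 1 := by exact_mod_cast hle
      have h6 : m - 1 ≤ e := by omega
      exact_mod_cast h6
  have hd3 : p ^ (m - 1) ∣ k - 1 := pow_dvd_iff_le_emultiplicity.mpr hle2
  exact ((Nat.modEq_iff_dvd' hkpos).mpr hd3).symm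


/-- If `C` is normal of prime index and `t ∉ C`, every element is `x * t ^ i` with `x ∈ C`. -/
theorem exists_mul_pow_of_index_prime {R : Type*} [Group R] {p : ℕ} [Fact p.Prime]
    (C : Subgroup R) [C.Normal] (hCi : C.index = p) {t : R} (ht : t ∉ C) (g : R) :
    ∃ x ∈ C, ∃ i : ℕ, g = x * t ^ i := by
  have hcard : Nat.card (R ⧸ C) = p := hCi
  have ht1 : (t : R ⧸ C) ≠ 1 := fun h => ht ((QuotientGroup.eq_one_iff t).mp h)
  obtain ⟨i, hi⟩ := mem_powers_of_prime_card hcard ht1 (g' := (g : R ⧸ C))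
  refine ⟨g * (t ^ i)⁻¹, ?_, i, by group⟩
  rw [← QuotientGroup.eq_one_iff, QuotientGroup.mk_mul, QuotientGroup.mk_inv,
    QuotientGroup.mk_pow]
  have hi' : (t : R ⧸ C) ^ i = (g : R ⧸ C) := hi
  rw [hi', mul_inv_cancel]

/-- A subgroup of index `p` in a finite `p`-group is normal. -/
theorem normal_of_index_p {R : Type*} [Group R] [Finite R] {p : ℕ} [Fact p.Prime]
    (hR : IsPGroup p R) (C : Subgroup R) (hCi : C.index = p) : C.Normal := by
  have hpp : p.Prime := Fact.out
  obtain ⟨N, hN⟩ := IsPGroup.iff_card.mp hR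
  apply Subgroup.normal_of_index_eq_minFac_card
  have hN0 : N ≠ 0 := by
    rintro rfl
    have h1 : C.index ∣ Nat.card R := Subgroup.index_dvd_card C
    rw [hN, pow_zero, hCi] at h1
    exact hpp.one_lt.ne' (Nat.dvd_one.mp h1)
  rw [hCi, hN, Nat.pow_minFac hN0, hpp.minFac_eq]

/-- Stage A of the analysis of a noncyclic `p`-group (`p` odd) with a cyclic subgroup of index `p`:
there is a central element `z` of order `p` in `C` such that the derived subgroup lies in `⟨z⟩`
and `⟨z⟩` contains all elements of `C` of order dividing `p`. -/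
theorem cyclic_index_p_stageA {R : Type*} [Group R] [Finite R] {p : ℕ} [Fact p.Prime]
    (hp : p ≠ 2) (hR : IsPGroup p R) (hnc : ¬ IsCyclic R) (C : Subgroup R) (hC : IsCyclic C)
    (hCi : C.index = p) :
    ∃ c z : R, orderOf z = p ∧ z ∈ C ∧ z ∈ Subgroup.center R ∧
      commutator R ≤ Subgroup.zpowers z ∧ (∀ x ∈ C, x ^ p = 1 → x ∈ Subgroup.zpowers z) ∧
      (∀ x ∈ C, ∃ i : ℕ, x = c ^ i) ∧ c ∈ C ∧ p ∣ orderOf c := by
  have hpp : p.Prime := Fact.out
  have hCn : C.Normal := normal_of_index_p hR C hCi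
  obtain ⟨g, hg⟩ := hC.exists_generator
  set c : R := (g : R) with hc
  have hcmem : c ∈ C := g.2
  have hcC : ∀ x ∈ C, ∃ i : ℕ, x = c ^ i := by
    intro x hx
    have h1 : (⟨x, hx⟩ : C) ∈ Subgroup.zpowers g := hg _
    rw [← mem_powers_iff_mem_zpowers] at h1
    obtain ⟨i, hi⟩ := h1
    refine ⟨i, ?_⟩
    have := congrArg Subtype.val hi
    simpa using this.symm
  have hq : orderOf c = Nat.card C := by
    rw [hc, Subgroup.orderOf_coe]
    exact orderOf_eq_card_of_forall_mem_zpowers hg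
  obtain ⟨m, hm⟩ := IsPGroup.iff_orderOf.mp hR c
  have hcardR : Nat.card R = orderOf c * p := by
    rw [hq, ← hCi]; exact (Subgroup.card_mul_index C).symm
  have hm1 : 1 ≤ m := by
    by_contra hm0
    have : m = 0 := by omega
    rw [this, pow_zero] at hm
    rw [hm, one_mul] at hcardR
    exact hnc (isCyclic_of_prime_card hcardR)
  -- an element outside C
  obtain ⟨t, ht⟩ : ∃ t : R, t ∉ C := by
    by_contra hall
    have : C = ⊤ := by
      rw [eq_top_iff]; intro x _
      by_contra hx; exact hall ⟨x, hx⟩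
    rw [this, Subgroup.index_top] at hCi
    exact hpp.one_lt.ne hCi
  obtain ⟨k, hk⟩ := hcC _ (hCn.conj_mem c hcmem t)
  have htp : t ^ p ∈ C := by
    rw [← QuotientGroup.eq_one_iff, QuotientGroup.mk_pow]
    have hcard : Nat.card (R ⧸ C) = p := hCi
    rw [← hcard]; exact pow_card_eq_one'
  have hconjpow : ∀ n : ℕ, t ^ n * c * (t ^ n)⁻¹ = c ^ (k ^ n) := by
    intro n
    induction n with
    | zero => simp
    | succ n ih =>
      calc t ^ (n + 1) * c * (t ^ (n + 1))⁻¹ = t * (t ^ n * c * (t ^ n)⁻¹) * t⁻¹ := by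
            rw [pow_succ']; group
        _ = t * c ^ (k ^ n) * t⁻¹ := by rw [ih]
        _ = (t * c * t⁻¹) ^ (k ^ n) := conj_pow.symm
        _ = c ^ (k ^ (n + 1)) := by rw [hk, ← pow_mul, pow_succ']
  have hkp : k ^ p ≡ 1 [MOD p ^ m] := by
    rw [← hm]
    have h1 := hconjpow p
    obtain ⟨r, hr⟩ := hcC _ htp
    rw [hr] at h1
    have h2 : c ^ r * c * (c ^ r)⁻¹ = c := by
      rw [((Commute.refl c).pow_left r).eq, mul_inv_cancel_right]
    rw [h2] at h1
    have h3 : c ^ (k ^ p) = c ^ 1 := by rw [pow_one]; exact h1.symm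
    exact pow_eq_pow_iff_modEq.mp h3
  obtain ⟨hk1, hk2⟩ := modEq_one_of_pow_prime hpp hp hm1 hkp
  have hkpos : 1 ≤ k := by
    by_contra hk0
    have : k = 0 := by omega
    subst this
    have h3 := (Nat.modEq_iff_dvd' (Nat.zero_le 1)).mp hk1
    simp at h3
    exact hpp.one_lt.ne' h3
  obtain ⟨j, hj⟩ : ∃ j, k = 1 + p ^ (m - 1) * j := by
    obtain ⟨j, hj⟩ := (Nat.modEq_iff_dvd' hkpos).mp hk2.symm
    exact ⟨j, by omega⟩
  set z : R := c ^ (p ^ (m - 1)) with hz
  have hzo : orderOf z = p := by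
    have h1 : orderOf c / p = p ^ (m - 1) := by
      rw [hm]
      have := Nat.pow_div hm1 hpp.pos
      rwa [pow_one] at this
    have h2 : p ∣ orderOf c := by rw [hm]; exact dvd_pow_self p (by omega)
    have h3 := orderOf_pow_orderOf_div (x := c) (by rw [hm]; exact (pow_pos hpp.pos m).ne') h2
    rwa [h1] at h3
  have hzC : z ∈ C := Subgroup.pow_mem _ hcmem _
  have hzt : t * z * t⁻¹ = z := by
    calc t * z * t⁻¹ = (t * c * t⁻¹) ^ (p ^ (m - 1)) := conj_pow.symm
      _ = z ^ k := by rw [hk, ← pow_mul, mul_comm, pow_mul]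
      _ = z ^ 1 := by
          rw [pow_eq_pow_iff_modEq, hzo]; exact hk1
      _ = z := pow_one z
  have hzt' : Commute t z := by
    show t * z = z * t
    calc t * z = t * z * t⁻¹ * t := by group
      _ = z * t := by rw [hzt]
  have hzc : Commute c z := (Commute.refl c).pow_right _
  have hzcen : z ∈ Subgroup.center R := by
    rw [Subgroup.mem_center_iff]
    intro g
    obtain ⟨x, hx, i, rfl⟩ := exists_mul_pow_of_index_prime C hCi ht g
    obtain ⟨r, rfl⟩ := hcC x hx
    exact ((hzc.pow_left r).mul_left (hzt'.pow_left i)).eq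
  have hrel : t * c = c * t * z ^ j := by
    have h1 : t * c * t⁻¹ = c * z ^ j := by
      rw [hk, hj, pow_add, pow_one, pow_mul]
    calc t * c = t * c * t⁻¹ * t := by group
      _ = c * z ^ j * t := by rw [h1]
      _ = c * t * z ^ j := by
          rw [mul_assoc, mul_assoc, ((hzt'.pow_right j).eq)]
  have hZn : (Subgroup.zpowers z).Normal := by
    constructor
    intro n hn g
    have hnc : n ∈ Subgroup.center R := by
      obtain ⟨i, rfl⟩ := hn
      exact Subgroup.zpow_mem _ hzcen i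
    have : g * n * g⁻¹ = n := by
      rw [(Subgroup.mem_center_iff.mp hnc) g, mul_inv_cancel_right]
    rw [this]; exact hn
  have hcomm : commutator R ≤ Subgroup.zpowers z := by
    rw [← Subgroup.Normal.quotient_commutative_iff_commutator_le]
    have hct : Commute ((c : R) : R ⧸ Subgroup.zpowers z) ((t : R) : R ⧸ Subgroup.zpowers z) := by
      show ((c : R) : R ⧸ Subgroup.zpowers z) * (t : R ⧸ Subgroup.zpowers z) = t * c
      rw [← QuotientGroup.mk_mul, ← QuotientGroup.mk_mul, hrel, QuotientGroup.eq]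
      have : (c * t)⁻¹ * (c * t * z ^ j) = z ^ j := by group
      rw [this]; exact Subgroup.pow_mem _ (Subgroup.mem_zpowers z) j
    refine ⟨⟨fun a b => ?_⟩⟩
    obtain ⟨a, rfl⟩ := QuotientGroup.mk_surjective a
    obtain ⟨b, rfl⟩ := QuotientGroup.mk_surjective b
    obtain ⟨x, hx, i, rfl⟩ := exists_mul_pow_of_index_prime C hCi ht a
    obtain ⟨y, hy, l, rfl⟩ := exists_mul_pow_of_index_prime C hCi ht b
    obtain ⟨r, rfl⟩ := hcC x hx
    obtain ⟨s, rfl⟩ := hcC y hy
    simp only [QuotientGroup.mk_mul, QuotientGroup.mk_pow]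
    have h1 : Commute (((c : R) : R ⧸ Subgroup.zpowers z) ^ r * (t : R ⧸ Subgroup.zpowers z) ^ i)
        (((c : R) : R ⧸ Subgroup.zpowers z) ^ s * (t : R ⧸ Subgroup.zpowers z) ^ l) := by
      apply Commute.mul_left
      · exact Commute.mul_right ((Commute.refl _).pow_pow r s) (hct.pow_pow r l)
      · exact Commute.mul_right (hct.symm.pow_pow i s) ((Commute.refl _).pow_pow i l)
    exact h1.eq
  refine ⟨c, z, hzo, hzC, hzcen, hcomm, ?_, hcC, hcmem, by rw [hm]; exact dvd_pow_self p (by omega)⟩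
  intro x hx hxp
  obtain ⟨r, rfl⟩ := hcC x hx
  rw [← pow_mul, ← orderOf_dvd_iff_pow_eq_one, hm] at hxp
  have h1 : p ^ (m - 1) ∣ r := by
    have e : p ^ m = p ^ (m - 1) * p := by
      rw [← pow_succ]; congr 1; omega
    rw [e] at hxp
    exact Nat.dvd_of_mul_dvd_mul_right hpp.pos hxp
  obtain ⟨s, rfl⟩ := h1
  rw [pow_mul]
  exact Subgroup.pow_mem _ (Subgroup.mem_zpowers z) s

/-- A noncyclic `p`-group (`p` odd) with a cyclic subgroup of index `p`: the `p`-th power map is
multiplicative, and the elements of order dividing `p` form a subgroup of order `p ^ 2`. -/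
theorem cyclic_index_p_main {R : Type*} [Group R] [Finite R] {p : ℕ} [Fact p.Prime]
    (hp : p ≠ 2) (hR : IsPGroup p R) (hnc : ¬ IsCyclic R) (C : Subgroup R) (hC : IsCyclic C)
    (hCi : C.index = p) :
    (∀ a b : R, (a * b) ^ p = a ^ p * b ^ p) ∧
    (∀ g ∈ Subgroup.closure {x : R | x ^ p = 1}, g ^ p = 1) ∧
    Nat.card (Subgroup.closure {x : R | x ^ p = 1}) = p ^ 2 := by
  have hpp : p.Prime := Fact.out
  have hCn : C.Normal := normal_of_index_p hR C hCi
  obtain ⟨c, z, hzo, hzC, hzcen, hcomm, hzC', hcC, hcmem, hpc⟩ :=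
    cyclic_index_p_stageA hp hR hnc C hC hCi
  have hzp : ∀ w ∈ Subgroup.zpowers z, w ^ p = 1 := by
    rintro w ⟨i, rfl⟩
    rw [← zpow_natCast, ← zpow_mul, mul_comm, zpow_mul, zpow_natCast, ← hzo, pow_orderOf_eq_one,
      one_zpow]
  have hzcen' : Subgroup.zpowers z ≤ Subgroup.center R := by
    rw [Subgroup.zpowers_le]; exact hzcen
  have hmul : ∀ a b : R, (a * b) ^ p = a ^ p * b ^ p := by
    intro a b
    have hw := hcomm (basic_rel_mem_commutator a b)
    rw [mul_pow_of_rel (basic_rel a b) (hzcen' hw) p]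
    have hdvd : p ∣ p.choose 2 := hpp.dvd_choose_self (by norm_num) (by
      have := hpp.two_le; omega)
    obtain ⟨k, hk⟩ := hdvd
    rw [hk, pow_mul, hzp _ hw, one_pow, mul_one]
  have hΩ : ∀ x : R, x ∈ Subgroup.closure {x : R | x ^ p = 1} ↔ x ^ p = 1 := by
    intro x
    constructor
    · intro hx
      induction hx using Subgroup.closure_induction with
      | mem x hx => exact hx
      | one => exact one_pow p
      | mul a b _ _ iha ihb => rw [hmul, iha, ihb, one_mul]
      | inv a _ iha => rw [inv_pow, iha, inv_one]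
    · intro hx; exact Subgroup.subset_closure hx
  refine ⟨hmul, fun g hg => (hΩ g).mp hg, ?_⟩
  -- an element of order p outside C
  obtain ⟨t, ht⟩ : ∃ t : R, t ∉ C := by
    by_contra hall
    have : C = ⊤ := by
      rw [eq_top_iff]; intro x _
      by_contra hx; exact hall ⟨x, hx⟩
    rw [this, Subgroup.index_top] at hCi
    exact hpp.one_lt.ne hCi
  have htp : t ^ p ∈ C := by
    rw [← QuotientGroup.eq_one_iff, QuotientGroup.mk_pow]
    have hcard : Nat.card (R ⧸ C) = p := hCi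
    rw [← hcard]; exact pow_card_eq_one'
  obtain ⟨r, hr⟩ := hcC _ htp
  have hu : ∃ u : R, u ∉ C ∧ u ^ p = 1 := by
    by_cases hpr : p ∣ r
    · obtain ⟨r', rfl⟩ := hpr
      refine ⟨t * (c ^ r')⁻¹, ?_, ?_⟩
      · intro h
        apply ht
        have := C.mul_mem h (C.pow_mem hcmem r')
        simpa using this
      · rw [hmul, hr, inv_pow, ← pow_mul, mul_comm r' p, mul_inv_cancel]
    · exfalso
      apply hnc
      obtain ⟨m, hm⟩ := IsPGroup.iff_orderOf.mp hR c
      have hcop : Nat.Coprime r (orderOf c) := by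
        rw [hm]
        exact ((Nat.Prime.coprime_iff_not_dvd hpp).mpr hpr).symm.pow_right m
      have h1lt : 1 < orderOf c := lt_of_lt_of_le hpp.one_lt (Nat.le_of_dvd (orderOf_pos c) hpc)
      obtain ⟨s, -, hs⟩ := Nat.exists_mul_mod_eq_one_of_coprime hcop h1lt
      have hct : c ∈ Subgroup.zpowers t := by
        have e : (t ^ p) ^ s = c := by
          rw [hr, ← pow_mul, ← pow_mod_orderOf, hs, pow_one]
        rw [← e]
        exact Subgroup.pow_mem _ (Subgroup.pow_mem _ (Subgroup.mem_zpowers t) p) s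
      rw [isCyclic_iff_exists_zpowers_eq_top]
      refine ⟨t, ?_⟩
      rw [eq_top_iff]
      intro g _
      obtain ⟨x, hx, i, rfl⟩ := exists_mul_pow_of_index_prime C hCi ht g
      obtain ⟨i', rfl⟩ := hcC x hx
      exact Subgroup.mul_mem _ (Subgroup.pow_mem _ hct i')
        (Subgroup.pow_mem _ (Subgroup.mem_zpowers t) i)
  obtain ⟨u, huC, hup⟩ := hu
  have huΩ : u ∈ Subgroup.closure {x : R | x ^ p = 1} := Subgroup.subset_closure hup
  have hsup : Subgroup.closure {x : R | x ^ p = 1} ⊔ C = ⊤ := by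
    rw [eq_top_iff]; intro g _
    obtain ⟨x, hx, i, rfl⟩ := exists_mul_pow_of_index_prime C hCi huC g
    exact Subgroup.mul_mem _ (Subgroup.mem_sup_right hx)
      (Subgroup.mem_sup_left (Subgroup.pow_mem _ huΩ i))
  have hinf : C ⊓ Subgroup.closure {x : R | x ^ p = 1} = Subgroup.zpowers z := by
    apply le_antisymm
    · rintro x ⟨hxC, hxΩ⟩
      exact hzC' x hxC ((hΩ x).mp hxΩ)
    · rw [Subgroup.zpowers_le]
      exact ⟨hzC, Subgroup.subset_closure (by
        show z ^ p = 1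
        rw [← hzo]; exact pow_orderOf_eq_one z)⟩
  have h1 : C.relIndex (Subgroup.closure {x : R | x ^ p = 1} ⊔ C)
      = C.relIndex (Subgroup.closure {x : R | x ^ p = 1}) := Subgroup.relIndex_sup_right _ _
  rw [hsup, Subgroup.relIndex_top_right, hCi] at h1
  have h2 := relIndex_mul_card_inf C (Subgroup.closure {x : R | x ^ p = 1})
  rw [← h1, hinf, Nat.card_zpowers, hzo] at h2
  rw [← h2]; ring

end Cfsg.Agent.H3
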