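import Cfsg.Agent.H3.Meta1
import Cfsg.Prelude.Def_OddOrderLocal
import Mathlib

set_option autoImplicit false

namespace Cfsg.Agent.H3

universe u

/-- In a finite `p`-group, if `⟨u⟩` is normal with `u` of order `p ^ n` (`n ≥ 1`), then
`u ^ p ^ (n - 1)` is central. -/
theorem pow_mem_center_of_zpowers_normal {G : Type*} [Group G] [Finite G] {p : ℕ}
    [Fact p.Prime] (hG : IsPGroup p G) {u : G} {n : ℕ} (hord : orderOf u = p ^ n)
    (hn1 : 1 ≤ n) (hnorm : ∀ g : G, g * u * g⁻¹ ∈ Subgroup.zpowers u) :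
    u ^ p ^ (n - 1) ∈ Subgroup.center G := by
  have hp : p.Prime := Fact.out
  have hzU : u ^ p ^ (n - 1) ∈ Subgroup.zpowers u := Subgroup.pow_mem _ (Subgroup.mem_zpowers u) _
  have hzp : (u ^ p ^ (n - 1)) ^ p = 1 := by
    rw [← pow_mul, ← pow_succ, (show n - 1 + 1 = n by omega), ← hord]
    exact pow_orderOf_eq_one u
  have hz1 : u ^ p ^ (n - 1) ≠ 1 := by
    intro h0
    have h1 := orderOf_dvd_of_pow_eq_one h0
    rw [hord] at h1
    have h2 := Nat.le_of_dvd (pow_pos hp.pos _) h1
    have h3 := (Nat.pow_le_pow_iff_right hp.one_lt).mp h2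
    omega
  have hzo : orderOf (u ^ p ^ (n - 1)) = p := orderOf_eq_prime hzp hz1
  have hZcard : Nat.card (Subgroup.zpowers (u ^ p ^ (n - 1))) = p := by
    rw [Nat.card_zpowers, hzo]
  have hZexp : ∀ t ∈ Subgroup.zpowers (u ^ p ^ (n - 1)), t ^ p = 1 := by
    intro t ht
    obtain ⟨k, hk⟩ := Subgroup.mem_zpowers_iff.mp ht
    rw [← hk, ← zpow_natCast, ← zpow_mul, mul_comm, zpow_mul, zpow_natCast, hzp, one_zpow]
  have hUn : ∀ x ∈ Subgroup.zpowers u, ∀ g : G, g * x * g⁻¹ ∈ Subgroup.zpowers u := by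
    intro x hx g
    obtain ⟨k, rfl⟩ := Subgroup.mem_zpowers_iff.mp hx
    rw [← conj_zpow]
    exact Subgroup.zpow_mem _ (hnorm g) k
  haveI hZn : (Subgroup.zpowers (u ^ p ^ (n - 1))).Normal := by
    constructor
    intro t ht g
    apply mem_zpowers_pow_of_pow_eq_one hp hn1 hord
    · exact hUn t ((Subgroup.zpowers_le.mpr hzU) ht) g
    · rw [conj_pow, hZexp t ht, mul_one, mul_inv_cancel]
  have hne : Subgroup.zpowers (u ^ p ^ (n - 1)) ≠ ⊥ := by
    intro h
    have := Subgroup.mem_zpowers (u ^ p ^ (n - 1))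
    rw [h, Subgroup.mem_bot] at this
    exact hz1 this
  obtain ⟨c, hcZ, hcc, hc1⟩ := normal_inf_center_ne_bot hG _ hne
  have hco : orderOf c = p := orderOf_eq_prime (hZexp c hcZ) hc1
  have heq : Subgroup.zpowers c = Subgroup.zpowers (u ^ p ^ (n - 1)) :=
    Subgroup.eq_of_le_of_card_ge (Subgroup.zpowers_le.mpr hcZ) (by
      rw [hZcard, Nat.card_zpowers, hco])
  have hzc : u ^ p ^ (n - 1) ∈ Subgroup.zpowers c := by
    rw [heq]; exact Subgroup.mem_zpowers _
  exact (Subgroup.zpowers_le.mpr hcc) hzc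

/-- For `p > 3`, a `p`-group with `|Ω₁| ≤ p ^ 2` has cyclic derived subgroup. -/
theorem commutator_isCyclic (p : ℕ) [Fact p.Prime] (hp : 3 < p) (R : Type u) [Group R]
    [Finite R] (hR : IsPGroup p R)
    (hO : Nat.card (Cfsg.omegaOne p (⊤ : Subgroup R)) ≤ p ^ 2) : IsCyclic (commutator R) := by
  by_contra hnc
  have hpp : p.Prime := Fact.out
  have hDp : IsPGroup p (commutator R) := hR.to_subgroup _
  haveI hKn : ((frattini (commutator R)).map (commutator R).subtype).Normal :=
    ConjAct.normal_of_characteristic_of_normal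
  have hKD : (frattini (commutator R)).map (commutator R).subtype ≤ commutator R := by
    rintro _ ⟨x, -, rfl⟩
    exact x.2
  have hKcard : Nat.card ((frattini (commutator R)).map (commutator R).subtype) =
      Nat.card (frattini (commutator R)) := Subgroup.card_subtype _ _
  have hDK : p ^ 2 * Nat.card ((frattini (commutator R)).map (commutator R).subtype) ≤
      Nat.card (commutator R) := by
    rw [hKcard]; exact sq_mul_card_frattini_le hDp hnc
  generalize hKdef : (frattini (commutator R)).map (commutator R).subtype = K at hKn hKD hKcard hDK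
  have hQ : IsPGroup p (R ⧸ K) := hR.to_quotient K
  have hOQ := omega_quotient p hp _ R hR hO K rfl
  have hcQ : commutator (R ⧸ K) = (commutator R).map (QuotientGroup.mk' K) := by
    rw [commutator_def, commutator_def, Subgroup.map_commutator,
      Subgroup.map_top_of_surjective _ (QuotientGroup.mk'_surjective K)]
  have hcardDt : Nat.card K * Nat.card ((commutator R).map (QuotientGroup.mk' K)) =
      Nat.card (commutator R) := by
    rw [← card_comap_mk' K ((commutator R).map (QuotientGroup.mk' K)), Subgroup.comap_map_eq,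
      QuotientGroup.ker_mk', sup_eq_left.mpr hKD]
  have hexp : ∀ d ∈ commutator (R ⧸ K), d ^ p = 1 := by
    rw [hcQ]
    rintro _ ⟨d, hd, rfl⟩
    rw [← map_pow]
    apply (QuotientGroup.eq_one_iff _).mpr
    rw [← hKdef]
    exact ⟨⟨d, hd⟩ ^ p, pow_mem_frattini hDp ⟨d, hd⟩, rfl⟩
  have hle : commutator (R ⧸ K) ≤ Cfsg.omegaOne p (⊤ : Subgroup (R ⧸ K)) := by
    intro d hd
    exact Subgroup.subset_closure ⟨Subgroup.mem_top _, hexp d hd⟩
  have hcard : Nat.card (commutator (R ⧸ K)) = p ^ 2 := by
    apply le_antisymm ((Subgroup.card_le_of_le hle).trans hOQ)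
    rw [hcQ]
    rw [← hcardDt] at hDK
    have hKpos : 0 < Nat.card K := Nat.card_pos
    have : Nat.card K * p ^ 2 ≤
        Nat.card K * Nat.card ((commutator R).map (QuotientGroup.mk' K)) := by
      rw [mul_comm]; exact hDK
    exact Nat.le_of_mul_le_mul_left this hKpos
  have heq : commutator (R ⧸ K) = Cfsg.omegaOne p (⊤ : Subgroup (R ⧸ K)) :=
    Subgroup.eq_of_le_of_card_ge hle (by rw [hcard]; exact hOQ)
  have h3 : ∀ x : R ⧸ K, x ^ p = 1 → x ∈ commutator (R ⧸ K) := by
    intro x hx
    rw [heq]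
    exact Subgroup.subset_closure ⟨Subgroup.mem_top _, hx⟩
  have h4 := card_frattini_quotient_le p hp (R ⧸ K) hQ hOQ
  exact commutator_contra p hp (R ⧸ K) hQ hcard hexp h3 h4

/-- Class two with derived subgroup of order `p`: some `y ∉ Φ(R)` has `R' ≤ ⟨y⟩`. -/
theorem exists_gen_of_commutator_prime (p : ℕ) [Fact p.Prime] (hp2 : p ≠ 2) (R : Type*)
    [Group R] [Finite R] (hR : IsPGroup p R) (hnc : ¬ IsCyclic R)
    (hO : Nat.card (Cfsg.omegaOne p (⊤ : Subgroup R)) ≤ p ^ 2)
    (c0 : R) (hc0 : c0 ≠ 1) (hc0p : c0 ^ p = 1) (hc0c : c0 ∈ Subgroup.center R)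
    (hcomm : commutator R ≤ Subgroup.zpowers c0) :
    ∃ y : R, y ∉ frattini R ∧ c0 ∈ Subgroup.zpowers y := by
  have hpp : p.Prime := Fact.out
  have hd2 : p ∣ p.choose 2 := hpp.dvd_choose_self (by norm_num) (by
    have := hpp.two_le
    omega)
  have hZexp : ∀ t ∈ Subgroup.zpowers c0, t ^ p = 1 := by
    intro t ht
    obtain ⟨k, rfl⟩ := Subgroup.mem_zpowers_iff.mp ht
    rw [← zpow_natCast, ← zpow_mul, mul_comm, zpow_mul, zpow_natCast, hc0p, one_zpow]
  have hZc : Subgroup.zpowers c0 ≤ Subgroup.center R := Subgroup.zpowers_le.mpr hc0c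
  have hmul : ∀ x y : R, (x * y) ^ p = x ^ p * y ^ p := by
    intro x y
    have ht : y⁻¹ * x⁻¹ * y * x ∈ Subgroup.zpowers c0 := hcomm (basic_rel_mem_commutator x y)
    have h3 := mul_pow_of_rel (basic_rel x y) (hZc ht) p
    obtain ⟨c, hc⟩ := hd2
    rw [h3, hc, pow_mul, hZexp _ ht, one_pow, mul_one]
  let P : R →* R := { toFun := fun x => x ^ p, map_one' := one_pow p, map_mul' := hmul }
  have hker : P.ker ≤ Cfsg.omegaOne p (⊤ : Subgroup R) := by
    intro x hx
    exact Subgroup.subset_closure ⟨Subgroup.mem_top _, MonoidHom.mem_ker.mp hx⟩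
  have hrange_le : P.range ≤ frattini R := by
    rintro _ ⟨x, rfl⟩
    exact pow_mem_frattini hR x
  have hcard : Nat.card R = Nat.card P.range * Nat.card P.ker := by
    have e := QuotientGroup.quotientKerEquivRange P
    have := Subgroup.card_eq_card_quotient_mul_card_subgroup P.ker
    rw [Nat.card_congr e.toEquiv] at this
    exact this
  have hΦ : P.range = frattini R := by
    apply Subgroup.eq_of_le_of_card_ge hrange_le
    have h1 := sq_mul_card_frattini_le hR hnc
    have h2 : Nat.card P.ker ≤ p ^ 2 := (Subgroup.card_le_of_le hker).trans hO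
    have hpos : 0 < p ^ 2 := pow_pos hpp.pos 2
    have : p ^ 2 * Nat.card (frattini R) ≤ Nat.card P.range * p ^ 2 := by
      calc p ^ 2 * Nat.card (frattini R) ≤ Nat.card R := h1
        _ = Nat.card P.range * Nat.card P.ker := hcard
        _ ≤ Nat.card P.range * p ^ 2 := Nat.mul_le_mul_left _ h2
    nlinarith
  haveI : Nonempty {y : R // c0 ∈ Subgroup.zpowers y} := ⟨⟨c0, Subgroup.mem_zpowers c0⟩⟩
  obtain ⟨⟨y, hy⟩, hmax⟩ :=
    Finite.exists_max (fun y : {y : R // c0 ∈ Subgroup.zpowers y} => orderOf (y : R))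
  refine ⟨y, ?_, hy⟩
  intro hyΦ
  rw [← hΦ] at hyΦ
  obtain ⟨w, hw⟩ := hyΦ
  have hw' : w ^ p = y := hw
  have hcw : c0 ∈ Subgroup.zpowers w :=
    (Subgroup.zpowers_le.mpr (by
      rw [← hw']; exact Subgroup.pow_mem _ (Subgroup.mem_zpowers w) p)) hy
  have h1 := hmax ⟨w, hcw⟩
  have hy1 : y ≠ 1 := by
    intro h
    rw [h, Subgroup.zpowers_one_eq_bot, Subgroup.mem_bot] at hy
    exact hc0 hy
  have hw1 : w ≠ 1 := by
    intro h
    rw [h, one_pow] at hw'
    exact hy1 hw'.symm
  obtain ⟨f, hf⟩ := (IsPGroup.iff_orderOf (p := p)).1 hR w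
  have hf1 : 1 ≤ f := by
    rcases Nat.eq_zero_or_pos f with h0 | h0
    · rw [h0, pow_zero] at hf
      exact absurd (orderOf_eq_one_iff.mp hf) hw1
    · exact h0
  have h2 : orderOf y = p ^ (f - 1) := by
    rw [← hw', orderOf_pow' w hpp.ne_zero, hf]
    have h3 : Nat.gcd (p ^ f) p = p := Nat.gcd_eq_right (dvd_pow_self p (by omega))
    rw [h3]
    have : p ^ f = p ^ (f - 1) * p := by
      rw [← pow_succ]; congr 1; omega
    rw [this, Nat.mul_div_cancel _ hpp.pos]
  simp only at h1
  rw [hf, h2] at h1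
  have := (Nat.pow_le_pow_iff_right hpp.one_lt).mp h1
  omega

/-- For `p > 3`, a noncyclic `p`-group with `|Ω₁| ≤ p ^ 2` has an element `x ∉ Φ(R)` with
`R' ≤ ⟨x⟩`. -/
theorem exists_gen_commutator (p : ℕ) [Fact p.Prime] (hp : 3 < p) :
    ∀ (n : ℕ) (R : Type u) [Group R] [Finite R], Nat.card R = n → IsPGroup p R →
      Nat.card (Cfsg.omegaOne p (⊤ : Subgroup R)) ≤ p ^ 2 → ¬ IsCyclic R →
      ∃ x : R, x ∉ frattini R ∧ commutator R ≤ Subgroup.zpowers x := by
  have hpp : p.Prime := Fact.out
  have hp2 : p ≠ 2 := by omega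
  intro n
  induction n using Nat.strong_induction_on with
  | _ n ih =>
    intro R _ _ hn hR hO hnc
    have hDcyc := commutator_isCyclic p hp R hR hO
    by_cases hD1 : commutator R = ⊥
    · obtain ⟨a, ha⟩ : ∃ a : R, a ∉ frattini R := by
        by_contra hcon
        push Not at hcon
        have hΦtop : frattini R = ⊤ := eq_top_iff.mpr (fun x _ => hcon x)
        have h5 : (⊥ : Subgroup R) ⊔ frattini R = ⊤ := by rw [hΦtop, bot_sup_eq]
        have h6 := frattini_nongenerating h5
        apply hnc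
        refine ⟨⟨1, fun x => ?_⟩⟩
        have hx : x ∈ (⊥ : Subgroup R) := by rw [h6]; exact Subgroup.mem_top x
        rw [Subgroup.mem_bot] at hx
        exact ⟨0, by simp [hx]⟩
      exact ⟨a, ha, by rw [hD1]; exact bot_le⟩
    · obtain ⟨⟨d, hdD⟩, hgen⟩ := hDcyc.exists_generator
      have hDeq : Subgroup.zpowers d = commutator R := by
        apply le_antisymm (Subgroup.zpowers_le.mpr hdD)
        intro x hx
        obtain ⟨i, hi⟩ := Subgroup.mem_zpowers_iff.mp (hgen ⟨x, hx⟩)
        have := congrArg Subtype.val hi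
        rw [Subgroup.mem_zpowers_iff]
        exact ⟨i, by simpa using this⟩
      obtain ⟨e, he⟩ := (IsPGroup.iff_orderOf (p := p)).1 hR d
      have he1 : 1 ≤ e := by
        by_contra h
        have h0 : e = 0 := by omega
        rw [h0, pow_zero] at he
        have hd1 := orderOf_eq_one_iff.mp he
        apply hD1
        rw [← hDeq, hd1]
        exact Subgroup.zpowers_one_eq_bot
      have hnormd : ∀ g : R, g * d * g⁻¹ ∈ Subgroup.zpowers d := by
        intro g
        rw [hDeq]
        exact (inferInstance : (commutator R).Normal).conj_mem d hdD g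
      have hc0c : d ^ p ^ (e - 1) ∈ Subgroup.center R :=
        pow_mem_center_of_zpowers_normal hR he he1 hnormd
      have hc0p : (d ^ p ^ (e - 1)) ^ p = 1 := by
        rw [← pow_mul, ← pow_succ, (show e - 1 + 1 = e by omega), ← he]
        exact pow_orderOf_eq_one d
      have hc01 : d ^ p ^ (e - 1) ≠ 1 := by
        intro h0
        have h1 := orderOf_dvd_of_pow_eq_one h0
        rw [he] at h1
        have h2 := Nat.le_of_dvd (pow_pos hpp.pos _) h1
        have h3 := (Nat.pow_le_pow_iff_right hpp.one_lt).mp h2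
        omega
      have hc0D : d ^ p ^ (e - 1) ∈ commutator R := (commutator R).pow_mem hdD _
      generalize hc0def : d ^ p ^ (e - 1) = c0 at hc0c hc0p hc01 hc0D
      have hT0c : Subgroup.zpowers c0 ≤ Subgroup.center R := Subgroup.zpowers_le.mpr hc0c
      haveI hT0n : (Subgroup.zpowers c0).Normal := by
        constructor
        intro x hx g
        have : g * x * g⁻¹ = x := by
          rw [Subgroup.mem_center_iff.mp (hT0c hx) g, mul_inv_cancel_right]
        rw [this]; exact hx
      have hT0card : Nat.card (Subgroup.zpowers c0) = p := by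
        rw [Nat.card_zpowers, orderOf_eq_prime hc0p hc01]
      have hT0exp : ∀ t ∈ Subgroup.zpowers c0, t ^ p = 1 := by
        intro t ht
        obtain ⟨k, rfl⟩ := Subgroup.mem_zpowers_iff.mp ht
        rw [← zpow_natCast, ← zpow_mul, mul_comm, zpow_mul, zpow_natCast, hc0p, one_zpow]
      have hRbar : IsPGroup p (R ⧸ Subgroup.zpowers c0) := hR.to_quotient _
      have hObar := omega_quotient p hp _ R hR hO (Subgroup.zpowers c0) rfl
      have hcardbar : Nat.card (R ⧸ Subgroup.zpowers c0) < n := by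
        have h1 := Subgroup.card_eq_card_quotient_mul_card_subgroup (Subgroup.zpowers c0)
        rw [hn, hT0card] at h1
        have h0 : 0 < Nat.card (R ⧸ Subgroup.zpowers c0) := Nat.card_pos
        have := hpp.one_lt
        nlinarith
      have hncbar : ¬ IsCyclic (R ⧸ Subgroup.zpowers c0) := by
        intro hcyc
        haveI := hcyc
        have hcommR : ∀ a b : R, a * b = b * a := fun a b =>
          ((QuotientGroup.mk' (Subgroup.zpowers c0)).isMulCommutative_of_isCyclic_of_ker_le_center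
            (by rw [QuotientGroup.ker_mk']; exact hT0c)).is_comm.comm a b
        apply hD1
        rw [eq_bot_iff, commutator_def, Subgroup.commutator_le]
        intro a _ b _
        rw [Subgroup.mem_bot, commutatorElement_def, hcommR a b, mul_inv_cancel_right,
          mul_inv_cancel]
      obtain ⟨xb, hxbΦ, hxbD⟩ := ih _ hcardbar (R ⧸ Subgroup.zpowers c0) rfl hRbar hObar hncbar
      obtain ⟨x, rfl⟩ := QuotientGroup.mk_surjective xb
      have hxΦ : x ∉ frattini R := fun h => hxbΦ
        (frattini_le_comap_frattini_of_surjective (φ := QuotientGroup.mk' (Subgroup.zpowers c0))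
          (QuotientGroup.mk'_surjective _) h)
      have hdec : ∀ c ∈ commutator R, ∃ j : ℤ, ∃ t ∈ Subgroup.zpowers c0, c = x ^ j * t := by
        intro c hc
        apply mem_comap_zpowers (Subgroup.zpowers c0) x c
        rw [Subgroup.mem_comap]
        apply hxbD
        rw [commutator_def] at hc ⊢
        have := Subgroup.mem_map_of_mem (QuotientGroup.mk' (Subgroup.zpowers c0)) hc
        rw [Subgroup.map_commutator,
          Subgroup.map_top_of_surjective _ (QuotientGroup.mk'_surjective _)] at this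
        exact this
      by_cases hc0x : c0 ∈ Subgroup.zpowers x
      · refine ⟨x, hxΦ, ?_⟩
        intro c hc
        obtain ⟨j, t, ht, rfl⟩ := hdec c hc
        exact Subgroup.mul_mem _ (Subgroup.zpow_mem_zpowers x j)
          ((Subgroup.zpowers_le.mpr hc0x) ht)
      · have he' : e = 1 := by
          by_contra hne
          have he2 : 2 ≤ e := by omega
          obtain ⟨j, t, ht, hdt⟩ := hdec d hdD
          have htc := hT0c ht
          have hdp : d ^ p = (x ^ j) ^ p := by
            have hc : Commute (x ^ j) t := Subgroup.mem_center_iff.mp htc (x ^ j)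
            rw [hdt, hc.mul_pow, hT0exp t ht, mul_one]
          apply hc0x
          have : c0 = (d ^ p) ^ p ^ (e - 2) := by
            rw [← hc0def, ← pow_mul, ← pow_succ']; congr 2; omega
          rw [this, hdp]
          exact Subgroup.pow_mem _ (Subgroup.pow_mem _ (Subgroup.zpow_mem_zpowers x j) p) _
        have hc0d : c0 = d := by
          rw [← hc0def, he', Nat.sub_self, pow_zero, pow_one]
        have hcomm' : commutator R ≤ Subgroup.zpowers c0 := by rw [hc0d, hDeq]
        obtain ⟨y, hyΦ, hy⟩ :=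
          exists_gen_of_commutator_prime p hp2 R hR hnc hO c0 hc01 hc0p hc0c hcomm'
        exact ⟨y, hyΦ, hcomm'.trans (Subgroup.zpowers_le.mpr hy)⟩

/-- For `p > 3`, a `p`-group with `|Ω₁| ≤ p ^ 2` is metacyclic. -/
theorem metacyclic_of_omega (p : ℕ) [Fact p.Prime] (hp : 3 < p) (R : Type u) [Group R]
    [Finite R] (hR : IsPGroup p R)
    (hO : Nat.card (Cfsg.omegaOne p (⊤ : Subgroup R)) ≤ p ^ 2) : Cfsg.IsMetacyclic R := by
  have hpp : p.Prime := Fact.out
  by_cases hcyc : IsCyclic R
  · refine ⟨⊤, inferInstance, ?_, ?_⟩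
    · obtain ⟨g, hg⟩ := hcyc.exists_generator
      exact ⟨⟨⟨g, Subgroup.mem_top g⟩, fun x => by
        obtain ⟨k, hk⟩ := Subgroup.mem_zpowers_iff.mp (hg x.1)
        exact ⟨k, Subtype.ext (by simpa using hk)⟩⟩⟩
    · haveI : Subsingleton (R ⧸ (⊤ : Subgroup R)) := QuotientGroup.subsingleton_quotient_top
      exact isCyclic_of_subsingleton
  · obtain ⟨x, hxΦ, hxD⟩ := exists_gen_commutator p hp _ R rfl hR hO hcyc
    have hNn : (Subgroup.zpowers x).Normal := by
      constructor
      intro n hn g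
      have h1 : g * n * g⁻¹ * n⁻¹ ∈ Subgroup.zpowers x := hxD (by
        have := Subgroup.commutator_mem_commutator (Subgroup.mem_top g) (Subgroup.mem_top n)
        rw [commutator_def]
        rwa [commutatorElement_def] at this)
      have : g * n * g⁻¹ = (g * n * g⁻¹ * n⁻¹) * n := by group
      rw [this]
      exact Subgroup.mul_mem _ h1 hn
    have hNc : IsCyclic (Subgroup.zpowers x) :=
      ⟨⟨⟨x, Subgroup.mem_zpowers x⟩, fun y => by
        obtain ⟨k, hk⟩ := Subgroup.mem_zpowers_iff.mp y.2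
        exact ⟨k, Subtype.ext (by simpa using hk)⟩⟩⟩
    refine ⟨Subgroup.zpowers x, hNn, hNc, ?_⟩
    have h4 := card_frattini_quotient_le p hp R hR hO
    by_cases hb : ∃ b : R, b ∉ Subgroup.zpowers x ⊔ frattini R
    swap
    · push Not at hb
      have : Subgroup.zpowers x ⊔ frattini R = ⊤ := eq_top_iff.mpr (fun y _ => hb y)
      have h6 := frattini_nongenerating this
      exact absurd ⟨⟨x, fun y => by
        have hy : y ∈ Subgroup.zpowers x := by rw [h6]; exact Subgroup.mem_top y
        exact Subgroup.mem_zpowers_iff.mp hy⟩⟩ hcyc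
    obtain ⟨b, hb⟩ := hb
    have hgen : Subgroup.zpowers b ⊔ Subgroup.zpowers x = ⊤ := by
      apply frattini_nongenerating
      apply Subgroup.eq_top_of_le_card
      have hlt1 : frattini R < Subgroup.zpowers x ⊔ frattini R := by
        refine lt_of_le_of_ne le_sup_right (fun h => hxΦ ?_)
        rw [h]
        exact Subgroup.mem_sup_left (Subgroup.mem_zpowers x)
      have hlt2 : Subgroup.zpowers x ⊔ frattini R <
          (Subgroup.zpowers b ⊔ Subgroup.zpowers x) ⊔ frattini R := by
        refine lt_of_le_of_ne (sup_le_sup_right le_sup_right _) (fun h => hb ?_)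
        rw [h]
        exact Subgroup.mem_sup_left (Subgroup.mem_sup_left (Subgroup.mem_zpowers b))
      have c1 := card_mul_le_of_lt hR hlt1
      have c2 := card_mul_le_of_lt hR hlt2
      have c3 := Subgroup.card_eq_card_quotient_mul_card_subgroup (frattini R)
      calc Nat.card R = Nat.card (R ⧸ frattini R) * Nat.card (frattini R) := c3
        _ ≤ p ^ 2 * Nat.card (frattini R) := Nat.mul_le_mul_right _ h4
        _ = p * (p * Nat.card (frattini R)) := by ring
        _ ≤ p * Nat.card (Subgroup.zpowers x ⊔ frattini R : Subgroup R) :=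
          Nat.mul_le_mul_left _ c1
        _ ≤ _ := c2
    haveI := hNn
    refine ⟨⟨(b : R ⧸ Subgroup.zpowers x), fun q => ?_⟩⟩
    obtain ⟨g, rfl⟩ := QuotientGroup.mk_surjective q
    have hg : g ∈ Subgroup.zpowers b ⊔ Subgroup.zpowers x := by
      rw [hgen]; exact Subgroup.mem_top g
    obtain ⟨y, hy, z, hz, rfl⟩ := Subgroup.mem_sup_of_normal_right.mp hg
    obtain ⟨i, rfl⟩ := Subgroup.mem_zpowers_iff.mp hy
    refine ⟨i, ?_⟩
    show (b : R ⧸ Subgroup.zpowers x) ^ i = ((b ^ i * z : R) : R ⧸ Subgroup.zpowers x)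
    rw [QuotientGroup.mk_mul, (QuotientGroup.eq_one_iff z).mpr hz, mul_one, QuotientGroup.mk_zpow]

end Cfsg.Agent.H3
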