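import Cfsg.Agent.H3.Extraspecial

set_option autoImplicit false

namespace Cfsg.Agent.H3

universe u

/-- Suzuki: a `p`-group of order `p ^ m` with a self-centralizing subgroup of order `p ^ 2` has
class `m - 1`. -/
theorem suzuki_aux (p : ℕ) [Fact p.Prime] : ∀ (m : ℕ) (X : Type u) [Group X] [Finite X],
    Nat.card X = p ^ m → ∀ A : Subgroup X, Nat.card A = p ^ 2 →
    Subgroup.centralizer (A : Set X) = A → Group.nilpotencyClass X = m - 1 := by
  have hp : p.Prime := Fact.out
  intro m
  induction m with
  | zero =>
    intro X _ _ hX A hA hC
    exfalso
    have h1 := Subgroup.card_le_card_group A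
    rw [hA, hX, pow_zero] at h1
    have h2 : 1 < p ^ 2 := Nat.one_lt_pow (by norm_num) hp.one_lt
    omega
  | succ m ih =>
    intro X _ _ hX A hA hC
    have hXp : IsPGroup p X := IsPGroup.of_card hX
    have hnil : Group.IsNilpotent X := hXp.isNilpotent
    have hnt : Nontrivial X := by
      rw [← Finite.one_lt_card_iff_nontrivial, hX]
      exact Nat.one_lt_pow (by omega) hp.one_lt
    have hm1 : 2 ≤ m + 1 := by
      have h1 : Nat.card A ∣ Nat.card X := Subgroup.card_subgroup_dvd_card A
      rw [hA, hX] at h1
      exact (Nat.pow_dvd_pow_iff_le_right hp.one_lt).mp h1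
    by_cases hm2 : m + 1 = 2
    · have hAtop : A = ⊤ := Subgroup.eq_top_of_card_eq A (by rw [hA, hX, hm2])
      have hcomm : IsMulCommutative X := by
        refine ⟨⟨fun a b => ?_⟩⟩
        have h1 : b ∈ Subgroup.centralizer (A : Set X) := by rw [hC, hAtop]; trivial
        exact (Subgroup.mem_centralizer_iff.mp h1) a (by rw [hAtop]; trivial)
      have h1 : Group.nilpotencyClass X ≤ 1 :=
        Group.IsNilpotent.nilpotencyClass_le_one_iff.mpr hcomm
      have h0 : Group.nilpotencyClass X ≠ 0 := by
        intro h0
        rw [Group.nilpotencyClass_zero_iff_subsingleton] at h0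
        exact not_subsingleton X h0
      omega
    · have hm3 : 3 ≤ m + 1 := by omega
      have hZA : Subgroup.center X ≤ A := by
        rw [← hC]; exact Subgroup.center_le_centralizer _
      have hZne : Subgroup.center X ≠ A := by
        intro h
        have h1 : Subgroup.centralizer (A : Set X) = ⊤ := by
          rw [← h, Subgroup.centralizer_center]
        rw [hC] at h1
        have h2 : Nat.card A = Nat.card X := by rw [h1, Subgroup.card_top]
        rw [hA, hX] at h2
        have := Nat.pow_right_injective hp.two_le h2
        omega
      have hZcard : Nat.card (Subgroup.center X) = p := by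
        have hdvd : Nat.card (Subgroup.center X) ∣ p ^ 2 := hA ▸ Subgroup.card_dvd_of_le hZA
        obtain ⟨i, hi, hi'⟩ := (Nat.dvd_prime_pow hp).mp hdvd
        have hi0 : i ≠ 0 := by
          rintro rfl
          rw [pow_zero] at hi'
          exact (hXp.bot_lt_center).ne' (Subgroup.card_eq_one.mp hi')
        have hi2 : i ≠ 2 := by
          rintro rfl
          exact hZne (Subgroup.eq_of_le_of_card_ge hZA (by rw [hA, hi']))
        have hi1 : i = 1 := by omega
        rw [hi', hi1, pow_one]
      obtain ⟨a, haA, haZ⟩ := SetLike.exists_of_lt (lt_of_le_of_ne hZA hZne)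
      have hAgen : Subgroup.center X ⊔ Subgroup.zpowers a = A := by
        have hle : Subgroup.center X ⊔ Subgroup.zpowers a ≤ A :=
          sup_le hZA ((Subgroup.zpowers_le).mpr haA)
        apply Subgroup.eq_of_le_of_card_ge hle
        have hdvd : Nat.card (Subgroup.center X ⊔ Subgroup.zpowers a : Subgroup X) ∣ p ^ 2 :=
          hA ▸ Subgroup.card_dvd_of_le hle
        obtain ⟨i, hi, hi'⟩ := (Nat.dvd_prime_pow hp).mp hdvd
        have hlt : Nat.card (Subgroup.center X) <
            Nat.card (Subgroup.center X ⊔ Subgroup.zpowers a : Subgroup X) := by
          by_contra hcon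
          have h1 := Subgroup.eq_of_le_of_card_ge
            (le_sup_left : Subgroup.center X ≤ Subgroup.center X ⊔ Subgroup.zpowers a)
            (not_lt.mp hcon)
          exact haZ (h1 ▸ Subgroup.mem_sup_right (Subgroup.mem_zpowers a))
        rw [hZcard, hi'] at hlt
        have hi1 : 1 < i := by
          by_contra h
          have h1 : i ≤ 1 := by omega
          have h2 := Nat.pow_le_pow_right hp.pos h1
          rw [pow_one] at h2
          omega
        have hi2 : i = 2 := by omega
        rw [hA, hi', hi2]
      have hCa : Subgroup.centralizer ({a} : Set X) = A := by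
        apply le_antisymm
        · intro g hg
          rw [← hC, Subgroup.mem_centralizer_iff]
          have hle : A ≤ Subgroup.centralizer ({g} : Set X) := by
            rw [← hAgen]
            apply sup_le
            · intro z hz
              rw [Subgroup.mem_centralizer_iff]
              intro y hy
              rw [Set.mem_singleton_iff] at hy
              subst hy
              exact (Subgroup.mem_center_iff.mp hz y)
            · rw [Subgroup.zpowers_le, Subgroup.mem_centralizer_iff]
              intro y hy
              rw [Set.mem_singleton_iff] at hy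
              subst hy
              exact ((Subgroup.mem_centralizer_iff.mp hg) a rfl).symm
          intro x hx
          exact ((Subgroup.mem_centralizer_iff.mp (hle hx)) g rfl).symm
        · rw [← hC]
          exact Subgroup.centralizer_le (Set.singleton_subset_iff.mpr haA)
      have hXbar : Nat.card (X ⧸ Subgroup.center X) = p ^ m := by
        have h1 := Subgroup.card_eq_card_quotient_mul_card_subgroup (Subgroup.center X)
        rw [hX, hZcard, pow_succ] at h1
        exact (Nat.eq_of_mul_eq_mul_right hp.pos h1).symm
      have hDcomm : ∀ t ∈ (Subgroup.centralizer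
          ({(QuotientGroup.mk' (Subgroup.center X)) a} : Set (X ⧸ Subgroup.center X))).comap
            (QuotientGroup.mk' (Subgroup.center X)),
          t * a * t⁻¹ * a⁻¹ ∈ Subgroup.center X := by
        intro t ht
        rw [Subgroup.mem_comap, Subgroup.mem_centralizer_iff] at ht
        have h2 := ht _ rfl
        have h3 : (QuotientGroup.mk' (Subgroup.center X)) (t * a * t⁻¹ * a⁻¹) = 1 := by
          rw [map_mul, map_mul, map_mul, map_inv, map_inv, ← h2]
          group
        exact (QuotientGroup.eq_one_iff _).mp h3
      have hB := card_le_mul_card_inf_centralizer _ (Subgroup.center X) a hDcomm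
      have hDA : Nat.card ((Subgroup.centralizer
          ({(QuotientGroup.mk' (Subgroup.center X)) a} : Set (X ⧸ Subgroup.center X))).comap
            (QuotientGroup.mk' (Subgroup.center X)) ⊓ Subgroup.centralizer {a} : Subgroup X)
            ≤ p ^ 2 := by
        rw [← hA, hCa]
        exact Subgroup.card_le_of_le inf_le_right
      have hDcard : Nat.card ((Subgroup.centralizer
          ({(QuotientGroup.mk' (Subgroup.center X)) a} : Set (X ⧸ Subgroup.center X))).comap
            (QuotientGroup.mk' (Subgroup.center X))) =
          p * Nat.card (Subgroup.centralizer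
          ({(QuotientGroup.mk' (Subgroup.center X)) a} : Set (X ⧸ Subgroup.center X))) := by
        have h1 := Subgroup.index_comap_of_surjective (Subgroup.centralizer
          ({(QuotientGroup.mk' (Subgroup.center X)) a} : Set (X ⧸ Subgroup.center X)))
          (QuotientGroup.mk'_surjective (Subgroup.center X))
        have h2 := Subgroup.card_mul_index ((Subgroup.centralizer
          ({(QuotientGroup.mk' (Subgroup.center X)) a} : Set (X ⧸ Subgroup.center X))).comap
            (QuotientGroup.mk' (Subgroup.center X)))
        have h3 := Subgroup.card_mul_index (Subgroup.centralizer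
          ({(QuotientGroup.mk' (Subgroup.center X)) a} : Set (X ⧸ Subgroup.center X)))
        rw [hX, h1] at h2
        rw [hXbar] at h3
        have h4 : Nat.card ((Subgroup.centralizer
          ({(QuotientGroup.mk' (Subgroup.center X)) a} : Set (X ⧸ Subgroup.center X))).comap
            (QuotientGroup.mk' (Subgroup.center X))) * (Subgroup.centralizer
          ({(QuotientGroup.mk' (Subgroup.center X)) a} : Set (X ⧸ Subgroup.center X))).index =
            p * Nat.card (Subgroup.centralizer
          ({(QuotientGroup.mk' (Subgroup.center X)) a} : Set (X ⧸ Subgroup.center X))) *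
            (Subgroup.centralizer
          ({(QuotientGroup.mk' (Subgroup.center X)) a} : Set (X ⧸ Subgroup.center X))).index := by
          rw [h2, mul_assoc, h3, pow_succ, mul_comm]
        exact Nat.eq_of_mul_eq_mul_right (Nat.pos_of_ne_zero Subgroup.index_ne_zero_of_finite) h4
      have hDbar_le : Nat.card (Subgroup.centralizer
          ({(QuotientGroup.mk' (Subgroup.center X)) a} : Set (X ⧸ Subgroup.center X))) ≤ p ^ 2 := by
        have h1 : p * Nat.card (Subgroup.centralizer
          ({(QuotientGroup.mk' (Subgroup.center X)) a} : Set (X ⧸ Subgroup.center X))) ≤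
            p * p ^ 2 := by
          rw [← hDcard]
          refine hB.trans ?_
          rw [hZcard]
          exact Nat.mul_le_mul_left _ hDA
        exact Nat.le_of_mul_le_mul_left h1 hp.pos
      have hXbarp : IsPGroup p (X ⧸ Subgroup.center X) := IsPGroup.of_card hXbar
      have hπaD : (QuotientGroup.mk' (Subgroup.center X)) a ∈ Subgroup.centralizer
          ({(QuotientGroup.mk' (Subgroup.center X)) a} : Set (X ⧸ Subgroup.center X)) := by
        rw [Subgroup.mem_centralizer_iff]
        intro y hy
        rw [Set.mem_singleton_iff] at hy
        rw [hy]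
      obtain ⟨j, hj⟩ := IsPGroup.iff_card.mp (hXbarp.to_subgroup (Subgroup.centralizer
          ({(QuotientGroup.mk' (Subgroup.center X)) a} : Set (X ⧸ Subgroup.center X))))
      have hj2 : 2 ≤ j := by
        by_contra hcon
        have hj1 : j ≤ 1 := by omega
        have hnt' : Nontrivial (X ⧸ Subgroup.center X) := by
          rw [← Finite.one_lt_card_iff_nontrivial, hXbar]
          exact Nat.one_lt_pow (by omega) hp.one_lt
        have hcen : Subgroup.center (X ⧸ Subgroup.center X) ≤ Subgroup.centralizer
          ({(QuotientGroup.mk' (Subgroup.center X)) a} : Set (X ⧸ Subgroup.center X)) :=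
          Subgroup.center_le_centralizer _
        have hcen_ne : Subgroup.center (X ⧸ Subgroup.center X) ≠ ⊥ := (hXbarp.bot_lt_center).ne'
        have hdvd : Nat.card (Subgroup.center (X ⧸ Subgroup.center X)) ∣ p ^ j :=
          hj ▸ Subgroup.card_dvd_of_le hcen
        have hceq : Subgroup.center (X ⧸ Subgroup.center X) = Subgroup.centralizer
          ({(QuotientGroup.mk' (Subgroup.center X)) a} : Set (X ⧸ Subgroup.center X)) := by
          apply Subgroup.eq_of_le_of_card_ge hcen
          rw [hj]
          obtain ⟨i, hi, hi'⟩ := (Nat.dvd_prime_pow hp).mp hdvd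
          have hi0 : i ≠ 0 := by
            rintro rfl
            rw [pow_zero] at hi'
            exact hcen_ne (Subgroup.card_eq_one.mp hi')
          have hij : i = j := by omega
          rw [hi', hij]
        have hacen : (QuotientGroup.mk' (Subgroup.center X)) a ∈
            Subgroup.center (X ⧸ Subgroup.center X) := hceq ▸ hπaD
        have hDtop : Subgroup.centralizer
          ({(QuotientGroup.mk' (Subgroup.center X)) a} : Set (X ⧸ Subgroup.center X)) = ⊤ := by
          rw [Subgroup.centralizer_eq_top_iff_subset]
          exact Set.singleton_subset_iff.mpr hacen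
        have h5 : Nat.card (Subgroup.centralizer
          ({(QuotientGroup.mk' (Subgroup.center X)) a} : Set (X ⧸ Subgroup.center X))) = p ^ m := by
          rw [hDtop, Subgroup.card_top, hXbar]
        rw [hj] at h5
        have := Nat.pow_right_injective hp.two_le h5
        omega
      have hDbar_card : Nat.card (Subgroup.centralizer
          ({(QuotientGroup.mk' (Subgroup.center X)) a} : Set (X ⧸ Subgroup.center X))) = p ^ 2 := by
        apply le_antisymm hDbar_le
        rw [hj]
        exact Nat.pow_le_pow_right hp.pos hj2
      have hDab := (IsPGroup.isMulCommutative_of_card_eq_prime_sq hDbar_card).is_comm.comm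
      have hCD : Subgroup.centralizer ((Subgroup.centralizer
          ({(QuotientGroup.mk' (Subgroup.center X)) a} : Set (X ⧸ Subgroup.center X)) :
            Subgroup (X ⧸ Subgroup.center X)) : Set (X ⧸ Subgroup.center X)) =
          Subgroup.centralizer
          ({(QuotientGroup.mk' (Subgroup.center X)) a} : Set (X ⧸ Subgroup.center X)) := by
        apply le_antisymm
        · exact Subgroup.centralizer_le (Set.singleton_subset_iff.mpr hπaD)
        · intro g hg
          rw [Subgroup.mem_centralizer_iff]
          intro y hy
          exact congrArg Subtype.val (hDab ⟨y, hy⟩ ⟨g, hg⟩)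
      have hIH := ih (X ⧸ Subgroup.center X) hXbar _ hDbar_card hCD
      rw [Group.nilpotencyClass_eq_quotient_center_plus_one, hIH]
      omega

end Cfsg.Agent.H3
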