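import Cfsg.Agent.H3.MaxClass

set_option autoImplicit false

namespace Cfsg.Agent.H3

universe u

/-- Centre and central quotient cardinalities of a nontrivial `p`-group. -/
theorem card_center_quotient (p : ℕ) [Fact p.Prime] (n : ℕ) (X : Type u) [Group X] [Finite X]
    (hX : Nat.card X = p ^ n) (hn : 0 < n) :
    ∃ k : ℕ, 0 < k ∧ k ≤ n ∧ Nat.card (Subgroup.center X) = p ^ k ∧
      Nat.card (X ⧸ Subgroup.center X) = p ^ (n - k) := by
  have hp : p.Prime := Fact.out
  obtain ⟨k, hk0, hk⟩ := IsPGroup.card_center_eq_prime_pow hX hn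
  have hkn : k ≤ n := by
    have h1 : Nat.card (Subgroup.center X) ∣ Nat.card X := Subgroup.card_subgroup_dvd_card _
    rw [hk, hX] at h1
    exact (Nat.pow_dvd_pow_iff_le_right hp.one_lt).mp h1
  refine ⟨k, hk0, hkn, hk, ?_⟩
  have hq : Nat.card (X ⧸ Subgroup.center X) * p ^ k = p ^ n := by
    rw [← hk, ← hX]
    exact (Subgroup.card_eq_card_quotient_mul_card_subgroup _).symm
  have h2 : p ^ n = p ^ (n - k) * p ^ k := by
    rw [← pow_add]
    congr 1
    omega
  rw [h2] at hq
  exact Nat.eq_of_mul_eq_mul_right (pow_pos hp.pos k) hq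

/-- If the central quotient has order at most `p`, the group has class at most one. -/
theorem class_le_one_of_card_quotient (p : ℕ) [Fact p.Prime] (j : ℕ) (X : Type u) [Group X]
    [Finite X] [Group.IsNilpotent X]
    (hq : Nat.card (X ⧸ Subgroup.center X) = p ^ j) (hj : j ≤ 1) :
    Group.nilpotencyClass X ≤ 1 := by
  have hcyc : IsCyclic (X ⧸ Subgroup.center X) := by
    rcases Nat.le_one_iff_eq_zero_or_eq_one.mp hj with rfl | rfl
    · rw [pow_zero] at hq
      have : Subsingleton (X ⧸ Subgroup.center X) := (Nat.card_eq_one_iff_unique.mp hq).1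
      exact isCyclic_of_subsingleton
    · rw [pow_one] at hq
      exact isCyclic_of_prime_card hq
  have hcomm : IsMulCommutative X :=
    MonoidHom.isMulCommutative_of_isCyclic_of_ker_le_center (QuotientGroup.mk' (Subgroup.center X))
      (le_of_eq (QuotientGroup.ker_mk' _))
  exact Group.IsNilpotent.nilpotencyClass_le_one_iff.mpr hcomm

/-- A group of order `p ^ n`, `n ≥ 2`, has class at most `n - 1`. -/
theorem class_le_of_card (p : ℕ) [Fact p.Prime] : ∀ (n : ℕ) (X : Type u) [Group X] [Finite X],
    Nat.card X = p ^ n → 2 ≤ n → Group.nilpotencyClass X ≤ n - 1 := by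
  have hp : p.Prime := Fact.out
  intro n
  induction n using Nat.strong_induction_on with
  | _ n ih =>
    intro X _ _ hX hn
    have hXp : IsPGroup p X := IsPGroup.of_card hX
    have hnil : Group.IsNilpotent X := hXp.isNilpotent
    have hnt : Nontrivial X := by
      rw [← Finite.one_lt_card_iff_nontrivial, hX]
      exact Nat.one_lt_pow (by omega) hp.one_lt
    obtain ⟨k, hk0, hkn, hk, hq⟩ := card_center_quotient p n X hX (by omega)
    by_cases h2 : 2 ≤ n - k
    · have h3 := ih (n - k) (by omega) (X ⧸ Subgroup.center X) hq h2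
      rw [Group.nilpotencyClass_eq_quotient_center_plus_one]
      omega
    · have h3 := class_le_one_of_card_quotient p (n - k) X hq (by omega)
      omega

/-- The centre of a `p`-group of maximal class has order `p`. -/
theorem card_center_of_maxclass (p : ℕ) [Fact p.Prime] (n : ℕ) (X : Type u) [Group X] [Finite X]
    (hX : Nat.card X = p ^ n) (hn : 3 ≤ n) (hc : Group.nilpotencyClass X = n - 1) :
    Nat.card (Subgroup.center X) = p := by
  have hp : p.Prime := Fact.out
  have hXp : IsPGroup p X := IsPGroup.of_card hX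
  have hnil : Group.IsNilpotent X := hXp.isNilpotent
  obtain ⟨k, hk0, hkn, hk, hq⟩ := card_center_quotient p n X hX (by omega)
  have hcq : Group.nilpotencyClass (X ⧸ Subgroup.center X) = n - 2 := by
    rw [Group.nilpotencyClass_quotient_center, hc]
    omega
  have hk1 : k = 1 := by
    by_contra hk1
    have hk2 : 2 ≤ k := by omega
    by_cases h2 : 2 ≤ n - k
    · have h3 := class_le_of_card p (n - k) (X ⧸ Subgroup.center X) hq h2
      omega
    · have h3 := class_le_one_of_card_quotient p (n - k) X hq (by omega)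
      omega
  rw [hk, hk1, pow_one]

/-- The central quotient of a `p`-group of maximal class of order `p ^ n`, `n ≥ 3`. -/
theorem maxclass_quotient (p : ℕ) [Fact p.Prime] (n : ℕ) (X : Type u) [Group X] [Finite X]
    (hX : Nat.card X = p ^ n) (hn : 3 ≤ n) (hc : Group.nilpotencyClass X = n - 1) :
    Nat.card (X ⧸ Subgroup.center X) = p ^ (n - 1) ∧
      Group.nilpotencyClass (X ⧸ Subgroup.center X) = n - 1 - 1 := by
  have hp : p.Prime := Fact.out
  have hZ := card_center_of_maxclass p n X hX hn hc
  refine ⟨?_, ?_⟩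
  · have h1 := Subgroup.card_eq_card_quotient_mul_card_subgroup (Subgroup.center X)
    rw [hX, hZ] at h1
    have h2 : p ^ n = p ^ (n - 1) * p := by
      rw [← pow_succ]
      congr 1
      omega
    rw [h2] at h1
    exact (Nat.eq_of_mul_eq_mul_right hp.pos h1).symm
  · rw [Group.nilpotencyClass_quotient_center, hc]

/-- A `2`-group of maximal class has a cyclic subgroup of index `2`. -/
theorem exists_cyclic_index_two : ∀ (n : ℕ) (X : Type u) [Group X] [Finite X],
    3 ≤ n → Nat.card X = 2 ^ n → Group.nilpotencyClass X = n - 1 →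
    ∃ C : Subgroup X, IsCyclic C ∧ C.index = 2 := by
  have hfact : Fact (Nat.Prime 2) := ⟨Nat.prime_two⟩
  intro n
  induction n with
  | zero => intro X _ _ hn; omega
  | succ n ih =>
    intro X _ _ hn hX hc
    have hXp : IsPGroup 2 X := IsPGroup.of_card hX
    have hnil : Group.IsNilpotent X := hXp.isNilpotent
    by_cases hn3 : n + 1 = 3
    · -- base case: order 8, class 2
      have hn2 : n = 2 := by omega
      subst hn2
      have hex : ∃ g : X, ¬ orderOf g ∣ 2 := by
        by_contra hcon
        push Not at hcon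
        have hcomm : IsMulCommutative X :=
          ⟨⟨fun a b => Commute.of_orderOf_dvd_two hcon a b⟩⟩
        have h1 := Group.IsNilpotent.nilpotencyClass_le_one_iff.mpr hcomm
        omega
      obtain ⟨g, hg⟩ := hex
      have hdvd : orderOf g ∣ 2 ^ 3 := by
        rw [← hX]; exact orderOf_dvd_natCard g
      obtain ⟨i, hi, hi'⟩ := (Nat.dvd_prime_pow Nat.prime_two).mp hdvd
      have key : ∀ h : X, orderOf h = 4 → ∃ C : Subgroup X, IsCyclic C ∧ C.index = 2 := by
        intro h hh
        refine ⟨Subgroup.zpowers h, inferInstance, ?_⟩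
        have h1 := Subgroup.card_mul_index (Subgroup.zpowers h)
        rw [Nat.card_zpowers, hh, hX] at h1
        omega
      interval_cases i
      · exfalso; apply hg; rw [hi']; norm_num
      · exfalso; apply hg; rw [hi', pow_one]
      · exact key g (by rw [hi']; norm_num)
      · apply key (g ^ 2)
        rw [orderOf_pow, hi']
        norm_num
    · have hn3' : 3 ≤ n := by omega
      have hZ := card_center_of_maxclass 2 (n + 1) X hX hn hc
      obtain ⟨hQ, hQc⟩ := maxclass_quotient 2 (n + 1) X hX hn hc
      rw [Nat.add_sub_cancel] at hQ hQc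
      obtain ⟨Cbar, hCyc, hCidx⟩ := ih (X ⧸ Subgroup.center X) hn3' hQ hQc
      have hCbar_card : Nat.card Cbar = 2 ^ (n - 1) := by
        have h1 := Subgroup.card_mul_index Cbar
        rw [hCidx, hQ] at h1
        have h2 : 2 ^ n = 2 ^ (n - 1) * 2 := by
          rw [← pow_succ]; congr 1; omega
        rw [h2] at h1
        exact Nat.eq_of_mul_eq_mul_right (by norm_num) h1
      have hCidx' : (Cbar.comap (QuotientGroup.mk' (Subgroup.center X))).index = 2 := by
        rw [Subgroup.index_comap_of_surjective _ (QuotientGroup.mk'_surjective _)]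
        exact hCidx
      have hC_card : Nat.card (Cbar.comap (QuotientGroup.mk' (Subgroup.center X))) = 2 ^ n := by
        have h1 := Subgroup.card_mul_index (Cbar.comap (QuotientGroup.mk' (Subgroup.center X)))
        rw [hCidx', hX, pow_succ] at h1
        exact Nat.eq_of_mul_eq_mul_right (by norm_num) h1
      have hCn : (Cbar.comap (QuotientGroup.mk' (Subgroup.center X))).Normal :=
        Subgroup.normal_of_index_eq_two hCidx'
      obtain ⟨γ, hγ⟩ := IsCyclic.exists_generator (α := Cbar)
      obtain ⟨c, hc'⟩ := QuotientGroup.mk'_surjective (Subgroup.center X) (γ : X ⧸ Subgroup.center X)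
      have hcC : c ∈ Cbar.comap (QuotientGroup.mk' (Subgroup.center X)) := by
        rw [Subgroup.mem_comap, hc']; exact γ.2
      -- (F1)
      have F1 : ∀ h ∈ Cbar.comap (QuotientGroup.mk' (Subgroup.center X)),
          ∃ i : ℤ, ∃ z ∈ Subgroup.center X, h = c ^ i * z := by
        intro h hh
        rw [Subgroup.mem_comap] at hh
        obtain ⟨i, hi⟩ := Subgroup.mem_zpowers_iff.mp (hγ ⟨_, hh⟩)
        have h1 : (QuotientGroup.mk' (Subgroup.center X)) (c ^ i) =
            (QuotientGroup.mk' (Subgroup.center X)) h := by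
          rw [map_zpow, hc']
          have := congrArg Subtype.val hi
          rw [Subgroup.coe_zpow] at this
          exact this
        refine ⟨i, (c ^ i)⁻¹ * h, ?_, by group⟩
        exact QuotientGroup.eq.mp h1
      -- (F2)
      have F2 : ∀ z ∈ Subgroup.center X, z ^ 2 = 1 := by
        intro z hz
        have h1 : orderOf z ∣ 2 := by
          rw [← hZ]; exact Subgroup.orderOf_dvd_natCard _ hz
        exact orderOf_dvd_iff_pow_eq_one.mp h1
      have hsq : ∀ h ∈ Cbar.comap (QuotientGroup.mk' (Subgroup.center X)),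
          ∃ i : ℤ, h ^ 2 = (c ^ 2) ^ i := by
        intro h hh
        obtain ⟨i, z, hz, rfl⟩ := F1 h hh
        refine ⟨i, ?_⟩
        have hcomm : Commute (c ^ i) z := (Subgroup.mem_center_iff.mp hz (c ^ i))
        rw [hcomm.mul_pow, F2 z hz, mul_one, ← zpow_natCast, ← zpow_natCast, ← zpow_mul, ← zpow_mul,
          mul_comm]
      -- W = zpowers (c^2) is normal
      have hWn : (Subgroup.zpowers (c ^ 2)).Normal := by
        refine ⟨fun w hw x => ?_⟩
        obtain ⟨j, rfl⟩ := Subgroup.mem_zpowers_iff.mp hw
        have h1 : x * c * x⁻¹ ∈ Cbar.comap (QuotientGroup.mk' (Subgroup.center X)) :=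
          hCn.conj_mem c hcC x
        obtain ⟨i, hi⟩ := hsq _ h1
        have h2 : x * (c ^ 2) ^ j * x⁻¹ = ((x * c * x⁻¹) ^ 2) ^ j := by
          rw [conj_pow, conj_zpow]
        rw [h2, hi]
        exact Subgroup.zpow_mem _ (Subgroup.zpow_mem _ (Subgroup.mem_zpowers _) i) j
      have hWne : Subgroup.zpowers (c ^ 2) ≠ ⊥ := by
        intro hbot
        have hc2 : c ^ 2 = 1 := by
          have := Subgroup.mem_zpowers (c ^ 2)
          rw [hbot, Subgroup.mem_bot] at this
          exact this
        have hγ2 : γ ^ 2 = 1 := by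
          apply Subtype.ext
          rw [Subgroup.coe_pow, ← hc', ← map_pow, hc2, map_one]
          rfl
        have h1 : Nat.card Cbar = orderOf γ := by
          rw [← Nat.card_zpowers]
          have : Subgroup.zpowers γ = ⊤ := (Subgroup.eq_top_iff' _).mpr hγ
          rw [this, Subgroup.card_top]
        have h2 : orderOf γ ∣ 2 := orderOf_dvd_of_pow_eq_one hγ2
        have h3 : orderOf γ ≤ 2 := Nat.le_of_dvd (by norm_num) h2
        rw [← h1, hCbar_card] at h3
        have h4 : 2 ^ 2 ≤ 2 ^ (n - 1) := Nat.pow_le_pow_right (by norm_num) (by omega)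
        omega
      obtain ⟨w, hwW, hwZ, hw1⟩ := normal_inf_center_ne_bot hXp (Subgroup.zpowers (c ^ 2)) hWne
      have hwc : w ∈ Subgroup.zpowers c := by
        obtain ⟨j, rfl⟩ := Subgroup.mem_zpowers_iff.mp hwW
        exact Subgroup.zpow_mem _ (Subgroup.pow_mem _ (Subgroup.mem_zpowers c) 2) j
      have hZc : Subgroup.center X ≤ Subgroup.zpowers c := by
        have h1 : Subgroup.zpowers w = Subgroup.center X := by
          apply Subgroup.eq_of_le_of_card_ge ((Subgroup.zpowers_le).mpr hwZ)
          rw [hZ, Nat.card_zpowers]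
          have h2 : orderOf w ≠ 1 := fun h => hw1 (orderOf_eq_one_iff.mp h)
          have h3 : 0 < orderOf w := orderOf_pos w
          omega
        rw [← h1, Subgroup.zpowers_le]
        exact hwc
      have hCle : Cbar.comap (QuotientGroup.mk' (Subgroup.center X)) ≤ Subgroup.zpowers c := by
        intro h hh
        obtain ⟨i, z, hz, rfl⟩ := F1 h hh
        exact Subgroup.mul_mem _ (Subgroup.zpow_mem _ (Subgroup.mem_zpowers c) i) (hZc hz)
      have hCeq : Subgroup.zpowers c = Cbar.comap (QuotientGroup.mk' (Subgroup.center X)) :=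
        le_antisymm ((Subgroup.zpowers_le).mpr hcC) hCle
      refine ⟨Subgroup.zpowers c, inferInstance, ?_⟩
      rw [hCeq]
      exact hCidx'

end Cfsg.Agent.H3
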