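import Cfsg.Agent.H3.Rank4
import Cfsg.Agent.H3.MaxClass2
import Cfsg.Agent.H3.Class2

set_option autoImplicit false

namespace Cfsg.Agent.H3

universe u

/-- The rank bound passes to subgroups. -/
theorem rank_le_subgroup {R : Type u} [Group R] [Finite R] {p : ℕ} (k : ℕ)
    (hrk : ∀ E : Subgroup R, (∀ a ∈ E, ∀ b ∈ E, a * b = b * a) → (∀ a ∈ E, a ^ p = 1) →
      Nat.card E ≤ p ^ k) (S : Subgroup R) :
    ∀ E : Subgroup S, (∀ a ∈ E, ∀ b ∈ E, a * b = b * a) → (∀ a ∈ E, a ^ p = 1) →
      Nat.card E ≤ p ^ k := by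
  intro E hEc hEe
  have h1 := hrk (E.map S.subtype)
    (by
      rintro _ ⟨a, ha, rfl⟩ _ ⟨b, hb, rfl⟩
      exact congrArg Subtype.val (hEc a ha b hb))
    (by
      rintro _ ⟨a, ha, rfl⟩
      exact congrArg Subtype.val (hEe a ha))
  rw [Subgroup.card_subtype] at h1
  exact h1

/-- For `p > 3`, in a `p`-group of rank at most two the product of two elements of order
dividing `p` has order dividing `p`. -/
theorem mul_pow_eq_one_of_rank_two (p : ℕ) [Fact p.Prime] (hp : 3 < p) :
    ∀ (n : ℕ) (R : Type u) [Group R] [Finite R], Nat.card R = n → IsPGroup p R →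
      (∀ E : Subgroup R, (∀ a ∈ E, ∀ b ∈ E, a * b = b * a) → (∀ a ∈ E, a ^ p = 1) →
        Nat.card E ≤ p ^ 2) →
      ∀ x y : R, x ^ p = 1 → y ^ p = 1 → (x * y) ^ p = 1 := by
  have hpp : p.Prime := Fact.out
  have hp2 : p ≠ 2 := by omega
  intro n
  induction n using Nat.strong_induction_on with
  | _ n ih =>
    intro R _ _ hn hR hrk x y hx hy
    by_cases hgen : Subgroup.closure {x, y} = (⊤ : Subgroup R)
    swap
    · have hlt : Nat.card (Subgroup.closure {x, y} : Subgroup R) < n := by
        rw [← hn]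
        apply lt_of_le_of_ne (Subgroup.card_le_card_group _)
        intro heq
        exact hgen (Subgroup.eq_top_of_card_eq _ heq)
      have key := ih _ hlt (↥(Subgroup.closure {x, y} : Subgroup R)) rfl (hR.to_subgroup _)
        (rank_le_subgroup 2 hrk _)
        ⟨x, Subgroup.subset_closure (by simp)⟩ ⟨y, Subgroup.subset_closure (by simp)⟩
        (Subtype.ext hx) (Subtype.ext hy)
      exact congrArg Subtype.val key
    by_cases hab : x * y = y * x
    · have hc : Commute x y := hab
      rw [hc.mul_pow, hx, hy, one_mul]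
    -- a maximal normal elementary abelian subgroup
    have hfin : {A : Subgroup R | A.Normal ∧ (∀ a ∈ A, ∀ b ∈ A, a * b = b * a) ∧
        (∀ a ∈ A, a ^ p = 1)}.Finite := Set.toFinite _
    have hbot : (⊥ : Subgroup R) ∈ {A : Subgroup R | A.Normal ∧
        (∀ a ∈ A, ∀ b ∈ A, a * b = b * a) ∧ (∀ a ∈ A, a ^ p = 1)} := by
      refine ⟨inferInstance, ?_, ?_⟩
      · intro a ha b hb
        rw [Subgroup.mem_bot.mp ha, Subgroup.mem_bot.mp hb]
      · intro a ha
        rw [Subgroup.mem_bot.mp ha, one_pow]
    obtain ⟨A, -, hmax⟩ := hfin.exists_le_maximal hbot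
    obtain ⟨⟨hAn, hAc, hAe⟩, hmax'⟩ := hmax
    have star : ∀ u : R, u ^ p = 1 → (∀ a ∈ A, a * u = u * a) → u ∈ A := by
      intro u hup huC
      by_contra huA
      obtain ⟨B, hBn, hAB, hBc, hBe, hBcard⟩ := alperin_extend hp2 hR A hAc hAe u huA hup huC
      have hBA : B ≤ A := hmax' ⟨hBn, hBc, hBe⟩ hAB
      have h1 := Subgroup.card_le_of_le hBA
      rw [hBcard] at h1
      have hpos : 0 < Nat.card A := Nat.card_pos
      nlinarith [hpp.two_le]
    have hAcard : Nat.card A ≤ p ^ 2 := hrk A hAc hAe
    -- the centralizer of `A` has index at most `p`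
    have hidx : (Subgroup.centralizer (A : Set R)).index ≤ p := by
      obtain ⟨a, ha⟩ := IsPGroup.iff_card.mp (hR.to_subgroup A)
      have ha2 : a ≤ 2 := by
        rw [ha] at hAcard
        exact (Nat.pow_le_pow_iff_right hpp.one_lt).mp hAcard
      obtain ⟨N, hNn, hNA, hNcard, hbound⟩ := exists_normal_chain_centralizer hR A a ha a le_rfl
      have hNeq : N = A := Subgroup.eq_of_le_of_card_ge hNA (by rw [ha, hNcard])
      rw [hNeq] at hbound
      have he : a * (a - 1) / 2 ≤ 1 := by
        interval_cases a <;> simp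
      have h1 : Nat.card R ≤ p * Nat.card (Subgroup.centralizer (A : Set R)) := by
        calc Nat.card R ≤ p ^ (a * (a - 1) / 2) * Nat.card (Subgroup.centralizer (A : Set R)) :=
              hbound
          _ ≤ p ^ 1 * Nat.card (Subgroup.centralizer (A : Set R)) :=
              Nat.mul_le_mul_right _ (Nat.pow_le_pow_right hpp.pos he)
          _ = p * Nat.card (Subgroup.centralizer (A : Set R)) := by rw [pow_one]
      have h2 := Subgroup.index_mul_card (Subgroup.centralizer (A : Set R))
      rw [← h2] at h1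
      exact Nat.le_of_mul_le_mul_right h1 Nat.card_pos
    -- normal subgroups of small order containing the elements of order `p`
    have hN : ∀ u : R, u ^ p = 1 → ∃ N : Subgroup R, N.Normal ∧ A ≤ N ∧ u ∈ N ∧
        Nat.card N ≤ p * Nat.card A := by
      intro u hu
      have hune : Subgroup.zpowers u ≠ ⊤ := by
        intro htop
        apply hab
        have hx' : x ∈ Subgroup.zpowers u := by rw [htop]; exact Subgroup.mem_top x
        have hy' : y ∈ Subgroup.zpowers u := by rw [htop]; exact Subgroup.mem_top y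
        obtain ⟨i, rfl⟩ := Subgroup.mem_zpowers_iff.mp hx'
        obtain ⟨j, rfl⟩ := Subgroup.mem_zpowers_iff.mp hy'
        exact ((Commute.refl u).zpow_zpow i j).eq
      obtain ⟨M, hM, huM⟩ := (eq_top_or_exists_le_coatom (Subgroup.zpowers u)).resolve_left hune
      have hMn : M.Normal := coatom_normal hR hM
      have hMlt : Nat.card M < n := by
        rw [← hn]
        apply lt_of_le_of_ne (Subgroup.card_le_card_group _)
        intro heq
        exact hM.1 (Subgroup.eq_top_of_card_eq _ heq)
      have hΩ : ∀ g ∈ Subgroup.closure {v : R | v ∈ M ∧ v ^ p = 1}, g ∈ M ∧ g ^ p = 1 := by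
        intro g hg
        induction hg using Subgroup.closure_induction with
        | mem v hv => exact hv
        | one => exact ⟨M.one_mem, one_pow p⟩
        | mul a b _ _ iha ihb =>
          refine ⟨M.mul_mem iha.1 ihb.1, ?_⟩
          have key := ih _ hMlt (↥M) rfl (hR.to_subgroup _) (rank_le_subgroup 2 hrk _)
            ⟨a, iha.1⟩ ⟨b, ihb.1⟩ (Subtype.ext iha.2) (Subtype.ext ihb.2)
          exact congrArg Subtype.val key
        | inv a _ iha => exact ⟨M.inv_mem iha.1, by rw [inv_pow, iha.2, inv_one]⟩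
      have hΩn : (Subgroup.closure {v : R | v ∈ M ∧ v ^ p = 1}).Normal := ⟨fun g hg k => by
        apply Subgroup.subset_closure
        obtain ⟨h1, h2⟩ := hΩ g hg
        exact ⟨hMn.conj_mem g h1 k, by rw [conj_pow, h2, mul_one, mul_inv_cancel]⟩⟩
      have huΩ : u ∈ Subgroup.closure {v : R | v ∈ M ∧ v ^ p = 1} :=
        Subgroup.subset_closure ⟨huM (Subgroup.mem_zpowers u), hu⟩
      refine ⟨A ⊔ Subgroup.closure {v : R | v ∈ M ∧ v ^ p = 1}, Subgroup.sup_normal _ _,
        le_sup_left, (le_sup_right : Subgroup.closure {v : R | v ∈ M ∧ v ^ p = 1} ≤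
          A ⊔ Subgroup.closure {v : R | v ∈ M ∧ v ^ p = 1}) huΩ, ?_⟩
      have hinf : Subgroup.centralizer (A : Set R) ⊓
          (A ⊔ Subgroup.closure {v : R | v ∈ M ∧ v ^ p = 1}) ≤ A := by
        intro g hg
        obtain ⟨hg1, hg2⟩ := Subgroup.mem_inf.mp hg
        obtain ⟨a, ha, w, hw, rfl⟩ := mem_sup_of_normalizes A _
          (fun w _ a ha => hAn.conj_mem a ha w) hg2
        have hwC : w ∈ Subgroup.centralizer (A : Set R) := by
          have haC : a ∈ Subgroup.centralizer (A : Set R) := by
            rw [Subgroup.mem_centralizer_iff]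
            intro b hb
            exact hAc b hb a ha
          have e : w = a⁻¹ * (a * w) := by group
          rw [e]
          exact Subgroup.mul_mem _ (Subgroup.inv_mem _ haC) hg1
        have hwA : w ∈ A := star w (hΩ w hw).2
          (fun b hb => Subgroup.mem_centralizer_iff.mp hwC b hb)
        exact A.mul_mem ha hwA
      have h1 := relIndex_mul_card_inf (Subgroup.centralizer (A : Set R))
        (A ⊔ Subgroup.closure {v : R | v ∈ M ∧ v ^ p = 1})
      have h2 : (Subgroup.centralizer (A : Set R)).relIndex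
          (A ⊔ Subgroup.closure {v : R | v ∈ M ∧ v ^ p = 1}) ≤ p := by
        have h3 := Subgroup.relIndex_le_of_le_right (H := Subgroup.centralizer (A : Set R))
          (le_top : A ⊔ Subgroup.closure {v : R | v ∈ M ∧ v ^ p = 1} ≤ ⊤)
          Subgroup.index_ne_zero_of_finite
        rw [Subgroup.relIndex_top_right] at h3
        exact h3.trans hidx
      rw [← h1]
      exact Nat.mul_le_mul h2 (Subgroup.card_le_of_le hinf)
    obtain ⟨Nx, hNxn, hANx, hxNx, hNxcard⟩ := hN x hx
    obtain ⟨Ny, hNyn, hANy, hyNy, hNycard⟩ := hN y hy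
    have htop : Nx ⊔ Ny = ⊤ := by
      rw [eq_top_iff, ← hgen, Subgroup.closure_le]
      intro v hv
      rcases hv with rfl | hv
      · exact (le_sup_left : Nx ≤ Nx ⊔ Ny) hxNx
      · rw [Set.mem_singleton_iff] at hv
        rw [hv]
        exact (le_sup_right : Ny ≤ Nx ⊔ Ny) hyNy
    have hcardR : Nat.card R ≤ p ^ 4 := by
      have h1 := relIndex_mul_card_of_le (le_sup_right : Ny ≤ Nx ⊔ Ny)
      rw [Subgroup.relIndex_sup_right, htop, Subgroup.card_top] at h1
      have h2 := relIndex_mul_card_inf Ny Nx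
      have h3 : Nat.card A ≤ Nat.card (Ny ⊓ Nx : Subgroup R) :=
        Subgroup.card_le_of_le (le_inf hANy hANx)
      have h4 : Ny.relIndex Nx ≤ p := by
        have h5 : Ny.relIndex Nx * Nat.card A ≤ p * Nat.card A := by
          calc Ny.relIndex Nx * Nat.card A ≤ Ny.relIndex Nx * Nat.card (Ny ⊓ Nx : Subgroup R) :=
                Nat.mul_le_mul_left _ h3
            _ = Nat.card Nx := h2
            _ ≤ p * Nat.card A := hNxcard
        exact Nat.le_of_mul_le_mul_right h5 Nat.card_pos
      calc Nat.card R = Ny.relIndex Nx * Nat.card Ny := h1.symm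
        _ ≤ p * (p * Nat.card A) := Nat.mul_le_mul h4 hNycard
        _ ≤ p * (p * p ^ 2) := Nat.mul_le_mul_left _ (Nat.mul_le_mul_left _ hAcard)
        _ = p ^ 4 := by ring
    obtain ⟨m, hm⟩ := IsPGroup.iff_card.mp hR
    have hm4 : m ≤ 4 := by
      rw [hm] at hcardR
      exact (Nat.pow_le_pow_iff_right hpp.one_lt).mp hcardR
    have hm2 : 2 ≤ m := by
      by_contra hlt
      apply hab
      have hm1 : m = 0 ∨ m = 1 := by omega
      rcases hm1 with rfl | rfl
      · rw [pow_zero] at hm
        have : Subsingleton R := (Nat.card_eq_one_iff_unique.mp hm).1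
        exact Subsingleton.elim _ _
      · rw [pow_one] at hm
        have hcyc : IsCyclic R := isCyclic_of_prime_card hm
        exact (IsCyclic.commGroup (α := R)).mul_comm x y
    have hnil : Group.IsNilpotent R := hR.isNilpotent
    have hclass := class_le_of_card p m R hm hm2
    have hclass3 : Group.nilpotencyClass R ≤ 3 := by omega
    have hL3 := (Subgroup.lowerCentralSeries_eq_bot_iff_nilpotencyClass_le (G := R)).mpr hclass3
    have hc : ⁅commutator R, (⊤ : Subgroup R)⁆ ≤ Subgroup.center R := by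
      have h1 : ⁅⁅commutator R, (⊤ : Subgroup R)⁆, (⊤ : Subgroup R)⁆ = ⊥ := by
        rw [commutator_def]
        exact hL3
      rw [Subgroup.commutator_eq_bot_iff_le_centralizer] at h1
      rw [Subgroup.coe_top, Subgroup.centralizer_univ] at h1
      exact h1
    exact mul_pow_eq_one_of_class_three hpp hp hc hx hy

end Cfsg.Agent.H3
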