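import Cfsg.Agent.H3.OmegaAut
import Cfsg.Agent.H3.MaxAbelian
import Mathlib

set_option autoImplicit false

namespace Cfsg.Agent.H3

/-- The subgroup of fixed points of an automorphism. -/
def autFix {R : Type*} [Group R] (φ : MulAut R) : Subgroup R where
  carrier := {x | φ x = x}
  mul_mem' := by
    intro a b ha hb
    simp only [Set.mem_setOf_eq] at *
    rw [map_mul, ha, hb]
  one_mem' := map_one φ
  inv_mem' := by
    intro a ha
    simp only [Set.mem_setOf_eq] at *
    rw [map_inv, ha]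

theorem mem_autFix {R : Type*} [Group R] (φ : MulAut R) (x : R) : x ∈ autFix φ ↔ φ x = x :=
  Iff.rfl

/-- Orbit counting for an automorphism of prime order `q` on an invariant subgroup. -/
theorem card_modEq_card_inf_autFix {R : Type*} [Group R] [Finite R] (φ : MulAut R) (q : ℕ)
    [Fact q.Prime] (hφ : φ ^ q = 1) (D : Subgroup R) (hD : ∀ x ∈ D, φ x ∈ D) :
    Nat.card D ≡ Nat.card (D ⊓ autFix φ : Subgroup R) [MOD q] := by
  classical
  haveI := Fintype.ofFinite D
  let f : Function.End D := fun x => ⟨φ x, hD x x.2⟩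
  have hpow : ∀ (k : ℕ) (x : D), (((f ^ k) x : D) : R) = (φ ^ k) x := by
    intro k
    induction k with
    | zero => intro x; rfl
    | succ k ih =>
      intro x
      rw [pow_succ', pow_succ']
      show ((f ((f ^ k) x) : D) : R) = φ ((φ ^ k) x)
      rw [← ih x]
  have hf : f ^ q ^ 1 = 1 := by
    rw [pow_one]
    funext x
    apply Subtype.ext
    rw [hpow, hφ]
    rfl
  have h1 := Equiv.Perm.card_fixedPoints_modEq (p := q) (n := 1) hf
  rw [Nat.card_eq_fintype_card]
  have e : Function.fixedPoints f ≃ (D ⊓ autFix φ : Subgroup R) :=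
    { toFun := fun x => ⟨x.1.1, Subgroup.mem_inf.mpr ⟨x.1.2, by
        have h2 : f x.1 = x.1 := x.2
        have h3 := congrArg Subtype.val h2
        exact h3⟩⟩
      invFun := fun y => ⟨⟨y.1, (Subgroup.mem_inf.mp y.2).1⟩, by
        show f _ = _
        apply Subtype.ext
        exact (Subgroup.mem_inf.mp y.2).2⟩
      left_inv := fun x => rfl
      right_inv := fun y => rfl }
  have h4 : Fintype.card (Function.fixedPoints f) = Nat.card (D ⊓ autFix φ : Subgroup R) := by
    rw [← Nat.card_eq_fintype_card]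
    exact Nat.card_congr e
  rw [← h4]
  exact h1

open scoped commutatorElement in
/-- Refinement of `coprime_aut_trivial_of_omega`: a `p'`-automorphism fixing all elements of
order dividing `p` of a critical subgroup is trivial. -/
theorem coprime_aut_trivial_of_omega_critical {G : Type*} [Group G] [Finite G] {p : ℕ}
    [Fact p.Prime] (hp : p ≠ 2) (hG : IsPGroup p G) (H K : Subgroup G)
    (hHchar : H.Characteristic) (hKH : K ≤ H)
    (hKD : K ≤ Subgroup.centralizer (H : Set G)) (hDK : Subgroup.centralizer (H : Set G) ≤ K)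
    (hpow : ∀ x ∈ H, x ^ p ∈ K) (hcomm : ∀ x ∈ H, ∀ y : G, ⁅x, y⁆ ∈ K)
    (a : MulAut G) (ha : Nat.Coprime (orderOf a) p)
    (h : ∀ x ∈ H, x ^ p = 1 → a x = x) : a = 1 := by
  have hpp : p.Prime := Fact.out
  have haH : ∀ x ∈ H, a x ∈ H := fun x hx =>
    Subgroup.characteristic_iff_le_comap.mp hHchar a hx
  have fix : ∀ x w : G, a x = x * w → a w = w → w = 1 := by
    intro x w hag haw
    have hpw : ∀ k : ℕ, (a ^ k) x = x * w ^ k := by
      intro k
      induction k with
      | zero => simp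
      | succ k ih =>
        rw [pow_succ', MulAut.mul_apply, ih, map_mul, map_pow, haw, hag, pow_succ', mul_assoc]
    have hk := hpw (orderOf a)
    rw [pow_orderOf_eq_one, MulAut.one_apply] at hk
    have hwk : w ^ orderOf a = 1 := by
      have : x * w ^ orderOf a = x * 1 := by rw [mul_one]; exact hk.symm
      exact mul_left_cancel this
    obtain ⟨n, hn'⟩ := hG w
    have h4 : orderOf w ∣ orderOf a := orderOf_dvd_of_pow_eq_one hwk
    have h5 : orderOf w ∣ p ^ n := orderOf_dvd_of_pow_eq_one hn'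
    have h6 : orderOf w ∣ Nat.gcd (orderOf a) (p ^ n) := Nat.dvd_gcd h4 h5
    rw [Nat.Coprime.pow_right n ha] at h6
    exact orderOf_eq_one_iff.mp (Nat.dvd_one.mp h6)
  have key : ∀ (k : ℕ) (x : G), x ∈ H → x ^ p ^ k = 1 → a x = x := by
    intro k
    induction k with
    | zero =>
      intro x _ hx
      rw [pow_zero, pow_one] at hx
      rw [hx, map_one]
    | succ k ih =>
      intro x hxH hx
      have h1 : a (x ^ p) = x ^ p :=
        ih (x ^ p) (H.pow_mem hxH p) (by rw [← pow_mul, ← pow_succ']; exact hx)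
      have haxH : a x ∈ H := haH x hxH
      have hwp : (x⁻¹ * a x) ^ p = 1 := by
        rw [mul_pow_of_central_elementary hpp hp H K hKD hpow hcomm (H.inv_mem hxH) haxH,
          ← map_pow, h1, inv_pow, inv_mul_cancel]
      have haw : a (x⁻¹ * a x) = x⁻¹ * a x := h _ (H.mul_mem (H.inv_mem hxH) haxH) hwp
      have hw1 := fix x (x⁻¹ * a x) (by group) haw
      calc a x = x * (x⁻¹ * a x) := by group
        _ = x := by rw [hw1, mul_one]
  have hfixH : ∀ x ∈ H, a x = x := by
    intro x hx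
    obtain ⟨k, hk⟩ := hG x
    exact key k x hx hk
  have hn : H.Normal := inferInstance
  ext g
  show a g = g
  have hwC : g⁻¹ * a g ∈ Subgroup.centralizer (H : Set G) := by
    rw [Subgroup.mem_centralizer_iff]
    intro x hx
    have hx' : g * x * g⁻¹ ∈ H := hn.conj_mem x hx g
    have e1 := hfixH _ hx'
    rw [map_mul, map_mul, hfixH x hx, map_inv] at e1
    have e2 : a g * x = g * x * g⁻¹ * a g := by
      rw [← e1]; group
    calc x * (g⁻¹ * a g) = g⁻¹ * (g * x * g⁻¹ * a g) := by group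
      _ = g⁻¹ * (a g * x) := by rw [e2]
      _ = g⁻¹ * a g * x := by group
  have hwH : g⁻¹ * a g ∈ H := hKH (hDK hwC)
  have hw1 := fix g (g⁻¹ * a g) (by group) (hfixH _ hwH)
  calc a g = g * (g⁻¹ * a g) := by group
    _ = g := by rw [hw1, mul_one]

/-- Arithmetic: `p ^ k ≡ p ^ j [MOD q]` with `j < k` and `q ≠ p` primes gives
`q ∣ p ^ (k - j) - 1`. -/
theorem dvd_pow_sub_one_of_modEq {p q k j : ℕ} (hp : p.Prime) (hq : q.Prime) (hqp : q ≠ p)
    (hjk : j < k) (h : p ^ k ≡ p ^ j [MOD q]) : q ∣ p ^ (k - j) - 1 := by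
  have h1 : p ^ j ≤ p ^ k := Nat.pow_le_pow_right hp.pos hjk.le
  have h2 : q ∣ p ^ k - p ^ j := (Nat.modEq_iff_dvd' h1).mp h.symm
  have h3 : p ^ k - p ^ j = p ^ j * (p ^ (k - j) - 1) := by
    rw [Nat.mul_sub, mul_one, ← pow_add]
    congr 2
    omega
  rw [h3] at h2
  have hcop : Nat.Coprime q (p ^ j) :=
    Nat.Coprime.pow_right j ((Nat.coprime_primes hq hp).mpr hqp)
  exact hcop.dvd_of_dvd_mul_left h2

/-- A group of exponent `p` all of whose abelian subgroups have order at most `p ^ 2`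
has order at most `p ^ 3`. -/
theorem card_le_cube_of_exponent_of_rank_two {D : Type*} [Group D] [Finite D] {p : ℕ}
    [Fact p.Prime] (hD : IsPGroup p D)
    (hrk : ∀ A : Subgroup D, (∀ a ∈ A, ∀ b ∈ A, a * b = b * a) → Nat.card A ≤ p ^ 2) :
    Nat.card D ≤ p ^ 3 := by
  have hpp : p.Prime := Fact.out
  obtain ⟨A, -, hA⟩ := Set.Finite.exists_le_maximal
    (s := {A : Subgroup D | A.Normal ∧ ∀ a ∈ A, ∀ b ∈ A, a * b = b * a})
    (Set.toFinite _) (a := ⊥) ⟨Subgroup.normal_bot, by
      intro a ha b hb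
      rw [Subgroup.mem_bot] at ha hb
      rw [ha, hb]⟩
  haveI : A.Normal := hA.1.1
  obtain ⟨a, ha⟩ := IsPGroup.iff_card.mp (hD.to_subgroup A)
  have h2 : a ≤ 2 := by
    have := hrk A hA.1.2
    rw [ha] at this
    exact (Nat.pow_le_pow_iff_right hpp.one_lt).mp this
  have h3 := card_le_of_max_normal_abelian hD A hA.1.2
    (fun B hB1 hB2 hAB => le_antisymm (hA.2 ⟨hB1, hB2⟩ hAB) hAB) a ha
  refine h3.trans (Nat.pow_le_pow_right hpp.pos ?_)
  interval_cases a <;> simp

end Cfsg.Agent.H3
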