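import Mathlib
import Cfsg.Agent.H82.JxDefs

/-!
# JX-CNT (helper3, for helper82): the counting argument for `|W_K| ∈ {1, 4}`

`cnt (hSq : StSq) (hFun : StFun) : StCnt`, the exact Prop of `Cfsg.Agent.H82.JxDefs`.
-/

set_option autoImplicit false
open Cfsg

namespace Cfsg.Agent.H3.Jx

universe u
open Subgroup

variable {G : Type u} [Group G]

theorem jxCardMulRelIndex {H K : Subgroup G} (h : H ≤ K) :
    Nat.card H * H.relIndex K = Nat.card K := by
  have h1 := Subgroup.card_mul_index (H.subgroupOf K)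
  rwa [Nat.card_congr (Subgroup.subgroupOfEquivOfLe h).toEquiv] at h1

/-- The product formula when `H` normalises `K`. -/
theorem jxCardSupMulCardInf [Finite G] {H K : Subgroup G} (h : H ≤ normalizer (K : Set G)) :
    Nat.card (H ⊔ K : Subgroup G) * Nat.card (H ⊓ K : Subgroup G) = Nat.card H * Nat.card K := by
  have e1 : K.relIndex (H ⊔ K) = K.relIndex H := by
    let _ := Subgroup.normal_subgroupOf_of_le_normalizer h
    let _ := Subgroup.normal_subgroupOf_sup_of_le_normalizer h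
    exact Nat.card_congr (QuotientGroup.quotientInfEquivProdNormalizerQuotient H K h).toEquiv.symm
  have e2 := jxCardMulRelIndex (le_sup_right : K ≤ H ⊔ K)
  have e3 := jxCardMulRelIndex (inf_le_left : H ⊓ K ≤ H)
  rw [Subgroup.inf_relIndex_left] at e3
  rw [← e2, ← e3, e1]; ring

/-- The join of two commuting elementary abelian 2-subgroups is elementary abelian. -/
theorem jxElemSup {H K : Subgroup G}
    (hH : ∀ y ∈ H, ∀ z ∈ H, y * z = z * y) (hH2 : ∀ y ∈ H, y * y = 1)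
    (hK : ∀ y ∈ K, ∀ z ∈ K, y * z = z * y) (hK2 : ∀ y ∈ K, y * y = 1)
    (hHK : ∀ y ∈ H, ∀ z ∈ K, y * z = z * y) :
    IsElementaryAbelian 2 (H ⊔ K) := by
  have hcen : H ⊔ K ≤ centralizer ((H ⊔ K : Subgroup G) : Set G) := by
    rw [sup_le_iff]
    constructor
    · intro y hy
      have h1 : H ⊔ K ≤ centralizer ({y} : Set G) := by
        rw [sup_le_iff]
        constructor
        · intro z hz
          rw [mem_centralizer_iff]
          intro w hw
          rw [Set.mem_singleton_iff] at hw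
          rw [hw]
          exact hH y hy z hz
        · intro z hz
          rw [mem_centralizer_iff]
          intro w hw
          rw [Set.mem_singleton_iff] at hw
          rw [hw]
          exact hHK y hy z hz
      rw [mem_centralizer_iff]
      intro g hg
      have h2 := h1 hg
      rw [mem_centralizer_iff] at h2
      exact (h2 y (Set.mem_singleton y)).symm
    · intro y hy
      have h1 : H ⊔ K ≤ centralizer ({y} : Set G) := by
        rw [sup_le_iff]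
        constructor
        · intro z hz
          rw [mem_centralizer_iff]
          intro w hw
          rw [Set.mem_singleton_iff] at hw
          rw [hw]
          exact (hHK z hz y hy).symm
        · intro z hz
          rw [mem_centralizer_iff]
          intro w hw
          rw [Set.mem_singleton_iff] at hw
          rw [hw]
          exact hK y hy z hz
      rw [mem_centralizer_iff]
      intro g hg
      have h2 := h1 hg
      rw [mem_centralizer_iff] at h2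
      exact (h2 y (Set.mem_singleton y)).symm
  have hcomm : ∀ g ∈ H ⊔ K, ∀ g' ∈ H ⊔ K, g * g' = g' * g := by
    intro g hg g' hg'
    have h1 := hcen hg'
    rw [mem_centralizer_iff] at h1
    exact h1 g hg
  refine ⟨⟨⟨fun g g' => Subtype.ext (hcomm g.1 g.2 g'.1 g'.2)⟩⟩, ?_⟩
  have hsq : H ⊔ K ≤ centralizer ((H ⊔ K : Subgroup G) : Set G) ⊓
      { carrier := {g | g ∈ H ⊔ K ∧ g ^ 2 = 1}
        mul_mem' := by
          intro g g' hg hg'
          refine ⟨mul_mem hg.1 hg'.1, ?_⟩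
          have hc : Commute g g' := hcomm g hg.1 g' hg'.1
          rw [hc.mul_pow, hg.2, hg'.2, one_mul]
        one_mem' := ⟨one_mem _, one_pow 2⟩
        inv_mem' := by
          intro g hg
          exact ⟨inv_mem hg.1, by rw [inv_pow, hg.2, inv_one]⟩ } := by
    refine le_inf hcen ?_
    rw [sup_le_iff]
    constructor
    · intro y hy
      exact ⟨mem_sup_left hy, by rw [pow_two]; exact hH2 y hy⟩
    · intro y hy
      exact ⟨mem_sup_right hy, by rw [pow_two]; exact hK2 y hy⟩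
  intro g hg
  exact (hsq hg).2.2

/-- JX-CNT. -/
theorem cnt (hSq : Cfsg.Agent.H82.Jx.StSq.{u}) (hFun : Cfsg.Agent.H82.Jx.StFun.{u}) :
    Cfsg.Agent.H82.Jx.StCnt.{u} := by
  intro G _ _ T Q A W a x hQT hAT hAel hAmax haA hidx F
  obtain ⟨hAc, hA2⟩ := hAel
  have hAcomm : ∀ b ∈ A, ∀ c ∈ A, b * c = c * b := by
    intro b hb c hc
    exact congrArg Subtype.val (hAc.is_comm.comm ⟨b, hb⟩ ⟨c, hc⟩)
  have hAsq : ∀ b ∈ A, b * b = 1 := by
    intro b hb
    have := hA2 b hb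
    rwa [pow_two] at this
  have hainv : a⁻¹ = a := inv_eq_of_mul_eq_one_left (hAsq a haA)
  have ha2 : ∀ y : G, a * (a * y * a⁻¹) * a⁻¹ = y := by
    intro y
    rw [hainv]
    calc a * (a * y * a) * a = (a * a) * y * (a * a) := by group
      _ = y := by rw [hAsq a haA, one_mul, mul_one]
  -- the subgroups
  obtain ⟨Y, hYdef⟩ : ∃ Y : Subgroup G,
      Y = W ⊓ centralizer ((A ⊓ Q : Subgroup G) : Set G) := ⟨_, rfl⟩
  have hYmem : ∀ y, y ∈ Y ↔ y ∈ W ∧ ∀ b ∈ A ⊓ Q, b * y = y * b := by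
    intro y
    rw [hYdef, mem_inf, mem_centralizer_iff]
    rfl
  have hYW : Y ≤ W := fun y hy => ((hYmem y).1 hy).1
  have hYx : ∀ y ∈ Y, x * y * x⁻¹ ∈ Y := by
    intro y hy
    obtain ⟨hyW, hyc⟩ := (hYmem y).1 hy
    refine (hYmem _).2 ⟨F.hxW y hyW, ?_⟩
    intro b hb
    have h1 := F.hbx b hb y hyW
    have h2 : b * y * b⁻¹ = y := by rw [hyc b hb, mul_inv_cancel_right]
    rw [h2] at h1
    exact mul_inv_eq_iff_eq_mul.1 h1
  have hYa : ∀ y ∈ Y, a * y * a⁻¹ ∈ Y := by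
    intro y hy
    obtain ⟨hyW, hyc⟩ := (hYmem y).1 hy
    refine (hYmem _).2 ⟨F.haW y hyW, ?_⟩
    intro b hb
    have hba : b * a = a * b := hAcomm b hb.1 a haA
    have hby : b * y = y * b := hyc b hb
    rw [hainv]
    calc b * (a * y * a) = (b * a) * y * a := by group
      _ = a * (b * y) * a := by rw [hba]; group
      _ = a * y * (b * a) := by rw [hby]; group
      _ = a * y * a * b := by rw [hba]; group
  have hSqY := hSq Y a x (fun y hy z hz => F.hWc y (hYW hy) z (hYW hz))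
    (fun y hy => F.hW2 y (hYW hy)) hYa hYx (fun y _ => ha2 y)
    (fun y hy => F.hx3 y (hYW hy)) (fun y hy => F.hax y (hYW hy))
    (fun y hy => F.hxf y (hYW hy))
  have hSqW := hSq W a x F.hWc F.hW2 F.haW F.hxW (fun y _ => ha2 y) F.hx3 F.hax F.hxf
  obtain ⟨hcardY, -⟩ := hSqY
  obtain ⟨hcardW, hdecW⟩ := hSqW
  -- Step 2: `|C_Y(a)| ≤ 2`
  have hA0comm : ∀ b ∈ A ⊓ Q, ∀ c ∈ A ⊓ Q, b * c = c * b :=
    fun b hb c hc => hAcomm b hb.1 c hc.1
  have hA0sq : ∀ b ∈ A ⊓ Q, b * b = 1 := fun b hb => hAsq b hb.1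
  have hE1 : IsElementaryAbelian 2 (Y ⊔ (A ⊓ Q)) :=
    jxElemSup (fun y hy z hz => F.hWc y (hYW hy) z (hYW hz)) (fun y hy => F.hW2 y (hYW hy))
      hA0comm hA0sq (fun y hy b hb => (((hYmem y).1 hy).2 b hb).symm)
  have hle1 : Y ⊔ (A ⊓ Q) ≤ T := sup_le (hYW.trans (F.hWQ.trans hQT)) (inf_le_left.trans hAT)
  have hc1 := hAmax _ hle1 hE1
  have hYn : Y ≤ normalizer (((A ⊓ Q : Subgroup G)) : Set G) := by
    refine le_trans ?_ (centralizer_le_normalizer _)
    rw [hYdef]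
    exact inf_le_right
  have hp1 := jxCardSupMulCardInf hYn
  have hYA0 : Y ⊓ (A ⊓ Q) ≤ Y ⊓ centralizer ({a} : Set G) := by
    intro g hg
    refine ⟨hg.1, mem_centralizer_iff.2 ?_⟩
    intro h hh
    rw [Set.mem_singleton_iff] at hh
    rw [hh]
    exact hAcomm a haA g hg.2.1
  have hcYA0 : Nat.card ↥(Y ⊓ (A ⊓ Q)) ≤ Nat.card ↥(Y ⊓ centralizer ({a} : Set G)) :=
    Subgroup.card_le_of_le hYA0
  have hposA0 : 0 < Nat.card ↥(A ⊓ Q) := Nat.card_pos
  have hposCY : 0 < Nat.card ↥(Y ⊓ centralizer ({a} : Set G)) := Nat.card_pos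
  have hCY2 : Nat.card ↥(Y ⊓ centralizer ({a} : Set G)) ≤ 2 := by
    have h1 : Nat.card ↥Y * Nat.card ↥(A ⊓ Q) ≤
        (2 * Nat.card ↥(A ⊓ Q)) * Nat.card ↥(Y ⊓ centralizer ({a} : Set G)) := by
      rw [← hp1]
      exact Nat.mul_le_mul (hc1.trans hidx) hcYA0
    rw [hcardY] at h1
    have h2 : Nat.card ↥(Y ⊓ centralizer ({a} : Set G)) ^ 2 * Nat.card ↥(A ⊓ Q) ≤
        (2 * Nat.card ↥(Y ⊓ centralizer ({a} : Set G))) * Nat.card ↥(A ⊓ Q) := by
      calc _ ≤ _ := h1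
        _ = _ := by ring
    have h3 := Nat.le_of_mul_le_mul_right h2 hposA0
    have h4 : Nat.card ↥(Y ⊓ centralizer ({a} : Set G)) *
        Nat.card ↥(Y ⊓ centralizer ({a} : Set G)) ≤
        2 * Nat.card ↥(Y ⊓ centralizer ({a} : Set G)) := by
      rw [← pow_two]; exact h3
    exact Nat.le_of_mul_le_mul_right h4 hposCY
  -- Step 3: `W ∩ A ≤ C_Y(a)`
  have hWA : W ⊓ A ≤ Y ⊓ centralizer ({a} : Set G) := by
    intro g hg
    refine ⟨(hYmem g).2 ⟨hg.1, fun b hb => hAcomm b hb.1 g hg.2⟩, mem_centralizer_iff.2 ?_⟩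
    intro h hh
    rw [Set.mem_singleton_iff] at hh
    rw [hh]
    exact hAcomm a haA g hg.2
  -- Step 4
  obtain ⟨CA, hCAdef⟩ : ∃ CA : Subgroup G,
      CA = A ⊓ centralizer ((W : Subgroup G) : Set G) := ⟨_, rfl⟩
  have hCAmem : ∀ c, c ∈ CA ↔ c ∈ A ∧ ∀ w ∈ W, w * c = c * w := by
    intro c
    rw [hCAdef, mem_inf, mem_centralizer_iff]
    rfl
  have hE2 : IsElementaryAbelian 2 (CA ⊔ W) :=
    jxElemSup (fun b hb c hc => hAcomm b ((hCAmem b).1 hb).1 c ((hCAmem c).1 hc).1)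
      (fun b hb => hAsq b ((hCAmem b).1 hb).1) F.hWc F.hW2
      (fun c hc w hw => (((hCAmem c).1 hc).2 w hw).symm)
  have hle2 : CA ⊔ W ≤ T :=
    sup_le (le_trans (show CA ≤ A from fun c hc => ((hCAmem c).1 hc).1) hAT) (F.hWQ.trans hQT)
  have hc2 := hAmax _ hle2 hE2
  have hCAn : CA ≤ normalizer ((W : Subgroup G) : Set G) := by
    refine le_trans ?_ (centralizer_le_normalizer _)
    rw [hCAdef]
    exact inf_le_right
  have hp2 := jxCardSupMulCardInf hCAn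
  have hCAW : CA ⊓ W ≤ Y ⊓ centralizer ({a} : Set G) := by
    intro g hg
    exact hWA ⟨hg.2, ((hCAmem g).1 hg.1).1⟩
  have hcCAW : Nat.card ↥(CA ⊓ W) ≤ 2 := (Subgroup.card_le_of_le hCAW).trans hCY2
  -- `|C_A(W)| * |W| ≤ 2 |A|`
  have h5 : Nat.card ↥CA * Nat.card ↥W ≤ Nat.card ↥A * 2 := by
    rw [← hp2]
    exact Nat.mul_le_mul hc2 hcCAW
  -- Step 5: FUN
  obtain ⟨CW, hCWdef⟩ : ∃ CW : Subgroup G,
      CW = W ⊓ centralizer ({a} : Set G) := ⟨_, rfl⟩
  have hCWmem : ∀ u, u ∈ CW ↔ u ∈ W ∧ a * u = u * a := by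
    intro u
    rw [hCWdef, mem_inf, mem_centralizer_iff]
    constructor
    · rintro ⟨h1, h2⟩
      exact ⟨h1, h2 a (Set.mem_singleton a)⟩
    · rintro ⟨h1, h2⟩
      refine ⟨h1, ?_⟩
      intro h hh
      rw [Set.mem_singleton_iff] at hh
      rw [hh]
      exact h2
  rw [← hCWdef] at hcardW hdecW
  by_cases hCWbot : CW = ⊥
  · left
    have h1 : Nat.card ↥CW = 1 := by rw [hCWbot]; exact Subgroup.card_bot
    rw [h1] at hcardW
    have h2 : Nat.card ↥W = 1 := by rw [hcardW]; norm_num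
    exact Subgroup.card_eq_one.1 h2
  have hP2 : IsPGroup 2 ↥(A ⊓ Q) := by
    intro g
    refine ⟨1, Subtype.ext ?_⟩
    have := hA2 g.1 g.2.1
    simpa using this
  have hCWnorm : ∀ b ∈ A ⊓ Q, ∀ u ∈ CW, b * u * b⁻¹ ∈ CW := by
    intro b hb u hu
    obtain ⟨huW, hau⟩ := (hCWmem u).1 hu
    refine (hCWmem _).2 ⟨F.hbW b hb u huW, ?_⟩
    have hab : a * b = b * a := hAcomm a haA b hb.1
    have habi : a * b⁻¹ = b⁻¹ * a := (Commute.inv_right (show Commute a b from hab)).eq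
    calc a * (b * u * b⁻¹) = (a * b) * u * b⁻¹ := by group
      _ = b * (a * u) * b⁻¹ := by rw [hab]; group
      _ = b * u * (a * b⁻¹) := by rw [hau]; group
      _ = b * u * b⁻¹ * a := by rw [habi]; group
  have hCWfix : CW ⊓ centralizer ((A ⊓ Q : Subgroup G) : Set G) ≤
      Y ⊓ centralizer ({a} : Set G) := by
    intro g hg
    have h1 := (hCWmem g).1 hg.1
    have h2 : g ∈ centralizer ((A ⊓ Q : Subgroup G) : Set G) := hg.2
    rw [mem_centralizer_iff] at h2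
    refine ⟨(hYmem g).2 ⟨h1.1, h2⟩, mem_centralizer_iff.2 ?_⟩
    intro h hh
    rw [Set.mem_singleton_iff] at hh
    rw [hh]
    exact h1.2
  have hF := hFun (A ⊓ Q) CW hA0comm hP2
    (fun u hu v hv => F.hWc u ((hCWmem u).1 hu).1 v ((hCWmem v).1 hv).1)
    (fun u hu => F.hW2 u ((hCWmem u).1 hu).1) hCWnorm
    ((Subgroup.card_le_of_le hCWfix).trans hCY2) hCWbot
  -- `C_{A₀}(U⁺) ≤ C_A(W)`
  have hD : (A ⊓ Q) ⊓ centralizer ((CW : Subgroup G) : Set G) ≤ CA := by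
    intro b hb
    have hbA0 : b ∈ A ⊓ Q := hb.1
    have hbc : b ∈ centralizer ((CW : Subgroup G) : Set G) := hb.2
    rw [mem_centralizer_iff] at hbc
    refine (hCAmem b).2 ⟨hbA0.1, ?_⟩
    intro w hw
    obtain ⟨u, hu, v, hv, rfl⟩ := hdecW w hw
    have hu' := hbc u hu
    have hv' := hbc v hv
    have hvW := ((hCWmem v).1 hv).1
    have h1 := F.hbx b hbA0 v hvW
    have h2 : b * v * b⁻¹ = v := by rw [← hv', mul_inv_cancel_right]
    rw [h2] at h1
    have h3 : b * (x * v * x⁻¹) = x * v * x⁻¹ * b := mul_inv_eq_iff_eq_mul.1 h1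
    calc u * (x * v * x⁻¹) * b = u * (x * v * x⁻¹ * b) := by group
      _ = (u * b) * (x * v * x⁻¹) := by rw [← h3]; group
      _ = b * (u * (x * v * x⁻¹)) := by rw [hu']; group
  have hcD : Nat.card ↥((A ⊓ Q) ⊓ centralizer ((CW : Subgroup G) : Set G)) ≤ Nat.card ↥CA :=
    Subgroup.card_le_of_le hD
  have hrel := jxCardMulRelIndex
    (inf_le_left : (A ⊓ Q) ⊓ centralizer ((CW : Subgroup G) : Set G) ≤ A ⊓ Q)
  have hposD : 0 < Nat.card ↥((A ⊓ Q) ⊓ centralizer ((CW : Subgroup G) : Set G)) := Nat.card_pos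
  have hposCW : 0 < Nat.card ↥CW := Nat.card_pos
  -- arithmetic
  obtain ⟨d, hd⟩ : ∃ d, d = Nat.card ↥((A ⊓ Q) ⊓ centralizer ((CW : Subgroup G) : Set G)) :=
    ⟨_, rfl⟩
  obtain ⟨r, hr⟩ : ∃ r, r = ((A ⊓ Q) ⊓ centralizer ((CW : Subgroup G) : Set G)).relIndex (A ⊓ Q) :=
    ⟨_, rfl⟩
  obtain ⟨n, hn⟩ : ∃ n, n = Nat.card ↥(A ⊓ Q) := ⟨_, rfl⟩
  obtain ⟨u, hu⟩ : ∃ u, u = Nat.card ↥CW := ⟨_, rfl⟩
  obtain ⟨w, hw⟩ : ∃ w, w = Nat.card ↥W := ⟨_, rfl⟩
  obtain ⟨cA, hcA⟩ : ∃ cA, cA = Nat.card ↥CA := ⟨_, rfl⟩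
  obtain ⟨nA, hnA⟩ : ∃ nA, nA = Nat.card ↥A := ⟨_, rfl⟩
  rw [← hd, ← hr, ← hn] at hrel
  rw [← hd, ← hcA] at hcD
  rw [← hd] at hposD
  rw [← hu] at hposCW
  rw [← hr, ← hu] at hF
  rw [← hw, ← hu] at hcardW
  rw [← hcA, ← hw, ← hnA] at h5
  rw [← hnA, ← hn] at hidx
  rw [← hw]
  -- d * w ≤ cA * w ≤ 2 nA ≤ 4 n = 4 d r
  have h6 : d * w ≤ d * (4 * r) := by
    calc d * w ≤ cA * w := Nat.mul_le_mul_right w hcD
      _ ≤ nA * 2 := h5
      _ ≤ (2 * n) * 2 := Nat.mul_le_mul_right 2 hidx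
      _ = d * (4 * r) := by rw [← hrel]; ring
  have h7 : w ≤ 4 * r := Nat.le_of_mul_le_mul_left h6 hposD
  have h8 : u * u ≤ 2 * u := by
    rw [← pow_two, ← hcardW]
    omega
  have h9 : u ≤ 2 := Nat.le_of_mul_le_mul_right h8 hposCW
  have h10 : u = 1 ∨ u = 2 := by omega
  rcases h10 with h10 | h10
  · left
    rw [h10] at hcardW
    have : Nat.card ↥W = 1 := by rw [← hw, hcardW]; norm_num
    exact Subgroup.card_eq_one.1 this
  · right
    rw [hcardW, h10]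
    norm_num

example (hSq : Cfsg.Agent.H82.Jx.StSq.{u}) (hFun : Cfsg.Agent.H82.Jx.StFun.{u}) :
    Cfsg.Agent.H82.Jx.StCnt.{u} := cnt hSq hFun

end Cfsg.Agent.H3.Jx
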