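import Mathlib
import Cfsg.Prelude.Def_LocalStructure

set_option autoImplicit false

namespace Cfsg.Agent.H3.P3

/-- S3875-CNT: a subgroup containing a Sylow `q`-subgroup for every prime `q` is everything. -/
theorem eq_top_of_sylows_le {H : Type*} [Group H] [Finite H] (M : Subgroup H)
    (h : ∀ q : ℕ, q.Prime → ∃ Q : Sylow q H, (Q : Subgroup H) ≤ M) : M = ⊤ := by
  have hH0 : Nat.card H ≠ 0 := Nat.card_pos.ne'
  have hM0 : Nat.card M ≠ 0 := Nat.card_pos.ne'
  have hdvd : Nat.card H ∣ Nat.card M := by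
    rw [← Nat.factorization_prime_le_iff_dvd hH0 hM0]
    intro q hq
    haveI : Fact q.Prime := ⟨hq⟩
    obtain ⟨Q, hQ⟩ := h q hq
    have h1 : Nat.card (Q : Subgroup H) ∣ Nat.card M := Subgroup.card_dvd_of_le hQ
    rw [Sylow.card_eq_multiplicity] at h1
    exact (hq.pow_dvd_iff_le_factorization hM0).1 h1
  have hle : Nat.card M ≤ Nat.card H := Subgroup.card_le_card_group M
  have hge : Nat.card H ≤ Nat.card M := Nat.le_of_dvd Nat.card_pos hdvd
  exact Subgroup.eq_top_of_card_eq M (le_antisymm hle hge)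

example {H : Type*} [Group H] [Finite H] (M : Subgroup H)
    (h : ∀ q : ℕ, q.Prime → ∃ Q : Sylow q H, (Q : Subgroup H) ≤ M) : M = ⊤ :=
  eq_top_of_sylows_le M h

end Cfsg.Agent.H3.P3
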