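import Mathlib
import Cfsg.Prelude.Def_LocalStructure

set_option autoImplicit false

namespace Cfsg.Agent.H3.P3

open scoped Pointwise

/-- If `x ^ a ∈ N` and `x ^ b ∈ N` with `a`, `b` coprime then `x ∈ N`. -/
theorem mem_of_pow_mem_coprime {H : Type*} [Group H] (N : Subgroup H) (x : H) (a b : ℕ)
    (hab : a.Coprime b) (ha : x ^ a ∈ N) (hb : x ^ b ∈ N) : x ∈ N := by
  have h1 : x ^ (a : ℤ) ∈ N := by simpa using ha
  have h2 : x ^ (b : ℤ) ∈ N := by simpa using hb
  have h3 : (a : ℤ) * Nat.gcdA a b + (b : ℤ) * Nat.gcdB a b = 1 := by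
    have := Nat.gcd_eq_gcd_ab a b
    rw [hab] at this
    simpa using this.symm
  have h4 : x = (x ^ (a : ℤ)) ^ (Nat.gcdA a b) * (x ^ (b : ℤ)) ^ (Nat.gcdB a b) := by
    rw [← zpow_mul, ← zpow_mul, ← zpow_add, h3, zpow_one]
  rw [h4]
  exact N.mul_mem (N.zpow_mem h1 _) (N.zpow_mem h2 _)

/-- S3875-FRAT: Frattini argument giving a `P`-invariant Sylow `q`-subgroup. -/
theorem exists_invariant_sylow {H : Type*} [Group H] [Finite H] (p : ℕ) [Fact p.Prime]
    (P : Sylow p H) (hP : Nat.card (P : Subgroup H) = p) (N : Subgroup H) [N.Normal]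
    (hN : N.index = p) (q : ℕ) [Fact q.Prime] (hq : q ≠ p) :
    ∃ Q : Sylow q H, (P : Subgroup H) ≤ Subgroup.normalizer ((Q : Subgroup H) : Set H) := by
  have hp : p.Prime := Fact.out
  have hqp : q.Prime := Fact.out
  obtain ⟨Q₁⟩ : Nonempty (Sylow q H) := inferInstance
  -- `Q₁ ≤ N`
  have hQN : (Q₁ : Subgroup H) ≤ N := by
    intro x hx
    obtain ⟨k, hk⟩ := (Q₁.isPGroup' ⟨x, hx⟩)
    have hk' : x ^ (q ^ k) = 1 := by
      have := congrArg Subtype.val hk
      simpa using this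
    have h1 : x ^ p ∈ N := by
      rw [← hN]; exact Subgroup.pow_index_mem N x
    have h2 : x ^ (q ^ k) ∈ N := by rw [hk']; exact N.one_mem
    have hcop : p.Coprime (q ^ k) :=
      Nat.Coprime.pow_right k ((Nat.coprime_primes hp hqp).2 (Ne.symm hq))
    exact mem_of_pow_mem_coprime N x p (q ^ k) hcop h1 h2
  -- Frattini
  have hfrat : Subgroup.normalizer ((Q₁ : Subgroup H) : Set H) ⊔ N = ⊤ := by
    have h := Sylow.normalizer_sup_eq_top (Q₁.subtype hQN)
    have h2 : ((Q₁.subtype hQN : Sylow q N) : Subgroup N).map N.subtype = (Q₁ : Subgroup H) := by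
      rw [Sylow.coe_subtype, Subgroup.subgroupOf_map_subtype]
      exact inf_eq_left.2 hQN
    rw [h2] at h
    exact h
  have hNtop : N ≠ ⊤ := by
    intro h
    rw [h, Subgroup.index_top] at hN
    exact hp.one_lt.ne hN
  obtain ⟨y, hyn, hyN⟩ : ∃ y, y ∈ Subgroup.normalizer ((Q₁ : Subgroup H) : Set H) ∧ y ∉ N := by
    by_contra hcon
    push Not at hcon
    apply hNtop
    rw [← hfrat]
    exact (sup_eq_right.2 hcon).symm
  -- `p ∣ orderOf y`
  have hyo : orderOf y ≠ 0 := (orderOf_pos y).ne'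
  have hpy : p ∣ orderOf y := by
    by_contra hnd
    apply hyN
    have hcop : p.Coprime (orderOf y) := (Nat.Prime.coprime_iff_not_dvd hp).2 hnd
    have h1 : y ^ p ∈ N := by
      rw [← hN]; exact Subgroup.pow_index_mem N y
    have h2 : y ^ orderOf y ∈ N := by rw [pow_orderOf_eq_one]; exact N.one_mem
    exact mem_of_pow_mem_coprime N y p (orderOf y) hcop h1 h2
  obtain ⟨y', hy'⟩ : ∃ y' : H, y' = y ^ (orderOf y / p) := ⟨_, rfl⟩
  have hy'o : orderOf y' = p := by
    rw [hy']; exact orderOf_pow_orderOf_div hyo hpy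
  have hy'n : y' ∈ Subgroup.normalizer ((Q₁ : Subgroup H) : Set H) := by
    rw [hy']; exact Subgroup.pow_mem _ hyn _
  -- `⟨y'⟩` is a `p`-group, contained in a Sylow `p`-subgroup `P'`
  have hpg : IsPGroup p (Subgroup.zpowers y') := by
    apply IsPGroup.of_card (n := 1)
    rw [Nat.card_zpowers, hy'o, pow_one]
  obtain ⟨P', hP'⟩ := hpg.exists_le_sylow
  have hP'card : Nat.card (P' : Subgroup H) = p := by
    rw [Sylow.card_eq_multiplicity, ← Sylow.card_eq_multiplicity P, hP]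
  have hP'eq : Subgroup.zpowers y' = (P' : Subgroup H) := by
    apply Subgroup.eq_of_le_of_card_ge hP'
    rw [hP'card, Nat.card_zpowers, hy'o]
  have hP'n : (P' : Subgroup H) ≤ Subgroup.normalizer ((Q₁ : Subgroup H) : Set H) := by
    rw [← hP'eq, Subgroup.zpowers_le]
    exact hy'n
  obtain ⟨g, hg⟩ := MulAction.exists_smul_eq H P' P
  refine ⟨g • Q₁, ?_⟩
  intro x hx
  refine (Sylow.smul_eq_iff_mem_normalizer (g := x) (P := g • Q₁)).1 ?_
  -- `g⁻¹ x g ∈ P'`
  have hx' : g⁻¹ * x * g ∈ (P' : Subgroup H) := by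
    rw [← hg] at hx
    have hx2 : x ∈ (MulAut.conj g • (P' : Subgroup H) : Subgroup H) := hx
    rw [Subgroup.mem_pointwise_smul_iff_inv_smul_mem] at hx2
    simpa [MulAut.smul_def, mul_assoc] using hx2
  have h3 : (g⁻¹ * x * g) • Q₁ = Q₁ :=
    (Sylow.smul_eq_iff_mem_normalizer (g := g⁻¹ * x * g) (P := Q₁)).2 (hP'n hx')
  calc x • (g • Q₁) = g • ((g⁻¹ * x * g) • Q₁) := by
        rw [← mul_smul, ← mul_smul]; congr 1; group
    _ = g • Q₁ := by rw [h3]

example {H : Type*} [Group H] [Finite H] (p : ℕ) [Fact p.Prime]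
    (P : Sylow p H) (hP : Nat.card (P : Subgroup H) = p) (N : Subgroup H) [N.Normal]
    (hN : N.index = p) (q : ℕ) [Fact q.Prime] (hq : q ≠ p) :
    ∃ Q : Sylow q H, (P : Subgroup H) ≤ Subgroup.normalizer ((Q : Subgroup H) : Set H) :=
  exists_invariant_sylow p P hP N hN q hq

end Cfsg.Agent.H3.P3
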