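import Mathlib
import Cfsg.Prelude.Def_LocalStructure

set_option autoImplicit false

namespace Cfsg.Agent.H3.P3

/-- S3875-IDX: a Sylow `p`-subgroup of order `p` not inside the commutator subgroup gives a
normal subgroup of index `p`. -/
theorem exists_normal_index {H : Type*} [Group H] [Finite H] (p : ℕ) [Fact p.Prime]
    (P : Sylow p H) (hP : Nat.card (P : Subgroup H) = p)
    (hPc : ¬ (P : Subgroup H) ≤ commutator H) :
    ∃ N : Subgroup H, N.Normal ∧ N.index = p := by
  have hp : p.Prime := Fact.out
  -- the `p`-part of `|H|` is `p`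
  have hfac : (Nat.card H).factorization p = 1 := by
    have h1 := Sylow.card_eq_multiplicity P
    rw [hP] at h1
    have h2 : p ^ 1 = p ^ (Nat.card H).factorization p := by simpa using h1
    exact (Nat.pow_right_injective hp.two_le h2).symm
  have hH0 : Nat.card H ≠ 0 := Nat.card_pos.ne'
  have hnd : ¬ p ^ 2 ∣ Nat.card H := by
    have := Nat.pow_succ_factorization_not_dvd hH0 hp
    rwa [hfac] at this
  -- the abelianization
  obtain ⟨π, hπ⟩ : ∃ π : H →* Abelianization H, π = Abelianization.of := ⟨_, rfl⟩
  have hsurj : Function.Surjective π := by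
    rw [hπ]; exact fun y => Quot.inductionOn y (fun x => ⟨x, rfl⟩)
  have hker : π.ker = commutator H := by
    rw [hπ]; exact Abelianization.ker_of H
  haveI : Finite (Abelianization H) := Finite.of_surjective π hsurj
  obtain ⟨Pb, hPb⟩ : ∃ Pb : Subgroup (Abelianization H), Pb = (P : Subgroup H).map π :=
    ⟨_, rfl⟩
  have hPb_ne : Pb ≠ ⊥ := by
    intro h
    apply hPc
    rw [← hker]
    intro x hx
    rw [MonoidHom.mem_ker]
    have : π x ∈ Pb := by rw [hPb]; exact Subgroup.mem_map_of_mem π hx
    rw [h] at this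
    exact Subgroup.mem_bot.1 this
  have hPb_dvd : Nat.card Pb ∣ p := by
    have h1 := Subgroup.card_map_dvd (P : Subgroup H) π
    rwa [hP, ← hPb] at h1
  have hPb_card : Nat.card Pb = p := by
    rcases (Nat.dvd_prime hp).1 hPb_dvd with h | h
    · exact absurd ((Subgroup.card_eq_one).1 h) hPb_ne
    · exact h
  have hA_dvd : Nat.card (Abelianization H) ∣ Nat.card H :=
    Subgroup.card_dvd_of_surjective π hsurj
  have hcop : (Nat.card Pb).Coprime Pb.index := by
    rw [hPb_card]
    rw [Nat.Prime.coprime_iff_not_dvd hp]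
    intro hdvd
    apply hnd
    have h1 : Nat.card Pb * Pb.index = Nat.card (Abelianization H) :=
      Subgroup.card_mul_index Pb
    rw [hPb_card] at h1
    have h2 : p ^ 2 ∣ Nat.card (Abelianization H) := by
      rw [← h1, pow_two]
      exact Nat.mul_dvd_mul_left p hdvd
    exact h2.trans hA_dvd
  obtain ⟨K, hK⟩ := Subgroup.exists_right_complement'_of_coprime hcop
  have hKidx : K.index = p := by
    rw [← hPb_card]
    exact hK.index_eq_card
  refine ⟨K.comap π, ?_, ?_⟩
  · haveI : K.Normal := inferInstance
    exact Subgroup.Normal.comap ‹K.Normal› π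
  · rw [Subgroup.index_comap_of_surjective K hsurj, hKidx]

example {H : Type*} [Group H] [Finite H] (p : ℕ) [Fact p.Prime]
    (P : Sylow p H) (hP : Nat.card (P : Subgroup H) = p)
    (hPc : ¬ (P : Subgroup H) ≤ commutator H) :
    ∃ N : Subgroup H, N.Normal ∧ N.index = p :=
  exists_normal_index p P hP hPc

end Cfsg.Agent.H3.P3
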