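import Cfsg.Agent.H3.MaxAbelian
import Cfsg.Agent.H3.Class2

set_option autoImplicit false

namespace Cfsg.Agent.H3

open scoped commutatorElement

/-- `v ^ n * u = u * v ^ n * t ^ n` when `v * u = u * v * t` and `t` commutes with `v`. -/
theorem pow_mul_of_rel_comm {G : Type*} [Group G] {u v t : G} (h : v * u = u * v * t)
    (htv : Commute t v) (n : ℕ) : v ^ n * u = u * v ^ n * t ^ n := by
  have hs : SemiconjBy u (v * t) v := by
    show u * (v * t) = v * u
    rw [h, mul_assoc]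
  have h1 := (hs.pow_right n).eq
  rw [← h1, htv.symm.mul_pow, mul_assoc]

/-- `(u v)^n = u^n v^n t^(n choose 2)` when `v u = u v t` and `t` commutes with `u`, `v`. -/
theorem mul_pow_of_rel_comm {G : Type*} [Group G] {u v t : G} (h : v * u = u * v * t)
    (htu : Commute t u) (htv : Commute t v) (n : ℕ) :
    (u * v) ^ n = u ^ n * v ^ n * t ^ (n.choose 2) := by
  induction n with
  | zero => simp
  | succ n ih =>
    have h1 := pow_mul_of_rel_comm h htv n
    have e1 : t ^ (n.choose 2) * u = u * t ^ (n.choose 2) := (htu.pow_left _).eq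
    have e2 : t ^ (n.choose 2) * v = v * t ^ (n.choose 2) := (htv.pow_left _).eq
    have e3 : t ^ n * v = v * t ^ n := (htv.pow_left _).eq
    have e4 : (n + 1).choose 2 = n + n.choose 2 := by
      rw [Nat.choose_succ_succ', Nat.choose_one_right]
    have e5 : (u * v) ^ (n + 1) = u ^ n * v ^ n * t ^ (n.choose 2) * (u * v) := by
      rw [pow_succ, ih]
    rw [e5, e4]
    calc u ^ n * v ^ n * t ^ (n.choose 2) * (u * v)
        = u ^ n * v ^ n * (t ^ (n.choose 2) * u) * v := by simp only [mul_assoc]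
      _ = u ^ n * v ^ n * (u * t ^ (n.choose 2)) * v := by rw [e1]
      _ = u ^ n * (v ^ n * u) * (t ^ (n.choose 2) * v) := by simp only [mul_assoc]
      _ = u ^ n * (u * v ^ n * t ^ n) * (v * t ^ (n.choose 2)) := by rw [h1, e2]
      _ = u ^ n * u * v ^ n * (t ^ n * v) * t ^ (n.choose 2) := by simp only [mul_assoc]
      _ = u ^ n * u * v ^ n * (v * t ^ n) * t ^ (n.choose 2) := by rw [e3]
      _ = u ^ (n + 1) * v ^ (n + 1) * t ^ (n + n.choose 2) := by
        rw [pow_succ u, pow_succ v, pow_add]; simp only [mul_assoc]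

/-- The elements centralizing `y` modulo the normal subgroup `A`. -/
def centMod {G : Type*} [Group G] (A : Subgroup G) [hA : A.Normal] (y : G) : Subgroup G where
  carrier := {n | n * y * n⁻¹ * y⁻¹ ∈ A}
  one_mem' := by
    show 1 * y * 1⁻¹ * y⁻¹ ∈ A
    have e : 1 * y * 1⁻¹ * y⁻¹ = 1 := by group
    rw [e]
    exact A.one_mem
  mul_mem' := by
    intro n m hn hm
    have e : (n * m) * y * (n * m)⁻¹ * y⁻¹ =
        n * (m * y * m⁻¹ * y⁻¹) * n⁻¹ * (n * y * n⁻¹ * y⁻¹) := by group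
    show (n * m) * y * (n * m)⁻¹ * y⁻¹ ∈ A
    rw [e]
    exact A.mul_mem (hA.conj_mem _ hm n) hn
  inv_mem' := by
    intro n hn
    have e : n⁻¹ * y * n⁻¹⁻¹ * y⁻¹ = n⁻¹ * (n * y * n⁻¹ * y⁻¹)⁻¹ * n⁻¹⁻¹ := by group
    show n⁻¹ * y * n⁻¹⁻¹ * y⁻¹ ∈ A
    rw [e]
    exact hA.conj_mem _ (A.inv_mem hn) n⁻¹

theorem mem_centMod {G : Type*} [Group G] (A : Subgroup G) [A.Normal] (y n : G) :
    n ∈ centMod A y ↔ n * y * n⁻¹ * y⁻¹ ∈ A := Iff.rfl

/-- Alperin's lemma, the key step: for `p` odd, if `A` is a normal subgroup of the `p`-group `G`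
and some element of order `p` outside `A` centralizes `A`, then there is such an element
which is moreover central modulo `A`. -/
theorem alperin_step {G : Type*} [Group G] [Finite G] {p : ℕ} [Fact p.Prime] (hp : p ≠ 2)
    (hP : IsPGroup p G) (A : Subgroup G) [hAn : A.Normal] (x : G) (hxA : x ∉ A)
    (hxp : x ^ p = 1) (hxC : ∀ a ∈ A, a * x = x * a) :
    ∃ y : G, y ∉ A ∧ y ^ p = 1 ∧ (∀ a ∈ A, a * y = y * a) ∧ ∀ t : G, t * y * t⁻¹ * y⁻¹ ∈ A := by
  have hpp : p.Prime := Fact.out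
  have hfin : {N : Subgroup G | ∃ y, y ∉ A ∧ y ^ p = 1 ∧ (∀ a ∈ A, a * y = y * a) ∧
      N = centMod A y}.Finite := Set.toFinite _
  obtain ⟨N, -, hmax⟩ := hfin.exists_le_maximal (a := centMod A x) ⟨x, hxA, hxp, hxC, rfl⟩
  obtain ⟨⟨y, hyA, hyp, hyC, rfl⟩, hmax'⟩ := hmax
  refine ⟨y, hyA, hyp, hyC, ?_⟩
  by_contra hcon
  have hlt : centMod A y < ⊤ := by
    rw [lt_top_iff_ne_top]
    intro htop
    apply hcon
    intro t
    have : t ∈ centMod A y := by rw [htop]; exact Subgroup.mem_top t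
    exact this
  have hnil : Group.IsNilpotent G := hP.isNilpotent
  have hnc := Group.normalizerCondition_of_isNilpotent (G := G) _ hlt
  obtain ⟨h, hhn, hhN⟩ := SetLike.exists_of_lt hnc
  -- the key property
  have key : ∀ u : G, u ∉ A → u ^ p = 1 → (∀ a ∈ A, a * u = u * a) →
      (∀ n ∈ centMod A y, n * u * n⁻¹ * u⁻¹ ∈ A) → centMod A u = centMod A y := by
    intro u huA hup huC hun
    have hle : centMod A y ≤ centMod A u := fun n hn => hun n hn
    exact le_antisymm (hmax' ⟨u, huA, hup, huC, rfl⟩ hle) hle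
  have hAN : A ≤ centMod A y := by
    intro a ha
    rw [mem_centMod]
    have e : a * y * a⁻¹ * y⁻¹ = 1 := by
      rw [hyC a ha]; group
    rw [e]; exact A.one_mem
  have hSN : ∀ u : G, u ^ p = 1 → (∀ a ∈ A, a * u = u * a) →
      (∀ n ∈ centMod A y, n * u * n⁻¹ * u⁻¹ ∈ A) → u ∈ centMod A y := by
    intro u hup huC hun
    by_cases huA : u ∈ A
    · exact hAN huA
    · rw [← key u huA hup huC hun, mem_centMod]
      have e : u * u * u⁻¹ * u⁻¹ = 1 := by group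
      rw [e]; exact A.one_mem
  -- closure under multiplication
  have hmul : ∀ u v : G, (u ^ p = 1 ∧ (∀ a ∈ A, a * u = u * a) ∧
      (∀ n ∈ centMod A y, n * u * n⁻¹ * u⁻¹ ∈ A)) → (v ^ p = 1 ∧ (∀ a ∈ A, a * v = v * a) ∧
      (∀ n ∈ centMod A y, n * v * n⁻¹ * v⁻¹ ∈ A)) → ((u * v) ^ p = 1 ∧
      (∀ a ∈ A, a * (u * v) = (u * v) * a) ∧
      (∀ n ∈ centMod A y, n * (u * v) * n⁻¹ * (u * v)⁻¹ ∈ A)) := by
    rintro u v ⟨hup, huC, hun⟩ ⟨hvp, hvC, hvn⟩
    have hvN : v ∈ centMod A y := hSN v hvp hvC hvn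
    have htA : v⁻¹ * u⁻¹ * v * u ∈ A := by
      have h1 := hun v hvN
      have e : v⁻¹ * u⁻¹ * v * u = (u * v)⁻¹ * (v * u * v⁻¹ * u⁻¹) * (u * v)⁻¹⁻¹ := by group
      rw [e]
      exact hAn.conj_mem _ h1 _
    have hrel := basic_rel u v
    have htu : Commute (v⁻¹ * u⁻¹ * v * u) u := huC _ htA
    have htv : Commute (v⁻¹ * u⁻¹ * v * u) v := hvC _ htA
    have htp : (v⁻¹ * u⁻¹ * v * u) ^ p = 1 := by
      have h2 := pow_mul_of_rel_comm hrel htv p
      rw [hvp, one_mul, mul_one] at h2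
      exact (mul_eq_left.mp h2.symm)
    refine ⟨?_, ?_, ?_⟩
    · rw [mul_pow_of_rel_comm hrel htu htv p, hup, hvp, one_mul, one_mul]
      have hd2 : p ∣ p.choose 2 := hpp.dvd_choose_self (by norm_num) (by
        have := hpp.two_le; omega)
      obtain ⟨k, hk⟩ := hd2
      rw [hk, pow_mul, htp, one_pow]
    · intro a ha
      rw [← mul_assoc, huC a ha, mul_assoc, hvC a ha, mul_assoc]
    · intro n hn
      have e : n * (u * v) * n⁻¹ * (u * v)⁻¹ =
          (n * u * n⁻¹ * u⁻¹) * (u * (n * v * n⁻¹ * v⁻¹) * u⁻¹) := by group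
      rw [e]
      exact A.mul_mem (hun n hn) (hAn.conj_mem _ (hvn n hn) u)
  have hinv : ∀ u : G, (u ^ p = 1 ∧ (∀ a ∈ A, a * u = u * a) ∧
      (∀ n ∈ centMod A y, n * u * n⁻¹ * u⁻¹ ∈ A)) → (u⁻¹ ^ p = 1 ∧
      (∀ a ∈ A, a * u⁻¹ = u⁻¹ * a) ∧
      (∀ n ∈ centMod A y, n * u⁻¹ * n⁻¹ * u⁻¹⁻¹ ∈ A)) := by
    rintro u ⟨hup, huC, hun⟩
    refine ⟨by rw [inv_pow, hup, inv_one], ?_, ?_⟩
    · intro a ha
      have := huC a ha
      calc a * u⁻¹ = u⁻¹ * (u * a) * u⁻¹ := by group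
        _ = u⁻¹ * (a * u) * u⁻¹ := by rw [this]
        _ = u⁻¹ * a := by group
    · intro n hn
      have e : n * u⁻¹ * n⁻¹ * u⁻¹⁻¹ = u⁻¹ * (n * u * n⁻¹ * u⁻¹)⁻¹ * u⁻¹⁻¹ := by group
      rw [e]
      exact hAn.conj_mem _ (A.inv_mem (hun n hn)) _
  have hconj : ∀ u : G, (u ^ p = 1 ∧ (∀ a ∈ A, a * u = u * a) ∧
      (∀ n ∈ centMod A y, n * u * n⁻¹ * u⁻¹ ∈ A)) → ((h * u * h⁻¹) ^ p = 1 ∧
      (∀ a ∈ A, a * (h * u * h⁻¹) = (h * u * h⁻¹) * a) ∧
      (∀ n ∈ centMod A y, n * (h * u * h⁻¹) * n⁻¹ * (h * u * h⁻¹)⁻¹ ∈ A)) := by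
    rintro u ⟨hup, huC, hun⟩
    refine ⟨by rw [conj_pow, hup, mul_one, mul_inv_cancel], ?_, ?_⟩
    · intro a ha
      have h1 : h⁻¹ * a * h⁻¹⁻¹ ∈ A := hAn.conj_mem a ha h⁻¹
      have h2 := huC _ h1
      calc a * (h * u * h⁻¹) = h * ((h⁻¹ * a * h⁻¹⁻¹) * u) * h⁻¹ := by group
        _ = h * (u * (h⁻¹ * a * h⁻¹⁻¹)) * h⁻¹ := by rw [h2]
        _ = (h * u * h⁻¹) * a := by group
    · intro n hn
      have h1 : h⁻¹ * n * h⁻¹⁻¹ ∈ centMod A y := by
        have h3 := (Subgroup.mem_normalizer_iff.mp hhn (h⁻¹ * n * h⁻¹⁻¹))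
        rw [h3]
        have e : h * (h⁻¹ * n * h⁻¹⁻¹) * h⁻¹ = n := by group
        rw [e]; exact hn
      have h2 := hun _ h1
      have e : n * (h * u * h⁻¹) * n⁻¹ * (h * u * h⁻¹)⁻¹ =
          h * ((h⁻¹ * n * h⁻¹⁻¹) * u * (h⁻¹ * n * h⁻¹⁻¹)⁻¹ * u⁻¹) * h⁻¹ := by group
      rw [e]
      exact hAn.conj_mem _ h2 h
  -- the sequence of iterated commutators with `h`
  let f : ℕ → G := fun j => Nat.rec y (fun _ w => h * w * h⁻¹ * w⁻¹) j
  have hf0 : f 0 = y := rfl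
  have hfs : ∀ j, f (j + 1) = h * f j * h⁻¹ * (f j)⁻¹ := fun j => rfl
  have hfS : ∀ j, ((f j) ^ p = 1 ∧ (∀ a ∈ A, a * (f j) = (f j) * a) ∧
      (∀ n ∈ centMod A y, n * (f j) * n⁻¹ * (f j)⁻¹ ∈ A)) := by
    intro j
    induction j with
    | zero =>
      rw [hf0]
      exact ⟨hyp, hyC, fun n hn => hn⟩
    | succ j ih =>
      rw [hfs]
      exact hmul _ _ (hconj _ ih) (hinv _ ih)
  have hfL : ∀ j, f j ∈ (⊤ : Subgroup G).lowerCentralSeries j := by
    intro j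
    induction j with
    | zero => exact Subgroup.mem_top _
    | succ j ih =>
      rw [hfs]
      have e : h * f j * h⁻¹ * (f j)⁻¹ = ⁅f j, h⁆⁻¹ := by
        rw [commutatorElement_def]; group
      rw [e]
      exact Subgroup.inv_mem _ (Subgroup.commutator_mem_commutator ih (Subgroup.mem_top h))
  obtain ⟨m, hm⟩ := Subgroup.nilpotent_iff_lowerCentralSeries.mp hnil
  have hex : ∃ j, f j ∈ A := ⟨m, by
    have := hfL m
    rw [hm, Subgroup.mem_bot] at this
    rw [this]; exact A.one_mem⟩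
  classical
  have hj0 : Nat.find hex ≠ 0 := by
    intro h0
    have := Nat.find_spec hex
    rw [h0, hf0] at this
    exact hyA this
  obtain ⟨k, hk⟩ := Nat.exists_eq_succ_of_ne_zero hj0
  have hkA : f k ∉ A := Nat.find_min hex (by rw [hk]; exact Nat.lt_succ_self k)
  have hk1 : f (k + 1) ∈ A := by
    have := Nat.find_spec hex
    rw [hk] at this
    exact this
  obtain ⟨hkp, hkC, hkn⟩ := hfS k
  have hkey := key (f k) hkA hkp hkC hkn
  apply hhN
  rw [← hkey, mem_centMod, ← hfs]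
  exact hk1

/-- Alperin's lemma: for `p` odd, a normal elementary abelian subgroup `A` of a `p`-group which
is centralized by an element of order `p` outside it is contained in a normal elementary
abelian subgroup of order `p |A|`. -/
theorem alperin_extend {G : Type*} [Group G] [Finite G] {p : ℕ} [Fact p.Prime] (hp : p ≠ 2)
    (hP : IsPGroup p G) (A : Subgroup G) [hAn : A.Normal]
    (hAc : ∀ a ∈ A, ∀ b ∈ A, a * b = b * a) (hAe : ∀ a ∈ A, a ^ p = 1)
    (x : G) (hxA : x ∉ A) (hxp : x ^ p = 1) (hxC : ∀ a ∈ A, a * x = x * a) :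
    ∃ B : Subgroup G, B.Normal ∧ A ≤ B ∧ (∀ a ∈ B, ∀ b ∈ B, a * b = b * a) ∧
      (∀ b ∈ B, b ^ p = 1) ∧ Nat.card B = p * Nat.card A := by
  have hpp : p.Prime := Fact.out
  obtain ⟨y, hyA, hyp, hyC, hyt⟩ := alperin_step hp hP A x hxA hxp hxC
  have hzc : (QuotientGroup.mk' A) y ∈ Subgroup.center (G ⧸ A) := by
    rw [Subgroup.mem_center_iff]
    intro q
    obtain ⟨t, rfl⟩ := QuotientGroup.mk'_surjective A q
    rw [← map_mul, ← map_mul]
    apply (QuotientGroup.eq).mpr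
    have e : (t * y)⁻¹ * (y * t) = t⁻¹ * (y⁻¹ * (t * y * t⁻¹ * y⁻¹)⁻¹ * y⁻¹⁻¹) * t⁻¹⁻¹ := by
      group
    rw [e]
    exact hAn.conj_mem _ (hAn.conj_mem _ (A.inv_mem (hyt t)) _) _
  have hBn : ((Subgroup.zpowers ((QuotientGroup.mk' A) y)).comap (QuotientGroup.mk' A)).Normal := by
    have : (Subgroup.zpowers ((QuotientGroup.mk' A) y)).Normal := ⟨fun n hn g => by
      have h1 : Subgroup.zpowers ((QuotientGroup.mk' A) y) ≤ Subgroup.center (G ⧸ A) :=
        (Subgroup.zpowers_le).mpr hzc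
      have h2 := Subgroup.mem_center_iff.mp (h1 hn) g
      rw [h2, mul_inv_cancel_right]
      exact hn⟩
    exact Subgroup.Normal.comap this _
  have hAB : A ≤ (Subgroup.zpowers ((QuotientGroup.mk' A) y)).comap (QuotientGroup.mk' A) := by
    intro a ha
    rw [Subgroup.mem_comap]
    have : (QuotientGroup.mk' A) a = 1 := (QuotientGroup.eq_one_iff a).mpr ha
    rw [this]
    exact Subgroup.one_mem _
  have hxc : ∀ (k : ℤ) (c : G), c ∈ A → c * y ^ k = y ^ k * c := by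
    intro k c hc
    have h1 : Commute c y := hyC c hc
    exact (h1.zpow_right k).eq
  have hBab : ∀ a ∈ (Subgroup.zpowers ((QuotientGroup.mk' A) y)).comap (QuotientGroup.mk' A),
      ∀ b ∈ (Subgroup.zpowers ((QuotientGroup.mk' A) y)).comap (QuotientGroup.mk' A),
      a * b = b * a := by
    intro a ha b hb
    obtain ⟨i, n, hn, rfl⟩ := mem_comap_zpowers A y a ha
    obtain ⟨j, m, hm, rfl⟩ := mem_comap_zpowers A y b hb
    have hcc : y ^ i * y ^ j = y ^ j * y ^ i := ((Commute.refl y).zpow_zpow i j).eq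
    calc y ^ i * n * (y ^ j * m) = y ^ i * (n * y ^ j) * m := by group
      _ = y ^ i * (y ^ j * n) * m := by rw [hxc j n hn]
      _ = (y ^ i * y ^ j) * (n * m) := by group
      _ = (y ^ j * y ^ i) * (m * n) := by rw [hcc, hAc n hn m hm]
      _ = y ^ j * (y ^ i * m) * n := by group
      _ = y ^ j * (m * y ^ i) * n := by rw [hxc i m hm]
      _ = y ^ j * m * (y ^ i * n) := by group
  have hBe : ∀ b ∈ (Subgroup.zpowers ((QuotientGroup.mk' A) y)).comap (QuotientGroup.mk' A),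
      b ^ p = 1 := by
    intro b hb
    obtain ⟨j, m, hm, rfl⟩ := mem_comap_zpowers A y b hb
    have hc : Commute (y ^ j) m := (hxc j m hm).symm
    rw [hc.mul_pow, hAe m hm, mul_one, ← zpow_natCast, ← zpow_mul, mul_comm, zpow_mul,
      zpow_natCast, hyp, one_zpow]
  refine ⟨_, hBn, hAB, hBab, hBe, ?_⟩
  rw [card_comap_mk', Nat.card_zpowers, mul_comm]
  congr 1
  apply orderOf_eq_prime
  · rw [← map_pow, hyp, map_one]
  · intro h1
    exact hyA ((QuotientGroup.eq_one_iff y).mp h1)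

/-- The index of `C_T(g)` in `T` is at most the size of any set containing the
`T`-conjugates of `g`. -/
theorem relIndex_centralizer_le_card {G : Type*} [Group G] [Finite G] (T : Subgroup G) (g : G)
    (Z : Set G) (h : ∀ t ∈ T, t * g * t⁻¹ ∈ Z) :
    (T ⊓ Subgroup.centralizer {g}).relIndex T ≤ Nat.card Z := by
  show Nat.card (T ⧸ (T ⊓ Subgroup.centralizer {g}).subgroupOf T) ≤ Nat.card Z
  apply Nat.card_le_card_of_injective
    (fun q : T ⧸ (T ⊓ Subgroup.centralizer {g}).subgroupOf T =>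
      (⟨(q.out : G) * g * (q.out : G)⁻¹, h _ q.out.2⟩ : Z))
  intro q₁ q₂ hq
  have hq'' : (q₁.out : G) * g * (q₁.out : G)⁻¹ = (q₂.out : G) * g * (q₂.out : G)⁻¹ :=
    congrArg Subtype.val hq
  have hmem : q₁.out⁻¹ * q₂.out ∈ (T ⊓ Subgroup.centralizer {g}).subgroupOf T := by
    rw [Subgroup.mem_subgroupOf]
    refine Subgroup.mem_inf.mpr ⟨(q₁.out⁻¹ * q₂.out).2, ?_⟩
    rw [Subgroup.mem_centralizer_iff]
    intro x hx
    rw [Set.mem_singleton_iff] at hx
    subst hx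
    push_cast
    calc x * ((q₁.out : G)⁻¹ * (q₂.out : G))
        = (q₁.out : G)⁻¹ * ((q₁.out : G) * x * (q₁.out : G)⁻¹) * (q₂.out : G) := by group
      _ = (q₁.out : G)⁻¹ * ((q₂.out : G) * x * (q₂.out : G)⁻¹) * (q₂.out : G) := by rw [hq'']
      _ = (q₁.out : G)⁻¹ * (q₂.out : G) * x := by group
  have := QuotientGroup.eq.mpr hmem
  rw [QuotientGroup.out_eq', QuotientGroup.out_eq'] at this
  exact this

end Cfsg.Agent.H3
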