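import Cfsg.Agent.H3.PGroup
import Cfsg.Agent.H3.Critical

set_option autoImplicit false

namespace Cfsg.Agent.H3

/-- If all commutators `t g t⁻¹ g⁻¹` (`t ∈ T`) lie in `Z`, the centralizer of `g` in `T` has index
at most `|Z|`. -/
theorem card_le_mul_card_inf_centralizer {G : Type*} [Group G] [Finite G] (T Z : Subgroup G)
    (g : G) (h : ∀ t ∈ T, t * g * t⁻¹ * g⁻¹ ∈ Z) :
    Nat.card T ≤ Nat.card Z * Nat.card (T ⊓ Subgroup.centralizer {g} : Subgroup G) := by
  set T₀ : Subgroup G := T ⊓ Subgroup.centralizer {g} with hT₀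
  have h1 : T₀.relIndex T * Nat.card T₀ = Nat.card T := relIndex_mul_card_of_le inf_le_left
  have h2 : T₀.relIndex T ≤ Nat.card Z := by
    show Nat.card (T ⧸ T₀.subgroupOf T) ≤ Nat.card Z
    apply Nat.card_le_card_of_injective
      (fun q : T ⧸ T₀.subgroupOf T => (⟨(q.out : G) * g * (q.out : G)⁻¹ * g⁻¹, h _ q.out.2⟩ : Z))
    intro q₁ q₂ hq
    have hq' : (q₁.out : G) * g * (q₁.out : G)⁻¹ * g⁻¹ = (q₂.out : G) * g * (q₂.out : G)⁻¹ * g⁻¹ :=
      congrArg Subtype.val hq
    have hq'' : (q₁.out : G) * g * (q₁.out : G)⁻¹ = (q₂.out : G) * g * (q₂.out : G)⁻¹ :=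
      mul_right_cancel hq'
    have hmem : q₁.out⁻¹ * q₂.out ∈ T₀.subgroupOf T := by
      rw [Subgroup.mem_subgroupOf]
      refine Subgroup.mem_inf.mpr ⟨(q₁.out⁻¹ * q₂.out).2, ?_⟩
      rw [Subgroup.mem_centralizer_iff]
      intro x hx
      rw [Set.mem_singleton_iff] at hx
      subst hx
      push_cast
      calc x * ((q₁.out : G)⁻¹ * (q₂.out : G))
          = (q₁.out : G)⁻¹ * ((q₁.out : G) * x * (q₁.out : G)⁻¹) * (q₂.out : G) := by group
        _ = (q₁.out : G)⁻¹ * ((q₂.out : G) * x * (q₂.out : G)⁻¹) * (q₂.out : G) := by rw [hq'']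
        _ = (q₁.out : G)⁻¹ * (q₂.out : G) * x := by group
    have := QuotientGroup.eq.mpr hmem
    rw [QuotientGroup.out_eq', QuotientGroup.out_eq'] at this
    exact this
  calc Nat.card T = T₀.relIndex T * Nat.card T₀ := h1.symm
    _ ≤ Nat.card Z * Nat.card T₀ := Nat.mul_le_mul_right _ h2

/-- The chain lemma: if commutators of `S` with `Y` lie in a subgroup `Z` of order `p` and
`X ≤ Y` with `Y` a `p`-group, then `|C_S(X)| |X| ≤ |C_S(Y)| |Y|`. -/
theorem chain_centralizer_card {G : Type*} [Group G] [Finite G] {p : ℕ} [Fact p.Prime]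
    (S Z : Subgroup G) (hZ : Nat.card Z = p) :
    ∀ (n : ℕ) (X Y : Subgroup G), X ≤ Y → IsPGroup p Y → Nat.card Y - Nat.card X = n →
      (∀ s ∈ S, ∀ y ∈ Y, s * y * s⁻¹ * y⁻¹ ∈ Z) →
      Nat.card (S ⊓ Subgroup.centralizer (X : Set G) : Subgroup G) * Nat.card X ≤
        Nat.card (S ⊓ Subgroup.centralizer (Y : Set G) : Subgroup G) * Nat.card Y := by
  have hp : p.Prime := Fact.out
  intro n
  induction n using Nat.strong_induction_on with
  | _ n ih =>
    intro X Y hXY hY hn hcomm
    by_cases hXYeq : X = Y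
    · subst hXYeq; exact le_rfl
    · have hlt : X < Y := lt_of_le_of_ne hXY hXYeq
      obtain ⟨g, hgY, hgX⟩ := SetLike.exists_of_lt hlt
      set X' : Subgroup G := X ⊔ Subgroup.zpowers g with hX'
      have hXX' : X ≤ X' := le_sup_left
      have hgX' : g ∈ X' := Subgroup.mem_sup_right (Subgroup.mem_zpowers g)
      have hX'Y : X' ≤ Y := sup_le hXY ((Subgroup.zpowers_le).mpr hgY)
      have hcardlt : Nat.card X < Nat.card X' := by
        by_contra hcon
        have := Subgroup.eq_of_le_of_card_ge hXX' (not_lt.mp hcon)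
        exact hgX (this ▸ hgX')
      have hcardle : Nat.card X' ≤ Nat.card Y := Subgroup.card_le_of_le hX'Y
      have hpX : p * Nat.card X ≤ Nat.card X' := by
        have hX'p : IsPGroup p X' := hY.to_le hX'Y
        have hXp : IsPGroup p X := hY.to_le hXY
        obtain ⟨b, hb⟩ := IsPGroup.iff_card.mp hX'p
        obtain ⟨a, ha⟩ := IsPGroup.iff_card.mp hXp
        rw [ha, hb] at hcardlt ⊢
        have hab : a < b := (Nat.pow_lt_pow_iff_right hp.one_lt).mp hcardlt
        calc p * p ^ a = p ^ (a + 1) := by rw [pow_succ, mul_comm]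
          _ ≤ p ^ b := Nat.pow_le_pow_right hp.pos hab
      set T : Subgroup G := S ⊓ Subgroup.centralizer (X : Set G) with hT
      set T' : Subgroup G := S ⊓ Subgroup.centralizer (X' : Set G) with hT'
      have hTT' : T ⊓ Subgroup.centralizer {g} ≤ T' := by
        intro t ht
        obtain ⟨ht1, ht2⟩ := Subgroup.mem_inf.mp ht
        obtain ⟨ht3, ht4⟩ := Subgroup.mem_inf.mp ht1
        refine Subgroup.mem_inf.mpr ⟨ht3, ?_⟩
        have hle : X' ≤ Subgroup.centralizer {t} := by
          apply sup_le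
          · intro x hx
            rw [Subgroup.mem_centralizer_iff]
            intro y hy
            rw [Set.mem_singleton_iff] at hy
            subst hy
            exact ((Subgroup.mem_centralizer_iff.mp ht4) x hx).symm
          · rw [Subgroup.zpowers_le, Subgroup.mem_centralizer_iff]
            intro y hy
            rw [Set.mem_singleton_iff] at hy
            subst hy
            exact ((Subgroup.mem_centralizer_iff.mp ht2) g rfl).symm
        rw [Subgroup.mem_centralizer_iff]
        intro x hx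
        exact ((Subgroup.mem_centralizer_iff.mp (hle hx)) t rfl).symm
      have hB := card_le_mul_card_inf_centralizer T Z g
        (fun t ht => hcomm t (Subgroup.mem_inf.mp ht).1 g hgY)
      rw [hZ] at hB
      have hB' : Nat.card T ≤ p * Nat.card T' :=
        hB.trans (Nat.mul_le_mul_left _ (Subgroup.card_le_of_le hTT'))
      have hIH := ih (Nat.card Y - Nat.card X') (by omega) X' Y hX'Y hY rfl hcomm
      calc Nat.card T * Nat.card X ≤ p * Nat.card T' * Nat.card X :=
            Nat.mul_le_mul_right _ hB'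
        _ = Nat.card T' * (p * Nat.card X) := by ring
        _ ≤ Nat.card T' * Nat.card X' := Nat.mul_le_mul_left _ hpX
        _ ≤ _ := hIH

/-- A finite `p`-group whose centre has order `p` and equals the derived subgroup has order
`p ^ (2 n + 1)` with `n ≥ 1`. -/
theorem extraspecial_card {P : Type*} [Group P] [Finite P] {p : ℕ} [Fact p.Prime]
    (hP : IsPGroup p P) (hcomm : commutator P = Subgroup.center P)
    (hZ : Nat.card (Subgroup.center P) = p) :
    ∃ n : ℕ, 1 ≤ n ∧ Nat.card P = p ^ (2 * n + 1) := by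
  have hp : p.Prime := Fact.out
  obtain ⟨A, hZA, hA⟩ := Set.Finite.exists_le_maximal
    (s := {A : Subgroup P | ∀ a ∈ A, ∀ b ∈ A, a * b = b * a})
    (Set.toFinite _) (a := Subgroup.center P) (by
      intro a ha b hb
      exact (Subgroup.mem_center_iff.mp hb a))
  have hAab : ∀ a ∈ A, ∀ b ∈ A, a * b = b * a := hA.1
  have hAmax : ∀ L : Subgroup P, (∀ a ∈ L, ∀ b ∈ L, a * b = b * a) → A ≤ L → L ≤ A :=
    fun L h1 h2 => hA.2 h1 h2
  have hCA : Subgroup.centralizer (A : Set P) = A := by
    apply le_antisymm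
    · intro g hg
      have hss : ((A : Set P) ∪ {g}) ⊆ Subgroup.centralizer ((A : Set P) ∪ {g}) := by
        intro x hx
        rw [SetLike.mem_coe, Subgroup.mem_centralizer_iff]
        intro y hy
        rcases hx with hx | hx <;> rcases hy with hy | hy
        · exact hAab y hy x hx
        · rw [Set.mem_singleton_iff] at hy
          subst hy
          exact ((Subgroup.mem_centralizer_iff.mp hg) x hx).symm
        · rw [Set.mem_singleton_iff] at hx
          subst hx
          exact (Subgroup.mem_centralizer_iff.mp hg) y hy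
        · rw [Set.mem_singleton_iff] at hx hy
          rw [hx, hy]
      have hcl : Subgroup.closure ((A : Set P) ∪ {g}) ≤
          Subgroup.centralizer (Subgroup.closure ((A : Set P) ∪ {g}) : Set P) := by
        rw [Subgroup.centralizer_closure]
        exact (Subgroup.closure_le _).mpr hss
      have hab : ∀ a ∈ Subgroup.closure ((A : Set P) ∪ {g}),
          ∀ b ∈ Subgroup.closure ((A : Set P) ∪ {g}), a * b = b * a := by
        intro a ha b hb
        exact (Subgroup.mem_centralizer_iff.mp (hcl hb)) a ha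
      have hAs : A ≤ Subgroup.closure ((A : Set P) ∪ {g}) :=
        fun a ha => Subgroup.subset_closure (Or.inl ha)
      exact hAmax _ hab hAs (Subgroup.subset_closure (Or.inr rfl))
    · intro a ha
      rw [Subgroup.mem_centralizer_iff]
      intro b hb
      exact hAab b hb a ha
  have hcm : ∀ s y : P, s * y * s⁻¹ * y⁻¹ ∈ Subgroup.center P := by
    intro s y
    rw [← hcomm]
    exact Subgroup.commutator_mem_commutator (Subgroup.mem_top s) (Subgroup.mem_top y)
  have hA_p : IsPGroup p A := hP.to_subgroup A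
  have htop_p : IsPGroup p (⊤ : Subgroup P) := hP.to_subgroup ⊤
  have e1 := chain_centralizer_card (⊤ : Subgroup P) (Subgroup.center P) hZ _ (Subgroup.center P) A
    hZA hA_p rfl (fun s _ y _ => hcm s y)
  have e2 := chain_centralizer_card A (Subgroup.center P) hZ _ A ⊤ le_top htop_p rfl
    (fun s _ y _ => hcm s y)
  have c1 : (⊤ ⊓ Subgroup.centralizer (Subgroup.center P : Set P) : Subgroup P) = ⊤ := by
    rw [Subgroup.centralizer_center, top_inf_eq]
  have c2 : (⊤ ⊓ Subgroup.centralizer (A : Set P) : Subgroup P) = A := by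
    rw [hCA, top_inf_eq]
  have c3 : (A ⊓ Subgroup.centralizer (A : Set P) : Subgroup P) = A := by
    rw [hCA, inf_idem]
  have c4 : (A ⊓ Subgroup.centralizer ((⊤ : Subgroup P) : Set P) : Subgroup P) =
      Subgroup.center P := by
    rw [Subgroup.coe_top, Subgroup.centralizer_univ]
    exact inf_eq_right.mpr hZA
  rw [c1, c2, Subgroup.card_top, hZ] at e1
  rw [c3, c4, Subgroup.card_top, hZ] at e2
  obtain ⟨m, hm⟩ := IsPGroup.iff_card.mp hA_p
  obtain ⟨k, hk⟩ := IsPGroup.iff_card.mp hP
  rw [hm, hk] at e1 e2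
  have e3 : p ^ (k + 1) = p ^ (2 * m) := by
    apply le_antisymm
    · calc p ^ (k + 1) = p ^ k * p := pow_succ _ _
        _ ≤ p ^ m * p ^ m := e1
        _ = p ^ (2 * m) := by rw [← pow_add]; ring_nf
    · calc p ^ (2 * m) = p ^ m * p ^ m := by rw [← pow_add]; ring_nf
        _ ≤ p * p ^ k := e2
        _ = p ^ (k + 1) := by rw [pow_succ, mul_comm]
  have e4 : k + 1 = 2 * m := Nat.pow_right_injective hp.two_le e3
  refine ⟨m - 1, ?_, ?_⟩
  · by_contra hcon
    have hm1 : m = 1 := by omega
    have hk1 : k = 1 := by omega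
    have hZtop : Subgroup.center P = ⊤ :=
      Subgroup.eq_top_of_card_eq _ (by rw [hZ, hk, hk1, pow_one])
    have hc : commutator P = ⊥ := by
      rw [commutator_def, Subgroup.commutator_eq_bot_iff_le_centralizer, Subgroup.coe_top,
        Subgroup.centralizer_univ, hZtop]
    rw [hcomm] at hc
    rw [hc, Subgroup.card_bot] at hZ
    exact hp.one_lt.ne hZ
  · rw [hk]
    congr 1
    omega

open scoped commutatorElement in
/-- In a `p`-group `G`, a subgroup `E` with centre of order `p` and `[G, E] ≤ Z(E)` satisfies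
`G = E C_G(E)`. -/
theorem extraspecial_sup_centralizer {G : Type*} [Group G] [Finite G] {p : ℕ} [Fact p.Prime]
    (hG : IsPGroup p G) (E : Subgroup G) (hZE : Nat.card (Subgroup.center E) = p)
    (h : ⁅(⊤ : Subgroup G), E⁆ ≤ E ⊓ Subgroup.centralizer (E : Set G)) :
    E ⊔ Subgroup.centralizer (E : Set G) = ⊤ := by
  have hp : p.Prime := Fact.out
  have hcardZ : Nat.card (E ⊓ Subgroup.centralizer (E : Set G) : Subgroup G) = p := by
    rw [← hZE]
    apply Nat.card_congr
    exact
      { toFun := fun z => ⟨⟨z.1, (Subgroup.mem_inf.mp z.2).1⟩, by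
          rw [Subgroup.mem_center_iff]
          intro g
          apply Subtype.ext
          exact (Subgroup.mem_centralizer_iff.mp (Subgroup.mem_inf.mp z.2).2) g g.2⟩
        invFun := fun z => ⟨z.1.1, Subgroup.mem_inf.mpr ⟨z.1.2, by
          rw [Subgroup.mem_centralizer_iff]
          intro g hg
          exact congrArg Subtype.val (Subgroup.mem_center_iff.mp z.2 ⟨g, hg⟩)⟩⟩
        left_inv := fun z => rfl
        right_inv := fun z => rfl }
  have hcm : ∀ s : G, ∀ y ∈ E, s * y * s⁻¹ * y⁻¹ ∈ E ⊓ Subgroup.centralizer (E : Set G) :=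
    fun s y hy => h (Subgroup.commutator_mem_commutator (Subgroup.mem_top s) hy)
  have hZn : (E ⊓ Subgroup.centralizer (E : Set G)).Normal := ⟨fun z hz g => by
    have h1 := hcm g z (Subgroup.mem_inf.mp hz).1
    have e : g * z * g⁻¹ = (g * z * g⁻¹ * z⁻¹) * z := by group
    rw [e]
    exact Subgroup.mul_mem _ h1 hz⟩
  have hZc : E ⊓ Subgroup.centralizer (E : Set G) ≤ Subgroup.center G := by
    have hne : E ⊓ Subgroup.centralizer (E : Set G) ≠ ⊥ := by
      intro hb
      rw [hb, Subgroup.card_bot] at hcardZ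
      exact hp.one_lt.ne hcardZ
    obtain ⟨z, hzZ, hzc, hz1⟩ := normal_inf_center_ne_bot hG _ hne
    have hzp : Subgroup.zpowers z = E ⊓ Subgroup.centralizer (E : Set G) := by
      apply Subgroup.eq_of_le_of_card_ge ((Subgroup.zpowers_le).mpr hzZ)
      rw [hcardZ, Nat.card_zpowers]
      have hdvd : orderOf z ∣ p := by
        rw [← hcardZ]
        exact Subgroup.orderOf_dvd_natCard _ hzZ
      rcases (Nat.dvd_prime hp).mp hdvd with h1 | h1
      · exact absurd (orderOf_eq_one_iff.mp h1) hz1
      · exact h1.ge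
    rw [← hzp, Subgroup.zpowers_le]
    exact hzc
  have c1 : (⊤ ⊓ Subgroup.centralizer ((E ⊓ Subgroup.centralizer (E : Set G) : Subgroup G) : Set G)
      : Subgroup G) = ⊤ := by
    rw [top_inf_eq, Subgroup.centralizer_eq_top_iff_subset]
    exact hZc
  have hE_p : IsPGroup p E := hG.to_subgroup E
  have e1 := chain_centralizer_card (⊤ : Subgroup G) (E ⊓ Subgroup.centralizer (E : Set G)) hcardZ _
    (E ⊓ Subgroup.centralizer (E : Set G)) E inf_le_left hE_p rfl (fun s _ y hy => hcm s y hy)
  rw [c1, Subgroup.card_top, hcardZ, top_inf_eq] at e1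
  have hEn : E.Normal := ⟨fun y hy g => by
    have h1 := (Subgroup.mem_inf.mp (hcm g y hy)).1
    have e : g * y * g⁻¹ = (g * y * g⁻¹ * y⁻¹) * y := by group
    rw [e]
    exact E.mul_mem h1 hy⟩
  have hCn : (Subgroup.centralizer (E : Set G)).Normal := Subgroup.normal_centralizer
  have h1 : (Subgroup.centralizer (E : Set G)).relIndex (E ⊔ Subgroup.centralizer (E : Set G)) =
      (Subgroup.centralizer (E : Set G)).relIndex E := Subgroup.relIndex_sup_right _ _
  have e2 : (Subgroup.centralizer (E : Set G)).relIndex (E ⊔ Subgroup.centralizer (E : Set G)) *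
      Nat.card (Subgroup.centralizer (E : Set G)) =
      Nat.card (E ⊔ Subgroup.centralizer (E : Set G) : Subgroup G) :=
    relIndex_mul_card_of_le le_sup_right
  have e3 : (Subgroup.centralizer (E : Set G)).relIndex E *
      Nat.card (Subgroup.centralizer (E : Set G) ⊓ E : Subgroup G) = Nat.card E :=
    relIndex_mul_card_inf _ E
  rw [inf_comm, hcardZ] at e3
  rw [h1] at e2
  apply Subgroup.eq_top_of_card_eq
  apply le_antisymm (Subgroup.card_le_card_group _)
  have h5 : Nat.card G * p ≤ Nat.card (E ⊔ Subgroup.centralizer (E : Set G) : Subgroup G) * p := by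
    calc Nat.card G * p ≤ Nat.card (Subgroup.centralizer (E : Set G)) * Nat.card E := e1
      _ = Nat.card (Subgroup.centralizer (E : Set G)) *
          ((Subgroup.centralizer (E : Set G)).relIndex E * p) := by rw [e3]
      _ = ((Subgroup.centralizer (E : Set G)).relIndex E *
          Nat.card (Subgroup.centralizer (E : Set G))) * p := by ring
      _ = _ := by rw [e2]
  exact Nat.le_of_mul_le_mul_right h5 hp.pos

end Cfsg.Agent.H3
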