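import Mathlib
import Cfsg.Prelude.Def_GeometricClasses
import Cfsg.Agent.H1.HallHigman
import Cfsg.Agent.H3.FpEof
import Cfsg.Agent.H71.FpD

set_option autoImplicit false

namespace Cfsg.Agent.H3.Fp

/-- S5876-E: the abstract bound `4 c(g) ≤ 3 N`. -/
theorem abstract_fix_bound {G : Type*} [Group G] [Finite G] [Group.IsSolvable G] (N : ℕ)
    (c : G → ℕ)
    (h1 : ∀ g x : G, 2 * c g ≤ N + c (g⁻¹ * (x⁻¹ * g * x)))
    (h2 : ∀ A : Subgroup G, A.Normal → (∀ a ∈ A, ∀ b ∈ A, a * b = b * a) →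
      ∀ a ∈ A, a ≠ 1 → c a = 0)
    (g : G) (hg : g ≠ 1) : 4 * c g ≤ 3 * N :=
  abstract_fix_bound_of
    (fun A hAn hA hmax H hHn hHnil hAH hHA y hy hyA =>
      Cfsg.Agent.H71.Fp.nilpotent_comm_in_max_abelian A hAn hA hmax H hHn hHnil hAH hHA y hy hyA)
    N c h1 h2 g hg

example {G : Type*} [Group G] [Finite G] [Group.IsSolvable G] (N : ℕ) (c : G → ℕ)
    (h1 : ∀ g x : G, 2 * c g ≤ N + c (g⁻¹ * (x⁻¹ * g * x)))
    (h2 : ∀ A : Subgroup G, A.Normal → (∀ a ∈ A, ∀ b ∈ A, a * b = b * a) →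
      ∀ a ∈ A, a ≠ 1 → c a = 0)
    (g : G) (hg : g ≠ 1) : 4 * c g ≤ 3 * N :=
  abstract_fix_bound N c h1 h2 g hg

end Cfsg.Agent.H3.Fp
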