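import Mathlib
import Cfsg.Agent.H79.HcDefs
import Cfsg.Agent.H80.PSolvable
import Cfsg.Agent.H80.SolvPSolv

/-!
# S4440 piece P22 (helper3, for helper79): the group theory of `Ĝ ⧸ L`
-/

set_option autoImplicit false

namespace Cfsg.Agent.H3.Hc

open Cfsg Cfsg.Agent.H79.Hc

universe u

/-- surjective images of `p`-solvable groups are `p`-solvable -/
theorem hc22_isPSolvable_of_surjective {G G' : Type*} [Group G] [Group G'] (p : ℕ)
    [Fact p.Prime] (f : G →* G') (hf : Function.Surjective f) (h : IsPSolvable p G) :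
    IsPSolvable p G' := by
  have hp : p.Prime := Fact.out
  obtain ⟨n, Hs, h0, hlast, hmono, hnorm, hfac⟩ := h
  refine ⟨n, fun i => (Hs i).map f, ?_, ?_, ?_, ?_, ?_⟩
  · simp [h0]
  · simp only [hlast]
    exact Subgroup.map_top_of_surjective _ hf
  · intro i j hij
    exact Subgroup.map_mono (hmono hij)
  · intro i
    exact (hnorm i).map _ hf
  · intro i
    have hle : Hs i.castSucc ≤ Hs i.succ := hmono (Fin.castSucc_lt_succ).le
    haveI := hnorm i.castSucc
    have hdvd : ((Hs i.castSucc).map f).relIndex ((Hs i.succ).map f) ∣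
        (Hs i.castSucc).relIndex (Hs i.succ) := by
      rw [Subgroup.relIndex_map_map]
      have e : Hs i.succ ⊔ f.ker = Hs i.succ ⊔ (Hs i.castSucc ⊔ f.ker) := by
        rw [← sup_assoc, sup_eq_left.mpr hle]
      rw [e, Subgroup.relIndex_sup_right]
      exact Subgroup.relIndex_dvd_of_le_left _ le_sup_left
    rcases hfac i with ⟨m, hm⟩ | hcop
    · left
      rw [hm] at hdvd
      obtain ⟨j, _, hj⟩ := (Nat.dvd_prime_pow hp).mp hdvd
      exact ⟨j, hj⟩
    · right
      exact Nat.Coprime.coprime_dvd_left hdvd hcop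

/-- a finite group without elements of order `p` has order prime to `p` -/
theorem hc22_coprime_of_forall {H : Type*} [Group H] [Finite H] (p : ℕ) [Fact p.Prime]
    (h : ∀ x : H, orderOf x ≠ p) : (Nat.card H).Coprime p := by
  have hp : p.Prime := Fact.out
  rw [Nat.coprime_comm, Nat.Prime.coprime_iff_not_dvd hp]
  intro hdvd
  obtain ⟨x, hx⟩ := exists_prime_orderOf_dvd_card' p hdvd
  exact h x hx

theorem stmtGroupGamma (p : ℕ) [Fact p.Prime] : StmtGroupGamma.{u} p := by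
  intro G _ _ K _ θ Ĝ _ _ π θt ν L _ hce hps hK hL
  have hp : p.Prime := Fact.out
  have hKc : (Nat.card K).Coprime p := by rw [hK]; exact Cfsg.Agent.H80.pPrimeCore_coprime p G
  have hKp : ¬ p ∣ Nat.card K := (Nat.Prime.coprime_iff_not_dvd hp).mp hKc.symm
  -- `ker π` is a `p'`-group
  have hkerc : (Nat.card π.ker).Coprime p := by
    apply hc22_coprime_of_forall
    intro z hz
    have h1 : (z : Ĝ) ^ Nat.card K = 1 := hce.ker_exp z z.2
    have h2 : z ^ Nat.card K = 1 := Subtype.ext (by simpa using h1)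
    exact hKp (hz ▸ orderOf_dvd_of_pow_eq_one h2)
  -- `K̂ = π⁻¹(K)` is a normal `p'`-subgroup
  obtain ⟨Kh, hKh⟩ : ∃ Kh : Subgroup Ĝ, Kh = K.comap π := ⟨_, rfl⟩
  haveI hKhn : Kh.Normal := by rw [hKh]; infer_instance
  have hKhmem : ∀ x : Ĝ, x ∈ Kh ↔ π x ∈ K := by
    intro x; rw [hKh]; exact Subgroup.mem_comap
  have hKhc : (Nat.card Kh).Coprime p := by
    apply hc22_coprime_of_forall
    intro x hx
    have hxK : π x ∈ K := (hKhmem x).mp x.2
    have hxp : (x : Ĝ) ^ p = 1 := by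
      have h := pow_orderOf_eq_one x
      rw [hx] at h
      simpa using congrArg Subtype.val h
    have h1 : (π x) ^ p = 1 := by rw [← map_pow, hxp, map_one]
    have h2 : orderOf (⟨π x, hxK⟩ : K) ∣ p :=
      orderOf_dvd_of_pow_eq_one (Subtype.ext (by simpa using h1))
    have h3 : orderOf (⟨π x, hxK⟩ : K) ∣ Nat.card K := orderOf_dvd_natCard _
    have h4 : orderOf (⟨π x, hxK⟩ : K) = 1 :=
      Nat.Coprime.eq_one_of_dvd (Nat.Coprime.coprime_dvd_left h3 hKc) h2
    have h5 : π x = 1 := by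
      have h := orderOf_eq_one_iff.mp h4
      simpa using congrArg Subtype.val h
    have h6 : (x : Ĝ) ^ Nat.card K = 1 := hce.ker_exp x (MonoidHom.mem_ker.mpr h5)
    have h7 : x ^ Nat.card K = 1 := Subtype.ext (by simpa using h6)
    exact hKp (hx ▸ orderOf_dvd_of_pow_eq_one h7)
  have hLK : L ≤ Kh := fun x hx => (hKhmem x).mpr ((hL x).mp hx).1
  have hLc : (Nat.card L).Coprime p :=
    Nat.Coprime.coprime_dvd_left (Subgroup.card_dvd_of_le hLK) hKhc
  -- `ν 1 = 1`
  have hν1 : ν 1 = 1 := by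
    have h1 : π (1 : Ĝ) ∈ K := by rw [map_one]; exact K.one_mem
    have h2 := hce.nu_mul 1 1 h1 h1
    rw [mul_one] at h2
    have h3 := hce.nu_ne 1 h1
    have h4 : ν 1 * (ν 1 - 1) = 0 := by linear_combination (-1 : ℂ) * h2
    rcases mul_eq_zero.mp h4 with h5 | h5
    · exact absurd h5 h3
    · exact sub_eq_zero.mp h5
  -- commutators with `K̂` lie in `L`
  have hcomm : ∀ x ∈ Kh, ∀ y : Ĝ, y * x * y⁻¹ * x⁻¹ ∈ L := by
    intro x hx y
    have hxK : π x ∈ K := (hKhmem x).mp hx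
    have hxinv : π x⁻¹ ∈ K := by rw [map_inv]; exact K.inv_mem hxK
    have hconjK : π (y * x * y⁻¹) ∈ K := by
      rw [map_mul, map_mul, map_inv]
      exact (inferInstance : K.Normal).conj_mem _ hxK _
    rw [hL]
    refine ⟨?_, ?_⟩
    · rw [map_mul]; exact K.mul_mem hconjK hxinv
    · rw [hce.nu_mul _ _ hconjK hxinv, hce.nu_conj x y hxK, ← hce.nu_mul _ _ hxK hxinv,
        mul_inv_cancel, hν1]
  -- `Ĝ` and `Ĝ ⧸ L` are `p`-solvable
  have hGh : IsPSolvable p Ĝ := by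
    apply Cfsg.Agent.H80.isPSolvable_of_normal p π.ker (Or.inr hkerc)
    exact hc22_isPSolvable_of_surjective p
      (QuotientGroup.quotientKerEquivOfSurjective π hce.surj).symm.toMonoidHom
      (MulEquiv.surjective _) hps
  have h1 : IsPSolvable p (Ĝ ⧸ L) := Cfsg.Agent.H80.isPSolvable_quotient p L hGh
  -- `O_{p'}(Ĝ ⧸ L)` lies in the image of `K̂`
  have h3 : pPrimeCore p (Ĝ ⧸ L) ≤ Kh.map (QuotientGroup.mk' L) := by
    intro x hx
    obtain ⟨y, rfl⟩ := QuotientGroup.mk'_surjective L x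
    refine ⟨y, ?_, rfl⟩
    rw [SetLike.mem_coe, hKhmem, hK]
    haveI hOn : (pPrimeCore p (Ĝ ⧸ L)).Normal := Cfsg.Agent.H80.pPrimeCore_normal p _
    have hOc : (Nat.card (pPrimeCore p (Ĝ ⧸ L))).Coprime p :=
      Cfsg.Agent.H80.pPrimeCore_coprime p _
    have hO'c : (Nat.card ((pPrimeCore p (Ĝ ⧸ L)).comap (QuotientGroup.mk' L))).Coprime p := by
      rw [Cfsg.Agent.H80.card_comap_mk']
      exact Nat.Coprime.mul_left hLc hOc
    have hO''c : (Nat.card (((pPrimeCore p (Ĝ ⧸ L)).comap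
        (QuotientGroup.mk' L)).map π)).Coprime p :=
      Nat.Coprime.coprime_dvd_left (Subgroup.card_map_dvd _ π) hO'c
    have hO''n : (((pPrimeCore p (Ĝ ⧸ L)).comap (QuotientGroup.mk' L)).map π).Normal :=
      Subgroup.Normal.map (Subgroup.Normal.comap hOn _) π hce.surj
    exact Cfsg.Agent.H80.le_pPrimeCore p _ hO''n hO''c ⟨y, Subgroup.mem_comap.mpr hx, rfl⟩
  refine ⟨h1, ?_, by rw [← hKh]; exact h3⟩
  intro z hz
  obtain ⟨x, hx, rfl⟩ := h3 hz
  rw [Subgroup.mem_center_iff]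
  intro w
  obtain ⟨y, rfl⟩ := QuotientGroup.mk'_surjective L w
  rw [← map_mul, ← map_mul]
  show (QuotientGroup.mk (y * x) : Ĝ ⧸ L) = QuotientGroup.mk (x * y)
  rw [QuotientGroup.eq]
  have h := hcomm x hx y⁻¹
  have h' := (inferInstance : L.Normal).conj_mem _ h x⁻¹
  have e : (y * x)⁻¹ * (x * y) = x⁻¹ * (y⁻¹ * x * y⁻¹⁻¹ * x⁻¹) * x⁻¹⁻¹ := by group
  rw [e]; exact h'

end Cfsg.Agent.H3.Hc

section Check
open Cfsg.Agent.H79.Hc
universe u
example (p : ℕ) [Fact p.Prime] : StmtGroupGamma.{u} p := Cfsg.Agent.H3.Hc.stmtGroupGamma p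
end Check
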