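import Cfsg.Agent.H28.JkDefs

/-!
# JK-TI (helper3, for helper28 / helper64, S2951/S2952): `kti : Cfsg.Agent.H28.Jk.StKTI`

If every element of `V = Ω₁Z(O₂(L))` is `L`-conjugate into `C(J)` and every 2-local over `J` is
inside the self-normalizing 2-local `L`, then `C_G(u) ≤ L` for `u ∈ V#` and `V` is TI mod `L`.
-/

set_option autoImplicit false
open Cfsg

namespace Cfsg.Agent.H3.Jk28

universe u
open Subgroup

/-- Membership in a conjugate. -/
theorem conjMem {G : Type u} [Group G] (H : Subgroup G) (g y : G) :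
    y ∈ H.map (MulAut.conj g).toMonoidHom ↔ g⁻¹ * y * g ∈ H := by
  constructor
  · rintro ⟨h, hh, rfl⟩
    have e : g⁻¹ * ((MulAut.conj g).toMonoidHom h) * g = h := by
      show g⁻¹ * (g * h * g⁻¹) * g = h
      group
    rw [e]; exact hh
  · intro hy
    refine ⟨g⁻¹ * y * g, hy, ?_⟩
    show g * (g⁻¹ * y * g) * g⁻¹ = y
    group

/-- The normalizer of a conjugate. -/
theorem normConj {G : Type u} [Group G] (H : Subgroup G) (g y : G) :
    y ∈ normalizer ((H.map (MulAut.conj g).toMonoidHom : Subgroup G) : Set G) ↔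
      g⁻¹ * y * g ∈ normalizer (H : Set G) := by
  rw [mem_normalizer_iff, mem_normalizer_iff]
  constructor
  · intro h z
    have h1 := h (g * z * g⁻¹)
    rw [conjMem, conjMem] at h1
    have e1 : g⁻¹ * (g * z * g⁻¹) * g = z := by group
    have e2 : g⁻¹ * (y * (g * z * g⁻¹) * y⁻¹) * g = g⁻¹ * y * g * z * (g⁻¹ * y * g)⁻¹ := by
      group
    rw [e1, e2] at h1
    exact h1
  · intro h z
    rw [conjMem, conjMem]
    have h1 := h (g⁻¹ * z * g)
    have e2 : g⁻¹ * y * g * (g⁻¹ * z * g) * (g⁻¹ * y * g)⁻¹ = g⁻¹ * (y * z * y⁻¹) * g := by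
      group
    rw [e2] at h1
    exact h1

/-- A conjugate of a 2-local subgroup is a 2-local subgroup. -/
theorem twoLocalConj {G : Type u} [Group G] (N : Subgroup G) (g : G) (h : IsTwoLocal N) :
    IsTwoLocal (N.map (MulAut.conj g).toMonoidHom) := by
  obtain ⟨P, hP, hP1, rfl⟩ := h
  refine ⟨P.map (MulAut.conj g).toMonoidHom, hP.map _, ?_, ?_⟩
  · intro h0
    apply hP1
    rwa [Subgroup.map_eq_bot_iff_of_injective _ (MulAut.conj g).injective] at h0
  · ext y
    rw [normConj, conjMem]

/-- Elements of `Ω₁Z(X)` square to `1`. -/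
theorem omegaCenterSq {G : Type u} [Group G] (X : Subgroup G) :
    ∀ v ∈ omegaCenterOf X, v * v = 1 := by
  intro v hv
  have key : ∀ y ∈ omegaCenterOf X, y ∈ X ⊓ centralizer (X : Set G) ∧ y ^ 2 = 1 := by
    intro y hy
    unfold omegaCenterOf omegaOne at hy
    induction hy using Subgroup.closure_induction with
    | mem x hx => exact hx
    | one => exact ⟨one_mem _, one_pow 2⟩
    | mul a b _ _ ha hb =>
      refine ⟨mul_mem ha.1 hb.1, ?_⟩
      have hc : Commute a b := by
        have h1 : b ∈ centralizer (X : Set G) := hb.1.2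
        rw [mem_centralizer_iff] at h1
        exact h1 a ha.1.1
      rw [hc.mul_pow, ha.2, hb.2, one_mul]
    | inv a _ ha => exact ⟨inv_mem ha.1, by rw [inv_pow, ha.2, inv_one]⟩
  have h2 := (key v hv).2
  rwa [pow_two] at h2

/-- JK-TI. -/
theorem kti : Cfsg.Agent.H28.Jk.StKTI.{u} := by
  intro G _ _ J L hL2 hX hNL hconj
  -- Part 1
  have h1 : ∀ u ∈ Cfsg.Agent.H28.Jk.VV L, u ≠ 1 → centralizer ({u} : Set G) ≤ L := by
    intro u hu hu1
    obtain ⟨l, hl, hlu⟩ := hconj u hu
    obtain ⟨u', hu'def⟩ : ∃ u' : G, u' = l * u * l⁻¹ := ⟨_, rfl⟩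
    rw [← hu'def] at hlu
    have hu'1 : u' ≠ 1 := by
      intro h0
      apply hu1
      rw [hu'def] at h0
      have h3 : l⁻¹ * (l * u * l⁻¹) * l = l⁻¹ * 1 * l := by rw [h0]
      simpa [mul_assoc] using h3
    have hu'sq : u' * u' = 1 := by
      rw [hu'def]
      calc l * u * l⁻¹ * (l * u * l⁻¹) = l * (u * u) * l⁻¹ := by group
        _ = 1 := by rw [omegaCenterSq _ u hu, mul_one, mul_inv_cancel]
    -- `⟨u'⟩` is a nontrivial 2-group
    have hz2 : IsPGroup 2 ↥(zpowers u') := by
      have ho : orderOf u' = 2 := orderOf_eq_prime (by rw [pow_two]; exact hu'sq) hu'1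
      apply IsPGroup.of_card (n := 1)
      rw [Nat.card_zpowers, ho, pow_one]
    have hz1 : zpowers u' ≠ ⊥ := by
      intro h0
      apply hu'1
      have h3 : u' ∈ zpowers u' := mem_zpowers u'
      rw [h0, mem_bot] at h3
      exact h3
    have hloc : IsTwoLocal (normalizer ((zpowers u' : Subgroup G) : Set G)) :=
      ⟨zpowers u', hz2, hz1, rfl⟩
    -- the centralizer of `u'` normalizes `⟨u'⟩`
    have hcn : centralizer ({u'} : Set G) ≤ normalizer ((zpowers u' : Subgroup G) : Set G) := by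
      intro c hc
      rw [mem_centralizer_iff] at hc
      have hcu : u' * c = c * u' := hc u' (Set.mem_singleton u')
      rw [mem_normalizer_iff]
      intro y
      have hcy : ∀ y ∈ zpowers u', c * y * c⁻¹ = y := by
        intro y hy
        obtain ⟨n, rfl⟩ := hy
        have h4 : Commute c (u' ^ n) := (Commute.zpow_right (show Commute c u' from hcu.symm) n)
        rw [h4.eq, mul_inv_cancel_right]
      constructor
      · intro hy
        rw [hcy y hy]; exact hy
      · intro hy
        have h5 := hcy _ hy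
        have h6 : c⁻¹ * (c * (c * y * c⁻¹) * c⁻¹) * c = c⁻¹ * (c * y * c⁻¹) * c := by rw [h5]
        have h7 : c * y * c⁻¹ = y := by simpa [mul_assoc] using h6
        rw [← h7]; exact hy
    have hJ : J ≤ normalizer ((zpowers u' : Subgroup G) : Set G) := by
      intro j hj
      apply hcn
      rw [mem_centralizer_iff]
      intro h hh
      rw [Set.mem_singleton_iff] at hh
      rw [hh]
      rw [mem_centralizer_iff] at hlu
      exact (hlu j hj).symm
    have hNL' := hX _ hloc hJ
    -- transport back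
    intro c hc
    rw [mem_centralizer_iff] at hc
    have hcu : u * c = c * u := hc u (Set.mem_singleton u)
    have h8 : l * c * l⁻¹ ∈ centralizer ({u'} : Set G) := by
      rw [mem_centralizer_iff]
      intro h hh
      rw [Set.mem_singleton_iff] at hh
      rw [hh, hu'def]
      calc l * u * l⁻¹ * (l * c * l⁻¹) = l * (u * c) * l⁻¹ := by group
        _ = l * (c * u) * l⁻¹ := by rw [hcu]
        _ = l * c * l⁻¹ * (l * u * l⁻¹) := by group
    have h9 : l * c * l⁻¹ ∈ L := hNL' (hcn h8)
    have h10 : c = l⁻¹ * (l * c * l⁻¹) * l := by group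
    rw [h10]
    exact mul_mem (mul_mem (inv_mem hl) h9) hl
  refine ⟨h1, ?_⟩
  -- Part 2
  intro g hg
  obtain ⟨u, hu1⟩ := (Subgroup.ne_bot_iff_exists_ne_one).1 hg
  have huV : (u : G) ∈ Cfsg.Agent.H28.Jk.VV L := u.2.1
  have huVg : (u : G) ∈ (Cfsg.Agent.H28.Jk.VV L).map (MulAut.conj g).toMonoidHom := u.2.2
  have hu1' : (u : G) ≠ 1 := fun h => hu1 (Subtype.ext h)
  rw [conjMem] at huVg
  have hw1 : g⁻¹ * (u : G) * g ≠ 1 := by
    intro h0
    apply hu1'
    have h3 : g * (g⁻¹ * (u : G) * g) * g⁻¹ = g * 1 * g⁻¹ := by rw [h0]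
    simpa [mul_assoc] using h3
  have hCw := h1 _ huVg hw1
  obtain ⟨l, hl, hlu⟩ := hconj (u : G) huV
  have hJ : J ≤ L.map (MulAut.conj (l * g)).toMonoidHom := by
    intro j hj
    rw [conjMem]
    apply hCw
    rw [mem_centralizer_iff]
    intro h hh
    rw [Set.mem_singleton_iff] at hh
    rw [hh]
    rw [mem_centralizer_iff] at hlu
    have hju : j * (l * (u : G) * l⁻¹) = l * (u : G) * l⁻¹ * j := hlu j hj
    calc g⁻¹ * (u : G) * g * ((l * g)⁻¹ * j * (l * g))
        = g⁻¹ * l⁻¹ * (l * (u : G) * l⁻¹ * j) * l * g := by group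
      _ = g⁻¹ * l⁻¹ * (j * (l * (u : G) * l⁻¹)) * l * g := by rw [hju]
      _ = (l * g)⁻¹ * j * (l * g) * (g⁻¹ * (u : G) * g) := by group
  have hle : L.map (MulAut.conj (l * g)).toMonoidHom ≤ L :=
    hX _ (twoLocalConj L (l * g) hL2) hJ
  have heq : L.map (MulAut.conj (l * g)).toMonoidHom = L := by
    apply Subgroup.eq_of_le_of_card_ge hle
    exact le_of_eq (Subgroup.card_map_of_injective (MulAut.conj (l * g)).injective).symm
  have hn : l * g ∈ normalizer (L : Set G) := by
    rw [mem_normalizer_iff]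
    intro y
    constructor
    · intro hy
      have h5 : l * g * y * (l * g)⁻¹ ∈ L.map (MulAut.conj (l * g)).toMonoidHom := ⟨y, hy, rfl⟩
      rw [heq] at h5
      exact h5
    · intro hy
      have h5 : l * g * y * (l * g)⁻¹ ∈ L.map (MulAut.conj (l * g)).toMonoidHom := by
        rw [heq]; exact hy
      rw [conjMem] at h5
      have e : (l * g)⁻¹ * (l * g * y * (l * g)⁻¹) * (l * g) = y := by group
      rw [e] at h5
      exact h5
  have h11 := hNL hn
  have h12 : g = l⁻¹ * (l * g) := by group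
  rw [h12]
  exact mul_mem (inv_mem hl) h11

example : Cfsg.Agent.H28.Jk.StKTI.{u} := kti

end Cfsg.Agent.H3.Jk28
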