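import Cfsg.Agent.H3.MaxClass2
import Cfsg.Agent.H3.Dihedral

set_option autoImplicit false

namespace Cfsg.Agent.H3

universe u

/-- With `C` of index `2` and `t ∉ C`, an element commuting with `C` and with `t` is central. -/
theorem mem_center_of_index_two {X : Type*} [Group X] (C : Subgroup X) (hC : C.index = 2)
    {t : X} (ht : t ∉ C) {y : X} (hyC : ∀ c ∈ C, c * y = y * c) (hyt : t * y = y * t) :
    y ∈ Subgroup.center X := by
  rw [Subgroup.mem_center_iff]
  intro g
  by_cases hg : g ∈ C
  · exact hyC g hg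
  · have h1 : g * t⁻¹ ∈ C := by
      rw [Subgroup.mul_mem_iff_of_index_two hC]
      constructor
      · intro h; exact absurd h hg
      · intro h; exact absurd (C.inv_mem_iff.mp h) ht
    have h2 := hyC _ h1
    calc g * y = g * t⁻¹ * (t * y) := by group
      _ = g * t⁻¹ * (y * t) := by rw [hyt]
      _ = (g * t⁻¹ * y) * t := by group
      _ = y * (g * t⁻¹) * t := by rw [h2]
      _ = y * g := by group

/-- A `2`-group of maximal class has a cyclic subgroup of index `2`, element form. -/
theorem exists_zpowers_index_two (n : ℕ) (X : Type u) [Group X] [Finite X]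
    (hn : 3 ≤ n) (hX : Nat.card X = 2 ^ n) (hc : Group.nilpotencyClass X = n - 1) :
    ∃ x : X, (Subgroup.zpowers x).index = 2 := by
  obtain ⟨C₀, hcyc, hidx₀⟩ := exists_cyclic_index_two n X hn hX hc
  obtain ⟨γ, hγ⟩ := IsCyclic.exists_generator (α := C₀)
  have hCeq : Subgroup.zpowers (γ : X) = C₀ := by
    apply le_antisymm ((Subgroup.zpowers_le).mpr γ.2)
    intro h hh
    obtain ⟨i, hi⟩ := Subgroup.mem_zpowers_iff.mp (hγ ⟨h, hh⟩)
    have h1 : (γ : X) ^ i = h := by
      have h0 := congrArg Subtype.val hi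
      rw [Subgroup.coe_zpow] at h0
      exact h0
    rw [← h1]
    exact Subgroup.zpow_mem _ (Subgroup.mem_zpowers _) i
  exact ⟨γ, by rw [hCeq]; exact hidx₀⟩

/-- Structure of a `2`-group of maximal class around a cyclic maximal subgroup. -/
theorem maxclass_two_structure (n : ℕ) (X : Type u) [Group X] [Finite X]
    (hn : 3 ≤ n) (hX : Nat.card X = 2 ^ n) (hc : Group.nilpotencyClass X = n - 1) :
    ∃ x t : X, (Subgroup.zpowers x).index = 2 ∧ t ∉ Subgroup.zpowers x ∧
      Nat.card (Subgroup.zpowers x) = 2 ^ (n - 1) ∧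
      Nat.card (Subgroup.center X) = 2 ∧
      Subgroup.center X ≤ Subgroup.zpowers x ∧
      t * t ∈ Subgroup.center X ∧ t * x * t⁻¹ * x ∈ Subgroup.center X := by
  have hfact : Fact (Nat.Prime 2) := ⟨Nat.prime_two⟩
  obtain ⟨x, hidx⟩ := exists_zpowers_index_two n X hn hX hc
  have hCcomm : ∀ a ∈ Subgroup.zpowers x, ∀ b ∈ Subgroup.zpowers x, a * b = b * a := by
    intro a ha b hb
    obtain ⟨i, rfl⟩ := Subgroup.mem_zpowers_iff.mp ha
    obtain ⟨j, rfl⟩ := Subgroup.mem_zpowers_iff.mp hb
    exact ((Commute.refl x).zpow_zpow i j).eq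
  have hCn : (Subgroup.zpowers x).Normal := Subgroup.normal_of_index_eq_two hidx
  have hCcard : Nat.card (Subgroup.zpowers x) = 2 ^ (n - 1) := by
    have h1 := Subgroup.card_mul_index (Subgroup.zpowers x)
    rw [hidx, hX] at h1
    have h2 : 2 ^ n = 2 ^ (n - 1) * 2 := by
      rw [← pow_succ]; congr 1; omega
    rw [h2] at h1
    exact Nat.eq_of_mul_eq_mul_right (by norm_num) h1
  have hZ := card_center_of_maxclass 2 n X hX hn hc
  obtain ⟨t, ht⟩ : ∃ t : X, t ∉ Subgroup.zpowers x := by
    by_contra hcon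
    push Not at hcon
    have h1 : Subgroup.zpowers x = ⊤ := (Subgroup.eq_top_iff' _).mpr hcon
    rw [h1, Subgroup.index_top] at hidx
    omega
  have hZC : Subgroup.center X ≤ Subgroup.zpowers x := by
    intro z hz
    by_contra hzC
    have hxZ : x ∈ Subgroup.center X := by
      apply mem_center_of_index_two _ hidx hzC
      · intro c hc; exact hCcomm c hc x (Subgroup.mem_zpowers x)
      · exact (Subgroup.mem_center_iff.mp hz x).symm
    have hle : Subgroup.zpowers x ≤ Subgroup.center X := (Subgroup.zpowers_le).mpr hxZ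
    have h3 := Subgroup.card_le_of_le hle
    rw [hCcard, hZ] at h3
    have h4 : 2 ^ 2 ≤ 2 ^ (n - 1) := Nat.pow_le_pow_right (by norm_num) (by omega)
    omega
  have htt : t * t ∈ Subgroup.center X := by
    apply mem_center_of_index_two _ hidx ht
    · intro c hc
      have h1 : t * t ∈ Subgroup.zpowers x := by
        have h2 := Subgroup.sq_mem_of_index_two hidx t
        rwa [pow_two] at h2
      exact hCcomm c hc _ h1
    · rw [mul_assoc]
  have hy : t * x * t⁻¹ * x ∈ Subgroup.center X := by
    have hx1 : t * x * t⁻¹ ∈ Subgroup.zpowers x := hCn.conj_mem x (Subgroup.mem_zpowers x) t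
    have hx2 : t⁻¹ * x * t ∈ Subgroup.zpowers x := by
      have h1 := hCn.conj_mem x (Subgroup.mem_zpowers x) t⁻¹
      rwa [inv_inv] at h1
    apply mem_center_of_index_two _ hidx ht
    · intro c hc
      exact hCcomm c hc _ (Subgroup.mul_mem _ hx1 (Subgroup.mem_zpowers x))
    · have e1 : t * t * x = x * (t * t) := (Subgroup.mem_center_iff.mp htt x).symm
      have e2 : (t⁻¹ * x * t) * x = x * (t⁻¹ * x * t) := hCcomm _ hx2 x (Subgroup.mem_zpowers x)
      calc t * (t * x * t⁻¹ * x) = (t * t * x) * t⁻¹ * x := by group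
        _ = x * (t * t) * t⁻¹ * x := by rw [e1]
        _ = t * ((t⁻¹ * x * t) * x) := by group
        _ = t * (x * (t⁻¹ * x * t)) := by rw [e2]
        _ = t * x * t⁻¹ * x * t := by group
  exact ⟨x, t, hidx, ht, hCcard, hZ, hZC, htt, hy⟩

/-- The central quotient of a `2`-group of maximal class is dihedral. -/
theorem maxclass_two_quotient_dihedral (n : ℕ) (X : Type u) [Group X] [Finite X]
    (hn : 3 ≤ n) (hX : Nat.card X = 2 ^ n) (hc : Group.nilpotencyClass X = n - 1) :
    Nonempty (X ⧸ Subgroup.center X ≃* DihedralGroup (2 ^ (n - 2))) := by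
  have hfact : Fact (Nat.Prime 2) := ⟨Nat.prime_two⟩
  obtain ⟨x, t, hidx, ht, hCcard, hZ, hZC, htt, hy⟩ := maxclass_two_structure n X hn hX hc
  obtain ⟨hQ, -⟩ := maxclass_quotient 2 n X hX hn hc
  have hm : NeZero (2 ^ (n - 2)) := ⟨by positivity⟩
  apply dihedral_of_gens (2 ^ (n - 2)) ?_ ((QuotientGroup.mk' (Subgroup.center X)) x)
    ((QuotientGroup.mk' (Subgroup.center X)) t) ?_ ?_ ?_ ?_
  · rw [hQ, ← pow_succ']
    congr 1
    omega
  · rw [← Nat.card_zpowers, ← MonoidHom.map_zpowers]
    have hcm : ((Subgroup.zpowers x).map (QuotientGroup.mk' (Subgroup.center X))).comap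
        (QuotientGroup.mk' (Subgroup.center X)) = Subgroup.zpowers x := by
      rw [Subgroup.comap_map_eq, QuotientGroup.ker_mk']
      exact sup_eq_left.mpr hZC
    have hi : ((Subgroup.zpowers x).map (QuotientGroup.mk' (Subgroup.center X))).index = 2 := by
      rw [← Subgroup.index_comap_of_surjective _ (QuotientGroup.mk'_surjective _), hcm]
      exact hidx
    have h1 := Subgroup.card_mul_index
      ((Subgroup.zpowers x).map (QuotientGroup.mk' (Subgroup.center X)))
    rw [hi, hQ] at h1
    have h2 : 2 ^ (n - 1) = 2 ^ (n - 2) * 2 := by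
      rw [← pow_succ]; congr 1; omega
    rw [h2] at h1
    exact Nat.eq_of_mul_eq_mul_right (by norm_num) h1
  · intro h
    rw [← MonoidHom.map_zpowers] at h
    obtain ⟨c, hc, hct⟩ := Subgroup.mem_map.mp h
    have h1 : c⁻¹ * t ∈ Subgroup.center X := QuotientGroup.eq.mp hct
    have h2 := hZC h1
    apply ht
    have e : t = c * (c⁻¹ * t) := by group
    rw [e]
    exact Subgroup.mul_mem _ hc h2
  · rw [← map_mul]
    exact (QuotientGroup.eq_one_iff _).mpr htt
  · rw [← map_inv, ← map_mul, ← map_mul]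
    apply eq_inv_of_mul_eq_one_left
    rw [← map_mul]
    exact (QuotientGroup.eq_one_iff _).mpr hy

end Cfsg.Agent.H3
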