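import Cfsg.Agent.H3.Alperin
import Cfsg.Agent.H3.Critical
import Cfsg.Agent.H3.PGroup
import Cfsg.Agent.H3.Extraspecial

set_option autoImplicit false

namespace Cfsg.Agent.H3

open scoped commutatorElement

/-- `|H| |K| ≤ |⟨H, K⟩| |H ∩ K|`. -/
theorem card_mul_card_le_sup_inf {G : Type*} [Group G] [Finite G] (H K : Subgroup G) :
    Nat.card H * Nat.card K ≤ Nat.card (H ⊔ K : Subgroup G) * Nat.card (H ⊓ K : Subgroup G) := by
  have h1 := relIndex_mul_card_inf H K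
  have h2 : H.relIndex K ≤ H.relIndex (H ⊔ K) :=
    Subgroup.relIndex_le_of_le_right le_sup_right Subgroup.index_ne_zero_of_finite
  have h3 := relIndex_mul_card_of_le (le_sup_left : H ≤ H ⊔ K)
  calc Nat.card H * Nat.card K
      = Nat.card H * (H.relIndex K * Nat.card (H ⊓ K : Subgroup G)) := by rw [h1]
    _ ≤ Nat.card H * (H.relIndex (H ⊔ K) * Nat.card (H ⊓ K : Subgroup G)) :=
        Nat.mul_le_mul_left _ (Nat.mul_le_mul_right _ h2)
    _ = (H.relIndex (H ⊔ K) * Nat.card H) * Nat.card (H ⊓ K : Subgroup G) := by ring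
    _ = Nat.card (H ⊔ K : Subgroup G) * Nat.card (H ⊓ K : Subgroup G) := by rw [h3]

/-- In a nilpotent group, if `N` is normalized by `K` and `N ≰ M`, some element of `N` outside
`M` is centralized by `K` modulo `M`. -/
theorem exists_central_mod {G : Type*} [Group G] [hnil : Group.IsNilpotent G] (K M N : Subgroup G)
    (hK : ∀ k ∈ K, ∀ n ∈ N, k * n * k⁻¹ ∈ N) (hMN : ¬ N ≤ M) :
    ∃ w ∈ N, w ∉ M ∧ ∀ k ∈ K, k * w * k⁻¹ * w⁻¹ ∈ M := by
  classical
  obtain ⟨c, hc⟩ := Subgroup.nilpotent_iff_lowerCentralSeries.mp hnil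
  have hlt : ∀ j, (∃ w ∈ N, w ∉ M ∧ w ∈ (⊤ : Subgroup G).lowerCentralSeries j) → j < c := by
    rintro j ⟨w, -, hwM, hwj⟩
    by_contra hj
    have hle : (⊤ : Subgroup G).lowerCentralSeries j ≤ (⊤ : Subgroup G).lowerCentralSeries c :=
      Subgroup.lowerCentralSeries_antitone _ (not_lt.mp hj)
    have := hle hwj
    rw [hc, Subgroup.mem_bot] at this
    exact hwM (this ▸ M.one_mem)
  have h0 : ∃ w ∈ N, w ∉ M ∧ w ∈ (⊤ : Subgroup G).lowerCentralSeries 0 := by
    obtain ⟨w, hwN, hwM⟩ := SetLike.not_le_iff_exists.mp hMN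
    exact ⟨w, hwN, hwM, Subgroup.mem_top w⟩
  have hspec := Nat.findGreatest_spec
    (P := fun j => ∃ w ∈ N, w ∉ M ∧ w ∈ (⊤ : Subgroup G).lowerCentralSeries j) (Nat.zero_le c) h0
  obtain ⟨w, hwN, hwM, hwi⟩ := hspec
  refine ⟨w, hwN, hwM, ?_⟩
  intro k hk
  by_contra hx
  have hxN : k * w * k⁻¹ * w⁻¹ ∈ N := N.mul_mem (hK k hk w hwN) (N.inv_mem hwN)
  have hxL : k * w * k⁻¹ * w⁻¹ ∈ (⊤ : Subgroup G).lowerCentralSeries
      (Nat.findGreatest (fun j => ∃ w ∈ N, w ∉ M ∧ w ∈ (⊤ : Subgroup G).lowerCentralSeries j) c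
        + 1) := by
    have e : k * w * k⁻¹ * w⁻¹ = ⁅w, k⁆⁻¹ := by
      rw [commutatorElement_def]; group
    rw [e]
    exact Subgroup.inv_mem _ (Subgroup.commutator_mem_commutator hwi (Subgroup.mem_top k))
  have hP : ∃ w ∈ N, w ∉ M ∧ w ∈ (⊤ : Subgroup G).lowerCentralSeries
      (Nat.findGreatest (fun j => ∃ w ∈ N, w ∉ M ∧ w ∈ (⊤ : Subgroup G).lowerCentralSeries j) c
        + 1) := ⟨_, hxN, hx, hxL⟩
  exact Nat.findGreatest_is_greatest (Nat.lt_succ_self _) (hlt _ hP).le hP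

/-- A subgroup strictly between `H` and `A`, where `|A| = p |H|`, is `A`. -/
theorem eq_of_le_of_not_le_of_card {G : Type*} [Group G] [Finite G] {p : ℕ} (hp : p.Prime)
    {H T A : Subgroup G} (hHT : H ≤ T) (hTA : T ≤ A) (hne : ¬ T ≤ H)
    (hcard : Nat.card A = p * Nat.card H) : T = A := by
  have h1 : Nat.card H ∣ Nat.card T := Subgroup.card_dvd_of_le hHT
  have h2 : Nat.card T ∣ Nat.card A := Subgroup.card_dvd_of_le hTA
  obtain ⟨m, hm⟩ := h1
  have hHpos : 0 < Nat.card H := Nat.card_pos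
  rw [hm, hcard, mul_comm p] at h2
  have h3 : m ∣ p := Nat.dvd_of_mul_dvd_mul_left hHpos h2
  rcases (Nat.dvd_prime hp).mp h3 with h4 | h4
  · exfalso
    apply hne
    have : H = T := Subgroup.eq_of_le_of_card_ge hHT (by rw [hm, h4, mul_one])
    rw [← this]
  · apply Subgroup.eq_of_le_of_card_ge hTA
    rw [hcard, hm, h4, mul_comm]

/-- A `p`-group `K` normalizing `H ≤ A` with `A` abelian and `|A : H| = p` centralizes `A / H`. -/
theorem comm_mem_of_card_eq_mul {G : Type*} [Group G] [Finite G] {p : ℕ} [Fact p.Prime]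
    (hG : IsPGroup p G) (K H A : Subgroup G) (hHA : H ≤ A)
    (hAc : ∀ a ∈ A, ∀ b ∈ A, a * b = b * a) (hcard : Nat.card A = p * Nat.card H)
    (hKA : ∀ k ∈ K, ∀ a ∈ A, k * a * k⁻¹ ∈ A) (hKH : ∀ k ∈ K, ∀ h ∈ H, k * h * k⁻¹ ∈ H) :
    ∀ k ∈ K, ∀ a ∈ A, k * a * k⁻¹ * a⁻¹ ∈ H := by
  have hpp : p.Prime := Fact.out
  have hnil : Group.IsNilpotent G := hG.isNilpotent
  have hnotle : ¬ A ≤ H := by
    intro hle
    have h1 := Subgroup.card_le_of_le hle
    have hHpos : 0 < Nat.card H := Nat.card_pos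
    rw [hcard] at h1
    nlinarith [hpp.two_le]
  obtain ⟨w, hwA, hwH, hw⟩ := exists_central_mod K H A hKA hnotle
  let T : Subgroup G :=
    { carrier := {a | a ∈ A ∧ ∀ k ∈ K, k * a * k⁻¹ * a⁻¹ ∈ H}
      one_mem' := by
        refine ⟨A.one_mem, fun k _ => ?_⟩
        have e : k * 1 * k⁻¹ * (1 : G)⁻¹ = 1 := by group
        rw [e]; exact H.one_mem
      mul_mem' := by
        rintro a b ⟨haA, ha⟩ ⟨hbA, hb⟩
        refine ⟨A.mul_mem haA hbA, fun k hk => ?_⟩
        have h1 := hAc a haA _ (hHA (hb k hk))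
        have e : k * (a * b) * k⁻¹ * (a * b)⁻¹ =
            (k * a * k⁻¹ * a⁻¹) * (a * (k * b * k⁻¹ * b⁻¹) * a⁻¹) := by group
        rw [e, h1, mul_inv_cancel_right]
        exact H.mul_mem (ha k hk) (hb k hk)
      inv_mem' := by
        rintro a ⟨haA, ha⟩
        refine ⟨A.inv_mem haA, fun k hk => ?_⟩
        have h1 := hAc a⁻¹ (A.inv_mem haA) _ (hHA (H.inv_mem (ha k hk)))
        have e : k * a⁻¹ * k⁻¹ * a⁻¹⁻¹ = a⁻¹ * (k * a * k⁻¹ * a⁻¹)⁻¹ * a⁻¹⁻¹ := by group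
        rw [e, h1, mul_inv_cancel_right]
        exact H.inv_mem (ha k hk) }
  have hHT : H ≤ T := fun h hh =>
    ⟨hHA hh, fun k hk => H.mul_mem (hKH k hk h hh) (H.inv_mem hh)⟩
  have hTA : T ≤ A := fun a ha => ha.1
  have hne : ¬ T ≤ H := fun hle => hwH (hle ⟨hwA, hw⟩)
  have hTeq := eq_of_le_of_not_le_of_card hpp hHT hTA hne hcard
  intro k hk a ha
  have : a ∈ T := by rw [hTeq]; exact ha
  exact this.2 k hk

theorem conj_comm_aux {G : Type*} [Group G] {e e₁ a u v : G} (hu : e * a * e⁻¹ = u * a)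
    (hv : e₁ * a * e₁⁻¹ = v * a) (hev : e * v = v * e) (huv : v * u = u * v)
    (hcomm : (e * e₁) * a * (e * e₁)⁻¹ = (e₁ * e) * a * (e₁ * e)⁻¹) : e₁ * u * e₁⁻¹ = u := by
  have e1 : (e * e₁) * a * (e * e₁)⁻¹ = v * u * a := by
    calc (e * e₁) * a * (e * e₁)⁻¹ = e * (e₁ * a * e₁⁻¹) * e⁻¹ := by group
      _ = e * (v * a) * e⁻¹ := by rw [hv]
      _ = (e * v) * (a * e⁻¹) := by group
      _ = (v * e) * (a * e⁻¹) := by rw [hev]
      _ = v * (e * a * e⁻¹) := by group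
      _ = v * (u * a) := by rw [hu]
      _ = v * u * a := by group
  have e2 : (e₁ * e) * a * (e₁ * e)⁻¹ = (e₁ * u * e₁⁻¹) * v * a := by
    calc (e₁ * e) * a * (e₁ * e)⁻¹ = e₁ * (e * a * e⁻¹) * e₁⁻¹ := by group
      _ = e₁ * (u * a) * e₁⁻¹ := by rw [hu]
      _ = (e₁ * u * e₁⁻¹) * (e₁ * a * e₁⁻¹) := by group
      _ = (e₁ * u * e₁⁻¹) * (v * a) := by rw [hv]
      _ = (e₁ * u * e₁⁻¹) * v * a := by group
  rw [e1, e2] at hcomm
  have h4 : v * u = (e₁ * u * e₁⁻¹) * v := mul_right_cancel hcomm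
  have h6 : (e₁ * u * e₁⁻¹) * v = u * v := by rw [← h4, huv]
  exact mul_right_cancel h6

/-- A subgroup acting on a normal elementary abelian subgroup `A` of order `p^3` of a `p`-group
through an abelian group has `|L : C_L(A)| ≤ p^2`. -/
theorem card_le_sq_mul_centralizer {G : Type*} [Group G] [Finite G] {p : ℕ} [Fact p.Prime]
    (hG : IsPGroup p G) (A : Subgroup G) [hAn : A.Normal]
    (hAc : ∀ a ∈ A, ∀ b ∈ A, a * b = b * a) (hAe : ∀ a ∈ A, a ^ p = 1)
    (hA3 : Nat.card A = p ^ 3) (L : Subgroup G)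
    (hL : ∀ l ∈ L, ∀ l' ∈ L, ∀ a ∈ A, (l * l') * a * (l * l')⁻¹ = (l' * l) * a * (l' * l)⁻¹) :
    Nat.card L ≤ p ^ 2 * Nat.card (L ⊓ Subgroup.centralizer (A : Set G) : Subgroup G) := by
  have hpp : p.Prime := Fact.out
  have hnil : Group.IsNilpotent G := hG.isNilpotent
  have hnorm : ∀ k ∈ (⊤ : Subgroup G), ∀ n ∈ A, k * n * k⁻¹ ∈ A :=
    fun k _ n hn => hAn.conj_mem n hn k
  have hAbot : ¬ A ≤ ⊥ := by
    intro hle
    have h1 := Subgroup.card_le_of_le hle
    rw [hA3, Subgroup.card_bot] at h1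
    have : 1 < p ^ 3 := Nat.one_lt_pow (by norm_num) hpp.one_lt
    omega
  obtain ⟨z₁, hz₁A, hz₁1, hz₁c⟩ := exists_central_mod ⊤ ⊥ A hnorm hAbot
  have hz₁ne : z₁ ≠ 1 := fun h => hz₁1 (by rw [h]; exact Subgroup.one_mem _)
  have hz₁cen : z₁ ∈ Subgroup.center G := by
    rw [Subgroup.mem_center_iff]
    intro g
    have h1 := hz₁c g (Subgroup.mem_top g)
    rw [Subgroup.mem_bot] at h1
    have h2 : g * z₁ * g⁻¹ = z₁ := mul_inv_eq_one.mp h1
    calc g * z₁ = (g * z₁ * g⁻¹) * g := by group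
      _ = z₁ * g := by rw [h2]
  have hA₁card : Nat.card (Subgroup.zpowers z₁) = p := by
    rw [Nat.card_zpowers]; exact orderOf_eq_prime (hAe z₁ hz₁A) hz₁ne
  have hA₁A : Subgroup.zpowers z₁ ≤ A := Subgroup.zpowers_le.mpr hz₁A
  have hA₁cen : Subgroup.zpowers z₁ ≤ Subgroup.center G := Subgroup.zpowers_le.mpr hz₁cen
  have hA₁n : (Subgroup.zpowers z₁).Normal := ⟨fun n hn g => by
    have h2 := Subgroup.mem_center_iff.mp (hA₁cen hn) g
    rw [h2, mul_inv_cancel_right]; exact hn⟩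
  have hAA₁ : ¬ A ≤ Subgroup.zpowers z₁ := by
    intro hle
    have h1 := Subgroup.card_le_of_le hle
    rw [hA3, hA₁card] at h1
    have h2 : p ^ 1 < p ^ 3 := Nat.pow_lt_pow_right hpp.one_lt (by norm_num)
    rw [pow_one] at h2; omega
  obtain ⟨z₂, hz₂A, hz₂1, hz₂c⟩ := exists_central_mod ⊤ (Subgroup.zpowers z₁) A hnorm hAA₁
  have hA₂card : Nat.card ((Subgroup.zpowers ((QuotientGroup.mk' (Subgroup.zpowers z₁)) z₂)).comap
      (QuotientGroup.mk' (Subgroup.zpowers z₁))) = p * p := by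
    rw [card_comap_mk', hA₁card, Nat.card_zpowers]
    congr 1
    apply orderOf_eq_prime
    · rw [← map_pow, hAe z₂ hz₂A, map_one]
    · intro h1
      exact hz₂1 ((QuotientGroup.eq_one_iff z₂).mp h1)
  have hA₂mem : ∀ b ∈ (Subgroup.zpowers ((QuotientGroup.mk' (Subgroup.zpowers z₁)) z₂)).comap
      (QuotientGroup.mk' (Subgroup.zpowers z₁)), ∃ j : ℤ, ∃ n ∈ Subgroup.zpowers z₁,
      b = z₂ ^ j * n := fun b hb => mem_comap_zpowers _ z₂ b hb
  have hA₁A₂ : Subgroup.zpowers z₁ ≤ (Subgroup.zpowers ((QuotientGroup.mk'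
      (Subgroup.zpowers z₁)) z₂)).comap (QuotientGroup.mk' (Subgroup.zpowers z₁)) := by
    intro a ha
    rw [Subgroup.mem_comap]
    have : (QuotientGroup.mk' (Subgroup.zpowers z₁)) a = 1 := (QuotientGroup.eq_one_iff a).mpr ha
    rw [this]; exact Subgroup.one_mem _
  have hz₂A₂ : z₂ ∈ (Subgroup.zpowers ((QuotientGroup.mk' (Subgroup.zpowers z₁)) z₂)).comap
      (QuotientGroup.mk' (Subgroup.zpowers z₁)) := by
    rw [Subgroup.mem_comap]; exact Subgroup.mem_zpowers _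
  generalize (Subgroup.zpowers ((QuotientGroup.mk' (Subgroup.zpowers z₁)) z₂)).comap
      (QuotientGroup.mk' (Subgroup.zpowers z₁)) = A₂ at hA₂card hA₂mem hA₁A₂ hz₂A₂
  have hA₂A : A₂ ≤ A := by
    intro b hb
    obtain ⟨j, n, hn, rfl⟩ := hA₂mem b hb
    exact A.mul_mem (A.zpow_mem hz₂A j) (hA₁A hn)
  have hAA₂ : ¬ A ≤ A₂ := by
    intro hle
    have h1 := Subgroup.card_le_of_le hle
    rw [hA3, hA₂card] at h1
    have h2 : p ^ 2 < p ^ 3 := Nat.pow_lt_pow_right hpp.one_lt (by norm_num)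
    rw [pow_two] at h2; omega
  obtain ⟨a, haA, haA₂, hac⟩ := exists_central_mod ⊤ A₂ A hnorm hAA₂
  have hG1 : ∀ c : G, c * z₂ = z₂ * c → ∀ b ∈ A₂, c * b = b * c := by
    intro c hc b hb
    obtain ⟨j, n, hn, rfl⟩ := hA₂mem b hb
    have h1 : Commute c z₂ := hc
    have h2 : c * n = n * c := Subgroup.mem_center_iff.mp (hA₁cen hn) c
    calc c * (z₂ ^ j * n) = (c * z₂ ^ j) * n := by rw [mul_assoc]
      _ = (z₂ ^ j * c) * n := by rw [(h1.zpow_right j).eq]
      _ = z₂ ^ j * (c * n) := by rw [mul_assoc]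
      _ = z₂ ^ j * (n * c) := by rw [h2]
      _ = z₂ ^ j * n * c := by rw [mul_assoc]
  have hG2 : ∀ c : G, (∀ b ∈ A₂, c * b = b * c) → c * a = a * c → ∀ x ∈ A, c * x = x * c := by
    intro c hc1 hc2 x hx
    have hD : A ⊓ Subgroup.centralizer {c} = A := by
      apply eq_of_le_of_not_le_of_card hpp (H := A₂) _ inf_le_left _ _
      · intro b hb
        refine Subgroup.mem_inf.mpr ⟨hA₂A hb, ?_⟩
        rw [Subgroup.mem_centralizer_iff]
        intro y hy
        rw [Set.mem_singleton_iff] at hy; subst hy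
        exact hc1 b hb
      · intro hle
        apply haA₂
        apply hle
        refine Subgroup.mem_inf.mpr ⟨haA, ?_⟩
        rw [Subgroup.mem_centralizer_iff]
        intro y hy
        rw [Set.mem_singleton_iff] at hy; subst hy
        exact hc2
      · rw [hA3, hA₂card]; ring
    have hxD : x ∈ A ⊓ Subgroup.centralizer {c} := by rw [hD]; exact hx
    exact Subgroup.mem_centralizer_iff.mp (Subgroup.mem_inf.mp hxD).2 c rfl
  have hfin1 : ∀ (T : Subgroup G), T ≤ L → T ≤ Subgroup.centralizer {z₂} →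
      T ⊓ Subgroup.centralizer {a} ≤ L ⊓ Subgroup.centralizer (A : Set G) := by
    intro T hTL hTz c hc
    obtain ⟨hc1, hc2⟩ := Subgroup.mem_inf.mp hc
    refine Subgroup.mem_inf.mpr ⟨hTL hc1, ?_⟩
    rw [Subgroup.mem_centralizer_iff]
    intro x hx
    have hcz : c * z₂ = z₂ * c := (Subgroup.mem_centralizer_iff.mp (hTz hc1) z₂ rfl).symm
    have hca : c * a = a * c := (Subgroup.mem_centralizer_iff.mp hc2 a rfl).symm
    exact (hG2 c (hG1 c hcz) hca x hx).symm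
  by_cases hLz : L ≤ Subgroup.centralizer {z₂}
  · have h1 := card_le_mul_card_inf_centralizer L A₂ a (fun t _ => hac t (Subgroup.mem_top t))
    have h2 := Subgroup.card_le_of_le (hfin1 L le_rfl hLz)
    calc Nat.card L ≤ Nat.card A₂ * Nat.card (L ⊓ Subgroup.centralizer {a} : Subgroup G) := h1
      _ ≤ p ^ 2 * Nat.card (L ⊓ Subgroup.centralizer (A : Set G) : Subgroup G) := by
        rw [hA₂card, ← pow_two]; exact Nat.mul_le_mul_left _ h2
  · obtain ⟨e₁, he₁L, he₁z⟩ := SetLike.not_le_iff_exists.mp hLz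
    have h1 := card_le_mul_card_inf_centralizer L (Subgroup.zpowers z₁) z₂
      (fun t _ => hz₂c t (Subgroup.mem_top t))
    have hkey : ∀ e ∈ L ⊓ Subgroup.centralizer {z₂},
        e * a * e⁻¹ * a⁻¹ ∈ Subgroup.zpowers z₁ := by
      intro e he
      obtain ⟨heL, hez⟩ := Subgroup.mem_inf.mp he
      have hez' : e * z₂ = z₂ * e := (Subgroup.mem_centralizer_iff.mp hez z₂ rfl).symm
      have hu : e * a * e⁻¹ * a⁻¹ ∈ A₂ := hac e (Subgroup.mem_top e)
      have hv : e₁ * a * e₁⁻¹ * a⁻¹ ∈ A₂ := hac e₁ (Subgroup.mem_top e₁)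
      have hcomm := hL e heL e₁ he₁L a haA
      have hev : e * (e₁ * a * e₁⁻¹ * a⁻¹) = (e₁ * a * e₁⁻¹ * a⁻¹) * e := hG1 e hez' _ hv
      have h3 : e₁ * (e * a * e⁻¹ * a⁻¹) * e₁⁻¹ = e * a * e⁻¹ * a⁻¹ :=
        conj_comm_aux (a := a) (by group) (by group) hev
          (hAc _ (hA₂A hv) _ (hA₂A hu)) hcomm
      by_contra hu1
      apply he₁z
      have hD : A₂ ⊓ Subgroup.centralizer {e₁} = A₂ := by
        apply eq_of_le_of_not_le_of_card hpp (H := Subgroup.zpowers z₁) _ inf_le_left _ _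
        · intro b hb
          refine Subgroup.mem_inf.mpr ⟨hA₁A₂ hb, ?_⟩
          rw [Subgroup.mem_centralizer_iff]
          intro y hy
          rw [Set.mem_singleton_iff] at hy; subst hy
          exact Subgroup.mem_center_iff.mp (hA₁cen hb) y
        · intro hle
          apply hu1
          apply hle
          refine Subgroup.mem_inf.mpr ⟨hu, ?_⟩
          rw [Subgroup.mem_centralizer_iff]
          intro y hy
          rw [Set.mem_singleton_iff] at hy; subst hy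
          calc y * (e * a * e⁻¹ * a⁻¹) = (y * (e * a * e⁻¹ * a⁻¹) * y⁻¹) * y := by group
            _ = (e * a * e⁻¹ * a⁻¹) * y := by rw [h3]
        · rw [hA₂card, hA₁card]
      have hz : z₂ ∈ A₂ ⊓ Subgroup.centralizer {e₁} := by rw [hD]; exact hz₂A₂
      have h7 := Subgroup.mem_centralizer_iff.mp (Subgroup.mem_inf.mp hz).2 e₁ rfl
      rw [Subgroup.mem_centralizer_iff]
      intro y hy
      rw [Set.mem_singleton_iff] at hy; subst hy
      exact h7.symm
    have h2 := card_le_mul_card_inf_centralizer (L ⊓ Subgroup.centralizer {z₂})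
      (Subgroup.zpowers z₁) a hkey
    have h3 := Subgroup.card_le_of_le
      (hfin1 (L ⊓ Subgroup.centralizer {z₂}) inf_le_left inf_le_right)
    rw [hA₁card] at h1 h2
    calc Nat.card L ≤ p * Nat.card (L ⊓ Subgroup.centralizer {z₂} : Subgroup G) := h1
      _ ≤ p * (p * Nat.card (L ⊓ Subgroup.centralizer {z₂} ⊓ Subgroup.centralizer {a} :
            Subgroup G)) := Nat.mul_le_mul_left _ h2
      _ ≤ p * (p * Nat.card (L ⊓ Subgroup.centralizer (A : Set G) : Subgroup G)) :=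
          Nat.mul_le_mul_left _ (Nat.mul_le_mul_left _ h3)
      _ = p ^ 2 * Nat.card (L ⊓ Subgroup.centralizer (A : Set G) : Subgroup G) := by ring

/-- Elements of `E ⊔ E₁` are products `e * e₁` when `E₁` normalizes `E`. -/
theorem mem_sup_of_normalizes {G : Type*} [Group G] (E E₁ : Subgroup G)
    (h1 : ∀ e₁ ∈ E₁, ∀ e ∈ E, e₁ * e * e₁⁻¹ ∈ E) {x : G} (hx : x ∈ E ⊔ E₁) :
    ∃ e ∈ E, ∃ e₁ ∈ E₁, x = e * e₁ := by
  have hx' : x ∈ Subgroup.closure ((E : Set G) ∪ (E₁ : Set G)) := by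
    rw [Subgroup.closure_union, Subgroup.closure_eq, Subgroup.closure_eq]; exact hx
  induction hx' using Subgroup.closure_induction with
  | mem y hy =>
    rcases hy with hy | hy
    · exact ⟨y, hy, 1, E₁.one_mem, by rw [mul_one]⟩
    · exact ⟨1, E.one_mem, y, hy, by rw [one_mul]⟩
  | one => exact ⟨1, E.one_mem, 1, E₁.one_mem, by rw [mul_one]⟩
  | mul a b _ _ iha ihb =>
    obtain ⟨e, he, e₁, he₁, rfl⟩ := iha (by
      rw [← Subgroup.closure_eq E, ← Subgroup.closure_eq E₁, ← Subgroup.closure_union]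
      assumption)
    obtain ⟨e', he', e₁', he₁', rfl⟩ := ihb (by
      rw [← Subgroup.closure_eq E, ← Subgroup.closure_eq E₁, ← Subgroup.closure_union]
      assumption)
    exact ⟨e * (e₁ * e' * e₁⁻¹), E.mul_mem he (h1 e₁ he₁ e' he'), e₁ * e₁',
      E₁.mul_mem he₁ he₁', by group⟩
  | inv a _ iha =>
    obtain ⟨e, he, e₁, he₁, rfl⟩ := iha (by
      rw [← Subgroup.closure_eq E, ← Subgroup.closure_eq E₁, ← Subgroup.closure_union]
      assumption)
    exact ⟨e₁⁻¹ * e⁻¹ * e₁⁻¹⁻¹, h1 e₁⁻¹ (E₁.inv_mem he₁) e⁻¹ (E.inv_mem he), e₁⁻¹,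
      E₁.inv_mem he₁, by group⟩

/-- With `A` normal elementary abelian of order `p^3` containing all elements of order `p` of
its centralizer, an elementary abelian subgroup of order `p^4` meets `A` in order `p^2`. -/
theorem card_inf_of_rank4 {G : Type*} [Group G] [Finite G] {p : ℕ} [Fact p.Prime]
    (hG : IsPGroup p G) (A : Subgroup G) [hAn : A.Normal]
    (hAc : ∀ a ∈ A, ∀ b ∈ A, a * b = b * a) (hAe : ∀ a ∈ A, a ^ p = 1)
    (hA3 : Nat.card A = p ^ 3)
    (star : ∀ x : G, x ^ p = 1 → (∀ a ∈ A, a * x = x * a) → x ∈ A)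
    (F : Subgroup G) (hFc : ∀ a ∈ F, ∀ b ∈ F, a * b = b * a) (hFe : ∀ a ∈ F, a ^ p = 1)
    (hF4 : Nat.card F = p ^ 4) : Nat.card (F ⊓ A : Subgroup G) = p ^ 2 := by
  have hpp : p.Prime := Fact.out
  have h1 := card_le_sq_mul_centralizer hG A hAc hAe hA3 F
    (fun l hl l' hl' a _ => by rw [hFc l hl l' hl'])
  have h2 : F ⊓ Subgroup.centralizer (A : Set G) ≤ F ⊓ A := by
    intro x hx
    obtain ⟨hx1, hx2⟩ := Subgroup.mem_inf.mp hx
    exact Subgroup.mem_inf.mpr ⟨hx1, star x (hFe x hx1)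
      (fun a ha => Subgroup.mem_centralizer_iff.mp hx2 a ha)⟩
  have h3 := Subgroup.card_le_of_le h2
  obtain ⟨j, hj⟩ := IsPGroup.iff_card.mp (hG.to_subgroup (F ⊓ A))
  have hj2 : 2 ≤ j := by
    by_contra hlt
    have h4 : p ^ 4 ≤ p ^ 2 * p ^ j := by
      rw [← hF4, ← hj]; exact h1.trans (Nat.mul_le_mul_left _ h3)
    rw [← pow_add] at h4
    have h5 := (Nat.pow_le_pow_iff_right hpp.one_lt).mp h4
    omega
  have hj3 : j < 3 := by
    by_contra hge
    have hle : Nat.card A ≤ Nat.card (F ⊓ A : Subgroup G) := by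
      rw [hA3, hj]; exact Nat.pow_le_pow_right hpp.pos (by omega)
    have heq : F ⊓ A = A := Subgroup.eq_of_le_of_card_ge inf_le_right hle
    have hAF : A ≤ F := by rw [← heq]; exact inf_le_left
    have hFA : F ≤ A := fun x hx => star x (hFe x hx) (fun a ha => hFc a (hAF ha) x hx)
    have h6 := Subgroup.card_le_of_le hFA
    rw [hF4, hA3] at h6
    have h7 := (Nat.pow_le_pow_iff_right hpp.one_lt).mp h6
    omega
  have hj4 : j = 2 := by omega
  rw [hj, hj4]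

/-- Two elementary abelian subgroups of order `p^4` normalizing each other coincide, in the
presence of a normal elementary abelian `A` of order `p^3` with `Ω₁(C(A)) = A`. -/
theorem rank4_eq {G : Type*} [Group G] [Finite G] {p : ℕ} [Fact p.Prime] (hp : p ≠ 2)
    (hG : IsPGroup p G) (A : Subgroup G) [hAn : A.Normal]
    (hAc : ∀ a ∈ A, ∀ b ∈ A, a * b = b * a) (hAe : ∀ a ∈ A, a ^ p = 1)
    (hA3 : Nat.card A = p ^ 3)
    (star : ∀ x : G, x ^ p = 1 → (∀ a ∈ A, a * x = x * a) → x ∈ A)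
    (E E₁ : Subgroup G) (hEc : ∀ a ∈ E, ∀ b ∈ E, a * b = b * a) (hEe : ∀ a ∈ E, a ^ p = 1)
    (hE4 : Nat.card E = p ^ 4)
    (hE₁c : ∀ a ∈ E₁, ∀ b ∈ E₁, a * b = b * a) (hE₁e : ∀ a ∈ E₁, a ^ p = 1)
    (hE₁4 : Nat.card E₁ = p ^ 4)
    (hn1 : ∀ e₁ ∈ E₁, ∀ e ∈ E, e₁ * e * e₁⁻¹ ∈ E)
    (hn2 : ∀ e ∈ E, ∀ e₁ ∈ E₁, e * e₁ * e⁻¹ ∈ E₁) : E = E₁ := by
  by_contra hne
  have hpp : p.Prime := Fact.out
  have hH := card_inf_of_rank4 hG A hAc hAe hA3 star E hEc hEe hE4
  have hH₁ := card_inf_of_rank4 hG A hAc hAe hA3 star E₁ hE₁c hE₁e hE₁4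
  have hcardA_H : Nat.card A = p * Nat.card (E ⊓ A : Subgroup G) := by rw [hA3, hH]; ring
  have hcardA_H₁ : Nat.card A = p * Nat.card (E₁ ⊓ A : Subgroup G) := by rw [hA3, hH₁]; ring
  have hEA : ∀ k ∈ E, ∀ a ∈ A, k * a * k⁻¹ ∈ A := fun k _ a ha => hAn.conj_mem a ha k
  have hE₁A : ∀ k ∈ E₁, ∀ a ∈ A, k * a * k⁻¹ ∈ A := fun k _ a ha => hAn.conj_mem a ha k
  have tEH₁ : ∀ k ∈ E, ∀ a ∈ A, k * a * k⁻¹ * a⁻¹ ∈ E₁ ⊓ A :=
    comm_mem_of_card_eq_mul hG E (E₁ ⊓ A) A inf_le_right hAc hcardA_H₁ hEA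
      (fun k hk h hh => Subgroup.mem_inf.mpr ⟨hn2 k hk h (Subgroup.mem_inf.mp hh).1,
        hAn.conj_mem h (Subgroup.mem_inf.mp hh).2 k⟩)
  have tE₁H : ∀ k ∈ E₁, ∀ a ∈ A, k * a * k⁻¹ * a⁻¹ ∈ E ⊓ A :=
    comm_mem_of_card_eq_mul hG E₁ (E ⊓ A) A inf_le_right hAc hcardA_H hE₁A
      (fun k hk h hh => Subgroup.mem_inf.mpr ⟨hn1 k hk h (Subgroup.mem_inf.mp hh).1,
        hAn.conj_mem h (Subgroup.mem_inf.mp hh).2 k⟩)
  have hgen : ∀ e ∈ E, ∀ e₁ ∈ E₁, ∀ a ∈ A,
      (e * e₁) * a * (e * e₁)⁻¹ = (e₁ * e) * a * (e₁ * e)⁻¹ := by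
    intro e he e₁ he₁ a ha
    have hc := tEH₁ e he a ha
    have hc₁ := tE₁H e₁ he₁ a ha
    have h1 : e * (e₁ * a * e₁⁻¹ * a⁻¹) = (e₁ * a * e₁⁻¹ * a⁻¹) * e :=
      hEc e he _ (Subgroup.mem_inf.mp hc₁).1
    have h2 : e₁ * (e * a * e⁻¹ * a⁻¹) = (e * a * e⁻¹ * a⁻¹) * e₁ :=
      hE₁c e₁ he₁ _ (Subgroup.mem_inf.mp hc).1
    have h3 : (e₁ * a * e₁⁻¹ * a⁻¹) * (e * a * e⁻¹ * a⁻¹) =
        (e * a * e⁻¹ * a⁻¹) * (e₁ * a * e₁⁻¹ * a⁻¹) :=
      hAc _ (Subgroup.mem_inf.mp hc₁).2 _ (Subgroup.mem_inf.mp hc).2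
    calc (e * e₁) * a * (e * e₁)⁻¹
        = (e * (e₁ * a * e₁⁻¹ * a⁻¹)) * e⁻¹ * (e * a * e⁻¹ * a⁻¹) * a := by group
      _ = ((e₁ * a * e₁⁻¹ * a⁻¹) * e) * e⁻¹ * (e * a * e⁻¹ * a⁻¹) * a := by rw [h1]
      _ = ((e₁ * a * e₁⁻¹ * a⁻¹) * (e * a * e⁻¹ * a⁻¹)) * a := by group
      _ = ((e * a * e⁻¹ * a⁻¹) * (e₁ * a * e₁⁻¹ * a⁻¹)) * a := by rw [h3]
      _ = ((e * a * e⁻¹ * a⁻¹) * e₁) * e₁⁻¹ * (e₁ * a * e₁⁻¹ * a⁻¹) * a := by group
      _ = (e₁ * (e * a * e⁻¹ * a⁻¹)) * e₁⁻¹ * (e₁ * a * e₁⁻¹ * a⁻¹) * a := by rw [h2]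
      _ = (e₁ * e) * a * (e₁ * e)⁻¹ := by group
  -- the conjugation action of `E ⊔ E₁` on `A` is abelian
  have hfS : ∀ x ∈ (E : Set G) ∪ (E₁ : Set G), ∀ y ∈ (E : Set G) ∪ (E₁ : Set G),
      Commute ((MulAut.conjNormal (H := A)) x) ((MulAut.conjNormal (H := A)) y) := by
    intro x hx y hy
    show (MulAut.conjNormal (H := A)) x * (MulAut.conjNormal (H := A)) y =
      (MulAut.conjNormal (H := A)) y * (MulAut.conjNormal (H := A)) x
    rw [← map_mul, ← map_mul]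
    rcases hx with hx | hx <;> rcases hy with hy | hy
    · rw [hEc x hx y hy]
    · apply MulEquiv.ext
      intro a
      apply Subtype.ext
      rw [MulAut.conjNormal_apply, MulAut.conjNormal_apply]
      exact hgen x hx y hy a a.2
    · apply MulEquiv.ext
      intro a
      apply Subtype.ext
      rw [MulAut.conjNormal_apply, MulAut.conjNormal_apply]
      exact (hgen y hy x hx a a.2).symm
    · rw [hE₁c x hx y hy]
  have hfL' : ∀ x ∈ Subgroup.closure ((E : Set G) ∪ (E₁ : Set G)),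
      ∀ y ∈ Subgroup.closure ((E : Set G) ∪ (E₁ : Set G)),
      Commute ((MulAut.conjNormal (H := A)) x) ((MulAut.conjNormal (H := A)) y) := by
    intro x hx y hy
    induction hx, hy using Subgroup.closure_induction₂ with
    | mem x y hx hy => exact hfS x hx y hy
    | one_left x hx => rw [map_one]; exact Commute.one_left _
    | one_right x hx => rw [map_one]; exact Commute.one_right _
    | mul_left x y z hx hy hz h1 h2 => rw [map_mul]; exact h1.mul_left h2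
    | mul_right y z x hy hz hx h1 h2 => rw [map_mul]; exact h1.mul_right h2
    | inv_left x y hx hy h => rw [map_inv]; exact h.inv_left
    | inv_right x y hx hy h => rw [map_inv]; exact h.inv_right
  have hfL : ∀ x ∈ E ⊔ E₁, ∀ y ∈ E ⊔ E₁,
      Commute ((MulAut.conjNormal (H := A)) x) ((MulAut.conjNormal (H := A)) y) := by
    intro x hx y hy
    have hx' : x ∈ Subgroup.closure ((E : Set G) ∪ (E₁ : Set G)) := by
      rw [Subgroup.closure_union, Subgroup.closure_eq, Subgroup.closure_eq]; exact hx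
    have hy' : y ∈ Subgroup.closure ((E : Set G) ∪ (E₁ : Set G)) := by
      rw [Subgroup.closure_union, Subgroup.closure_eq, Subgroup.closure_eq]; exact hy
    exact hfL' x hx' y hy'
  have hL : ∀ l ∈ E ⊔ E₁, ∀ l' ∈ E ⊔ E₁, ∀ a ∈ A,
      (l * l') * a * (l * l')⁻¹ = (l' * l) * a * (l' * l)⁻¹ := by
    intro l hl l' hl' a ha
    have h1 := hfL l hl l' hl'
    have h2 : (MulAut.conjNormal (H := A)) (l * l') = (MulAut.conjNormal (H := A)) (l' * l) := by
      rw [map_mul, map_mul]; exact h1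
    have h3 := congrArg (fun φ : MulAut A => ((φ ⟨a, ha⟩ : A) : G)) h2
    simp only [MulAut.conjNormal_apply] at h3
    exact h3
  -- `E ⊔ E₁` has exponent `p`
  have hLe : ∀ l ∈ E ⊔ E₁, l ^ p = 1 := by
    intro l hl
    obtain ⟨e, he, e₁, he₁, rfl⟩ := mem_sup_of_normalizes E E₁ hn1 hl
    have hrel := basic_rel e e₁
    have htE : e₁⁻¹ * e⁻¹ * e₁ * e ∈ E := by
      have h1 := hn1 e₁⁻¹ (E₁.inv_mem he₁) e⁻¹ (E.inv_mem he)
      rw [inv_inv] at h1
      exact E.mul_mem h1 he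
    have htE₁ : e₁⁻¹ * e⁻¹ * e₁ * e ∈ E₁ := by
      have h1 := hn2 e⁻¹ (E.inv_mem he) e₁ he₁
      rw [inv_inv] at h1
      have e' : e₁⁻¹ * e⁻¹ * e₁ * e = e₁⁻¹ * (e⁻¹ * e₁ * e) := by group
      rw [e']; exact E₁.mul_mem (E₁.inv_mem he₁) h1
    have htu : Commute (e₁⁻¹ * e⁻¹ * e₁ * e) e := hEc _ htE e he
    have htv : Commute (e₁⁻¹ * e⁻¹ * e₁ * e) e₁ := hE₁c _ htE₁ e₁ he₁
    rw [mul_pow_of_rel_comm hrel htu htv p, hEe e he, hE₁e e₁ he₁, one_mul, one_mul]
    obtain ⟨k, hk⟩ := hpp.dvd_choose_self (by norm_num : 2 ≠ 0)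
      (by have := hpp.two_le; omega : 2 < p)
    rw [hk, pow_mul, hEe _ htE, one_pow]
  have hX := card_le_sq_mul_centralizer hG A hAc hAe hA3 (E ⊔ E₁) hL
  have hCA : (E ⊔ E₁) ⊓ Subgroup.centralizer (A : Set G) ≤ (E ⊔ E₁) ⊓ A := by
    intro x hx
    obtain ⟨hx1, hx2⟩ := Subgroup.mem_inf.mp hx
    exact Subgroup.mem_inf.mpr ⟨hx1, star x (hLe x hx1)
      (fun a ha => Subgroup.mem_centralizer_iff.mp hx2 a ha)⟩
  have hX' : Nat.card (E ⊔ E₁ : Subgroup G) ≤ p ^ 2 * Nat.card ((E ⊔ E₁) ⊓ A : Subgroup G) :=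
    hX.trans (Nat.mul_le_mul_left _ (Subgroup.card_le_of_le hCA))
  have hineq := card_mul_card_le_sup_inf E E₁
  rw [hE4, hE₁4] at hineq
  -- `|E ∩ E₁| ≤ p^3`
  have hD3 : Nat.card (E ⊓ E₁ : Subgroup G) ≤ p ^ 3 := by
    obtain ⟨j, hj⟩ := IsPGroup.iff_card.mp (hG.to_subgroup (E ⊓ E₁))
    have hj3 : j ≤ 3 := by
      by_contra hgt
      have hle : Nat.card E ≤ Nat.card (E ⊓ E₁ : Subgroup G) := by
        rw [hE4, hj]; exact Nat.pow_le_pow_right hpp.pos (by omega)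
      have heq : E ⊓ E₁ = E := Subgroup.eq_of_le_of_card_ge inf_le_left hle
      have hEE₁ : E ≤ E₁ := by rw [← heq]; exact inf_le_right
      exact hne (Subgroup.eq_of_le_of_card_ge hEE₁ (by rw [hE4, hE₁4]))
    rw [hj]; exact Nat.pow_le_pow_right hpp.pos hj3
  have hL5 : p ^ 5 ≤ Nat.card (E ⊔ E₁ : Subgroup G) := by
    have h1 : p ^ 5 * p ^ 3 ≤ Nat.card (E ⊔ E₁ : Subgroup G) * p ^ 3 := by
      calc p ^ 5 * p ^ 3 = p ^ 4 * p ^ 4 := by ring
        _ ≤ Nat.card (E ⊔ E₁ : Subgroup G) * Nat.card (E ⊓ E₁ : Subgroup G) := hineq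
        _ ≤ Nat.card (E ⊔ E₁ : Subgroup G) * p ^ 3 := Nat.mul_le_mul_left _ hD3
    exact Nat.le_of_mul_le_mul_right h1 (pow_pos hpp.pos 3)
  have hLA : A ≤ E ⊔ E₁ := by
    have h1 : p ^ 2 * p ^ 3 ≤ p ^ 2 * Nat.card ((E ⊔ E₁) ⊓ A : Subgroup G) := by
      calc p ^ 2 * p ^ 3 = p ^ 5 := by ring
        _ ≤ _ := hL5.trans hX'
    have h2 : p ^ 3 ≤ Nat.card ((E ⊔ E₁) ⊓ A : Subgroup G) :=
      Nat.le_of_mul_le_mul_left h1 (pow_pos hpp.pos 2)
    have heq : (E ⊔ E₁) ⊓ A = A := Subgroup.eq_of_le_of_card_ge inf_le_right (by rw [hA3]; exact h2)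
    rw [← heq]; exact inf_le_left
  have hDA : E ⊓ E₁ ≤ E ⊓ A := by
    intro d hd
    obtain ⟨hd1, hd2⟩ := Subgroup.mem_inf.mp hd
    refine Subgroup.mem_inf.mpr ⟨hd1, star d (hEe d hd1) ?_⟩
    intro a ha
    have hle : E ⊔ E₁ ≤ Subgroup.centralizer {d} := by
      apply sup_le
      · intro e he
        rw [Subgroup.mem_centralizer_iff]
        intro y hy
        rw [Set.mem_singleton_iff] at hy; subst hy
        exact hEc y hd1 e he
      · intro e he
        rw [Subgroup.mem_centralizer_iff]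
        intro y hy
        rw [Set.mem_singleton_iff] at hy; subst hy
        exact hE₁c y hd2 e he
    exact (Subgroup.mem_centralizer_iff.mp (hle (hLA ha)) d rfl).symm
  have hD2 : Nat.card (E ⊓ E₁ : Subgroup G) ≤ p ^ 2 := by
    rw [← hH]; exact Subgroup.card_le_of_le hDA
  have hL5' : Nat.card (E ⊔ E₁ : Subgroup G) ≤ p ^ 5 := by
    calc Nat.card (E ⊔ E₁ : Subgroup G) ≤ p ^ 2 * Nat.card ((E ⊔ E₁) ⊓ A : Subgroup G) := hX'
      _ ≤ p ^ 2 * p ^ 3 := by
        apply Nat.mul_le_mul_left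
        rw [← hA3]; exact Subgroup.card_le_of_le inf_le_right
      _ = p ^ 5 := by ring
  have hfinal : p ^ 8 ≤ p ^ 7 := by
    calc p ^ 8 = p ^ 4 * p ^ 4 := by ring
      _ ≤ Nat.card (E ⊔ E₁ : Subgroup G) * Nat.card (E ⊓ E₁ : Subgroup G) := hineq
      _ ≤ p ^ 5 * p ^ 2 := Nat.mul_le_mul hL5' hD2
      _ = p ^ 7 := by ring
  have := (Nat.pow_le_pow_iff_right hpp.one_lt).mp hfinal
  omega

/-- In the presence of a normal elementary abelian `A` of order `p^3` with `Ω₁(C(A)) = A`,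
every elementary abelian subgroup of order `p^4` is normal. -/
theorem rank4_normal {G : Type*} [Group G] [Finite G] {p : ℕ} [Fact p.Prime] (hp : p ≠ 2)
    (hG : IsPGroup p G) (A : Subgroup G) [hAn : A.Normal]
    (hAc : ∀ a ∈ A, ∀ b ∈ A, a * b = b * a) (hAe : ∀ a ∈ A, a ^ p = 1)
    (hA3 : Nat.card A = p ^ 3)
    (star : ∀ x : G, x ^ p = 1 → (∀ a ∈ A, a * x = x * a) → x ∈ A)
    (E : Subgroup G) (hEc : ∀ a ∈ E, ∀ b ∈ E, a * b = b * a) (hEe : ∀ a ∈ E, a ^ p = 1)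
    (hE4 : Nat.card E = p ^ 4) : E.Normal := by
  by_contra hnot
  have hlt : Subgroup.normalizer (E : Set G) < ⊤ := by
    rw [lt_top_iff_ne_top]
    intro htop
    exact hnot (Subgroup.normalizer_eq_top_iff.mp htop)
  have hnil : Group.IsNilpotent G := hG.isNilpotent
  have hnc := Group.normalizerCondition_of_isNilpotent (G := G) _ hlt
  obtain ⟨h, hhn, hhN⟩ := SetLike.exists_of_lt hnc
  have hmem : ∀ x, x ∈ E.map (MulAut.conj h).toMonoidHom ↔ ∃ e ∈ E, h * e * h⁻¹ = x := by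
    intro x
    rw [Subgroup.mem_map]
    rfl
  have hE₁N : E.map (MulAut.conj h).toMonoidHom ≤ Subgroup.normalizer (E : Set G) := by
    intro x hx
    obtain ⟨e, he, rfl⟩ := (hmem x).mp hx
    exact (Subgroup.mem_normalizer_iff.mp hhn e).mp (Subgroup.le_normalizer he)
  have heq : E = E.map (MulAut.conj h).toMonoidHom := by
    apply rank4_eq hp hG A hAc hAe hA3 star E _ hEc hEe hE4
    · intro x hx y hy
      obtain ⟨e, he, rfl⟩ := (hmem x).mp hx
      obtain ⟨e', he', rfl⟩ := (hmem y).mp hy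
      calc h * e * h⁻¹ * (h * e' * h⁻¹) = h * (e * e') * h⁻¹ := by group
        _ = h * (e' * e) * h⁻¹ := by rw [hEc e he e' he']
        _ = h * e' * h⁻¹ * (h * e * h⁻¹) := by group
    · intro x hx
      obtain ⟨e, he, rfl⟩ := (hmem x).mp hx
      rw [conj_pow, hEe e he, mul_one, mul_inv_cancel]
    · rw [Subgroup.card_map_of_injective (MulAut.conj h).injective, hE4]
    · intro e₁ he₁ e he
      exact (Subgroup.mem_normalizer_iff.mp (hE₁N he₁) e).mp he
    · intro e he e₁ he₁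
      obtain ⟨e', he', rfl⟩ := (hmem e₁).mp he₁
      have h1 : h⁻¹ * e * h⁻¹⁻¹ ∈ Subgroup.normalizer (E : Set G) := by
        have h2 := Subgroup.mem_normalizer_iff.mp hhn (h⁻¹ * e * h⁻¹⁻¹)
        rw [h2]
        have e3 : h * (h⁻¹ * e * h⁻¹⁻¹) * h⁻¹ = e := by group
        rw [e3]
        exact Subgroup.le_normalizer he
      have h4 : (h⁻¹ * e * h⁻¹⁻¹) * e' * (h⁻¹ * e * h⁻¹⁻¹)⁻¹ ∈ E :=
        (Subgroup.mem_normalizer_iff.mp h1 e').mp he'
      refine (hmem _).mpr ⟨_, h4, ?_⟩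
      group
  apply hhN
  rw [Subgroup.mem_normalizer_iff]
  intro n
  constructor
  · intro hn
    exact (SetLike.ext_iff.mp heq _).mpr ((hmem _).mpr ⟨n, hn, rfl⟩)
  · intro hn
    obtain ⟨e, he, hee⟩ := (hmem _).mp ((SetLike.ext_iff.mp heq _).mp hn)
    have : e = n := by
      have := mul_left_cancel (mul_right_cancel hee)
      exact this
    rw [← this]; exact he

/-- If a normal elementary abelian subgroup `A` of order at most `p^2` of a `p`-group contains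
all elements of order `p` of its centralizer, every elementary abelian subgroup has order at
most `p^2`. -/
theorem card_le_sq_of_star {G : Type*} [Group G] [Finite G] {p : ℕ} [Fact p.Prime]
    (hG : IsPGroup p G) (A : Subgroup G) [hAn : A.Normal]
    (hAe : ∀ a ∈ A, a ^ p = 1) (hAcard : Nat.card A ≤ p ^ 2)
    (star : ∀ x : G, x ^ p = 1 → (∀ a ∈ A, a * x = x * a) → x ∈ A)
    (E : Subgroup G) (hEc : ∀ a ∈ E, ∀ b ∈ E, a * b = b * a) (hEe : ∀ e ∈ E, e ^ p = 1) :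
    Nat.card E ≤ p ^ 2 := by
  have hpp : p.Prime := Fact.out
  by_cases hAZ : A ≤ Subgroup.center G
  · have hEA : E ≤ A := fun e he => star e (hEe e he)
      (fun a ha => (Subgroup.mem_center_iff.mp (hAZ ha) e).symm)
    exact (Subgroup.card_le_of_le hEA).trans hAcard
  · obtain ⟨g, hgA, hgZ⟩ := SetLike.not_le_iff_exists.mp hAZ
    have hAne : A ≠ ⊥ := by
      rintro rfl
      exact hgZ (by rw [Subgroup.mem_bot.mp hgA]; exact Subgroup.one_mem _)
    obtain ⟨z, hzA, hzc, hz1⟩ := normal_inf_center_ne_bot hG A hAne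
    have hzcard : Nat.card (Subgroup.zpowers z) = p := by
      rw [Nat.card_zpowers]
      exact orderOf_eq_prime (hAe z hzA) hz1
    have hgen : ∀ D : Subgroup G, D ≤ A → z ∈ D → g ∈ D → D = A := by
      intro D hDA hzD hgD
      have hzD' : Subgroup.zpowers z ≤ D := (Subgroup.zpowers_le).mpr hzD
      obtain ⟨j, hj⟩ := IsPGroup.iff_card.mp (hG.to_subgroup D)
      have hj2 : 2 ≤ j := by
        by_contra hj1
        have hle : Nat.card D ≤ Nat.card (Subgroup.zpowers z) := by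
          rw [hzcard, hj]
          calc p ^ j ≤ p ^ 1 := Nat.pow_le_pow_right hpp.pos (by omega)
            _ = p := pow_one p
        have heq := Subgroup.eq_of_le_of_card_ge hzD' hle
        rw [← heq] at hgD
        exact hgZ ((Subgroup.zpowers_le (H := Subgroup.center G)).mpr hzc hgD)
      apply Subgroup.eq_of_le_of_card_ge hDA
      rw [hj]
      exact hAcard.trans (Nat.pow_le_pow_right hpp.pos hj2)
    have hcent : ∀ c : G, c * g = g * c → ∀ a ∈ A, a * c = c * a := by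
      intro c hc a ha
      have hD := hgen (A ⊓ Subgroup.centralizer {c}) inf_le_left
        (Subgroup.mem_inf.mpr ⟨hzA, by
          rw [Subgroup.mem_centralizer_iff]
          intro x hx
          rw [Set.mem_singleton_iff] at hx
          subst hx
          exact Subgroup.mem_center_iff.mp hzc x⟩)
        (Subgroup.mem_inf.mpr ⟨hgA, by
          rw [Subgroup.mem_centralizer_iff]
          intro x hx
          rw [Set.mem_singleton_iff] at hx
          subst hx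
          exact hc⟩)
      have haD : a ∈ A ⊓ Subgroup.centralizer {c} := by rw [hD]; exact ha
      have := Subgroup.mem_centralizer_iff.mp (Subgroup.mem_inf.mp haD).2 c rfl
      exact this.symm
    by_cases hAE : A ≤ E
    · have hEA : E ≤ A := by
        intro e he
        apply star e (hEe e he)
        intro a ha
        exact hEc a (hAE ha) e he
      exact (Subgroup.card_le_of_le hEA).trans hAcard
    · have hE0A : E ⊓ Subgroup.centralizer {g} ≤ E ⊓ A := by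
        intro e he
        obtain ⟨he1, he2⟩ := Subgroup.mem_inf.mp he
        refine Subgroup.mem_inf.mpr ⟨he1, ?_⟩
        apply star e (hEe e he1)
        apply hcent e
        exact (Subgroup.mem_centralizer_iff.mp he2 g rfl).symm
      have hEAcard : Nat.card (E ⊓ A : Subgroup G) ≤ p := by
        obtain ⟨j, hj⟩ := IsPGroup.iff_card.mp (hG.to_subgroup (E ⊓ A))
        by_contra hgt
        have hj2 : 2 ≤ j := by
          by_contra hj1
          apply hgt
          rw [hj]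
          calc p ^ j ≤ p ^ 1 := Nat.pow_le_pow_right hpp.pos (by omega)
            _ = p := pow_one p
        have heq : E ⊓ A = A := by
          apply Subgroup.eq_of_le_of_card_ge inf_le_right
          rw [hj]
          exact hAcard.trans (Nat.pow_le_pow_right hpp.pos hj2)
        exact hAE (by rw [← heq]; exact inf_le_left)
      have hE0card : Nat.card (E ⊓ Subgroup.centralizer {g} : Subgroup G) ≤ p :=
        (Subgroup.card_le_of_le hE0A).trans hEAcard
      have hg1 : g ≠ 1 := by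
        rintro rfl
        exact hgZ (Subgroup.one_mem _)
      have hrel1 : (E ⊓ Subgroup.centralizer {g}).relIndex E ≤
          Nat.card ((A : Set G) \ {1} : Set G) := by
        apply relIndex_centralizer_le_card
        intro t _
        refine ⟨hAn.conj_mem g hgA t, ?_⟩
        rw [Set.mem_singleton_iff]
        intro h1
        apply hg1
        have e : g = t⁻¹ * (t * g * t⁻¹) * t := by group
        rw [e, h1]; group
      have hZlt : Nat.card ((A : Set G) \ {1} : Set G) < Nat.card A := by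
        rw [Nat.card_coe_set_eq]
        have h2 : Nat.card A = (A : Set G).ncard := Nat.card_coe_set_eq _
        rw [h2]
        apply Set.ncard_lt_ncard _ (Set.toFinite _)
        refine ⟨Set.sdiff_subset, fun hsub => ?_⟩
        have h3 := hsub A.one_mem
        exact h3.2 rfl
      have hrel2 : (E ⊓ Subgroup.centralizer {g}).relIndex E ≤ p := by
        obtain ⟨m, hm⟩ := IsPGroup.iff_card.mp (hG.to_subgroup E)
        have hdvd : (E ⊓ Subgroup.centralizer {g}).relIndex E ∣ Nat.card E :=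
          Subgroup.relIndex_dvd_card _ _
        rw [hm] at hdvd
        obtain ⟨i, -, hi⟩ := (Nat.dvd_prime_pow hpp).mp hdvd
        have hlt : p ^ i < p ^ 2 := by
          rw [← hi]
          exact lt_of_le_of_lt hrel1 (lt_of_lt_of_le hZlt hAcard)
        have hi2 : i < 2 := (Nat.pow_lt_pow_iff_right hpp.one_lt).mp hlt
        rw [hi]
        calc p ^ i ≤ p ^ 1 := Nat.pow_le_pow_right hpp.pos (by omega)
          _ = p := pow_one p
      have hcardE := relIndex_mul_card_of_le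
        (inf_le_left : E ⊓ Subgroup.centralizer {g} ≤ E)
      rw [← hcardE, pow_two]
      exact Nat.mul_le_mul hrel2 hE0card

/-- For odd `p`, a `p`-group with an elementary abelian subgroup of order `p^4` has a normal
one. -/
theorem exists_normal_rank4 {G : Type*} [Group G] [Finite G] {p : ℕ} [Fact p.Prime]
    (hp : p ≠ 2) (hG : IsPGroup p G)
    (E : Subgroup G) (hEc : ∀ a ∈ E, ∀ b ∈ E, a * b = b * a) (hEe : ∀ a ∈ E, a ^ p = 1)
    (hE4 : Nat.card E = p ^ 4) :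
    ∃ B : Subgroup G, B.Normal ∧ (∀ a ∈ B, ∀ b ∈ B, a * b = b * a) ∧ (∀ a ∈ B, a ^ p = 1) ∧
      Nat.card B = p ^ 4 := by
  have hpp : p.Prime := Fact.out
  have hfin : {A : Subgroup G | A.Normal ∧ (∀ a ∈ A, ∀ b ∈ A, a * b = b * a) ∧
      (∀ a ∈ A, a ^ p = 1)}.Finite := Set.toFinite _
  have hbot : (⊥ : Subgroup G) ∈ {A : Subgroup G | A.Normal ∧
      (∀ a ∈ A, ∀ b ∈ A, a * b = b * a) ∧ (∀ a ∈ A, a ^ p = 1)} := by
    refine ⟨inferInstance, ?_, ?_⟩
    · intro a ha b hb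
      rw [Subgroup.mem_bot.mp ha, Subgroup.mem_bot.mp hb]
    · intro a ha
      rw [Subgroup.mem_bot.mp ha, one_pow]
  obtain ⟨A, -, hmax⟩ := hfin.exists_le_maximal hbot
  obtain ⟨⟨hAn, hAc, hAe⟩, hmax'⟩ := hmax
  have star : ∀ x : G, x ^ p = 1 → (∀ a ∈ A, a * x = x * a) → x ∈ A := by
    intro x hxp hxC
    by_contra hxA
    obtain ⟨B, hBn, hAB, hBc, hBe, hBcard⟩ := alperin_extend hp hG A hAc hAe x hxA hxp hxC
    have hBA : B ≤ A := hmax' ⟨hBn, hBc, hBe⟩ hAB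
    have h1 := Subgroup.card_le_of_le hBA
    rw [hBcard] at h1
    have hpos : 0 < Nat.card A := Nat.card_pos
    nlinarith [hpp.two_le]
  obtain ⟨k, hk⟩ := IsPGroup.iff_card.mp (hG.to_subgroup A)
  rcases Nat.lt_or_ge k 3 with hk3 | hk3
  · exfalso
    have h1 : Nat.card A ≤ p ^ 2 := by
      rw [hk]; exact Nat.pow_le_pow_right hpp.pos (by omega)
    have h2 := card_le_sq_of_star hG A hAe h1 star E hEc hEe
    rw [hE4] at h2
    have h3 := (Nat.pow_le_pow_iff_right hpp.one_lt).mp h2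
    omega
  · rcases Nat.lt_or_ge k 4 with hk4 | hk4
    · have hk' : k = 3 := by omega
      rw [hk'] at hk
      exact ⟨E, rank4_normal hp hG A hAc hAe hk star E hEc hEe hE4, hEc, hEe, hE4⟩
    · obtain ⟨N, hNn, hNA, hNcard, -⟩ := exists_normal_chain_centralizer hG A k hk 4 hk4
      exact ⟨N, hNn, fun a ha b hb => hAc a (hNA ha) b (hNA hb), fun a ha => hAe a (hNA ha),
        hNcard⟩

end Cfsg.Agent.H3
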