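import Cfsg.Agent.H3.MaxAbelian
import Cfsg.Agent.H3.Extraspecial
import Cfsg.Agent.H3.Critical
import Cfsg.Agent.H3.Class2
import Mathlib

set_option autoImplicit false

namespace Cfsg.Agent.H3

/-- In `⟨u⟩` with `u` of order `p ^ n` (`n ≥ 1`), the elements with trivial `p`-th power lie in
`⟨u ^ p ^ (n - 1)⟩`. -/
theorem mem_zpowers_pow_of_pow_eq_one {G : Type*} [Group G] {p n : ℕ} (hp : p.Prime)
    (hn : 1 ≤ n) {u x : G} (hu : orderOf u = p ^ n) (hx : x ∈ Subgroup.zpowers u)
    (hxp : x ^ p = 1) : x ∈ Subgroup.zpowers (u ^ p ^ (n - 1)) := by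
  have hfin : IsOfFinOrder u := by
    rw [← orderOf_pos_iff, hu]; exact pow_pos hp.pos n
  obtain ⟨i, rfl⟩ := (Submonoid.mem_powers_iff _ _).mp (hfin.mem_powers_iff_mem_zpowers.mpr hx)
  rw [← pow_mul] at hxp
  have h1 : p ^ n ∣ i * p := by rw [← hu]; exact orderOf_dvd_of_pow_eq_one hxp
  have h2 : p ^ (n - 1) ∣ i := by
    have : p ^ n = p ^ (n - 1) * p := by
      rw [← pow_succ]; congr 1; omega
    rw [this] at h1
    exact Nat.dvd_of_mul_dvd_mul_right hp.pos h1
  obtain ⟨j, rfl⟩ := h2
  rw [pow_mul]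
  exact Subgroup.pow_mem _ (Subgroup.mem_zpowers _) j

/-- A finite abelian `p`-subgroup in which all elements of order dividing `p` lie in a single
cyclic subgroup is generated by one element. -/
theorem exists_generator_of_omega_cyclic {G : Type*} [Group G] [Finite G] {p : ℕ}
    [Fact p.Prime] (hG : IsPGroup p G) (A : Subgroup G)
    (hA : ∀ a ∈ A, ∀ b ∈ A, a * b = b * a)
    (h : ∀ x ∈ A, ∀ y ∈ A, x ^ p = 1 → y ^ p = 1 → x ≠ 1 → y ∈ Subgroup.zpowers x) :
    ∃ a ∈ A, ∀ b ∈ A, b ∈ Subgroup.zpowers a := by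
  have hp : p.Prime := Fact.out
  obtain ⟨⟨a, haA⟩, hmax⟩ := Finite.exists_max (fun a : A => orderOf (a : G))
  have hmax' : ∀ b ∈ A, orderOf b ≤ orderOf a := fun b hb => hmax ⟨b, hb⟩
  refine ⟨a, haA, ?_⟩
  obtain ⟨e, he⟩ := (IsPGroup.iff_orderOf (p := p)).1 hG a
  have hkey : ∀ (k : ℕ) (b : G), b ∈ A → b ^ p ^ k = 1 → b ∈ Subgroup.zpowers a := by
    intro k
    induction k with
    | zero =>
      intro b _ hb
      rw [pow_zero, pow_one] at hb
      rw [hb]; exact Subgroup.one_mem _
    | succ k ih =>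
      intro b hbA hb
      have hbp : b ^ p ∈ Subgroup.zpowers a :=
        ih (b ^ p) (A.pow_mem hbA p) (by rw [← pow_mul, ← pow_succ']; exact hb)
      by_cases hb1 : b = 1
      · rw [hb1]; exact Subgroup.one_mem _
      rcases Nat.eq_zero_or_pos e with he0 | he0
      · -- `a = 1`, so every element of `A` is trivial
        exfalso
        rw [he0, pow_zero] at he
        have h1 := hmax' b hbA
        rw [he] at h1
        have h2 : 0 < orderOf b := orderOf_pos b
        exact hb1 (orderOf_eq_one_iff.mp (by omega))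
      have hfin : IsOfFinOrder a := isOfFinOrder_of_finite a
      obtain ⟨j, hj⟩ := (Submonoid.mem_powers_iff _ _).mp (hfin.mem_powers_iff_mem_zpowers.mpr hbp)
      obtain ⟨f, hf⟩ := (IsPGroup.iff_orderOf (p := p)).1 hG b
      have hf1 : 1 ≤ f := by
        rcases Nat.eq_zero_or_pos f with h0 | h0
        · rw [h0, pow_zero] at hf
          exact absurd (orderOf_eq_one_iff.mp hf) hb1
        · exact h0
      have hpj : p ∣ j := by
        by_contra hpj
        have h1 : orderOf (a ^ j) = orderOf a := by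
          apply Nat.Coprime.orderOf_pow
          rw [he]
          exact Nat.Coprime.pow_left e ((Nat.Prime.coprime_iff_not_dvd hp).mpr hpj)
        have h2 : orderOf (b ^ p) = p ^ (f - 1) := by
          rw [orderOf_pow' b hp.ne_zero, hf]
          have h3 : Nat.gcd (p ^ f) p = p := Nat.gcd_eq_right (dvd_pow_self p (by omega))
          rw [h3]
          have : p ^ f = p ^ (f - 1) * p := by
            rw [← pow_succ]; congr 1; omega
          rw [this, Nat.mul_div_cancel _ hp.pos]
        rw [← hj, h1, he] at h2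
        have h4 : e = f - 1 := Nat.pow_right_injective hp.two_le h2
        have h5 := hmax' b hbA
        rw [hf, he] at h5
        have h6 := (Nat.pow_le_pow_iff_right hp.one_lt).mp h5
        omega
      obtain ⟨j', rfl⟩ := hpj
      have haj : a ^ j' ∈ A := A.pow_mem haA j'
      have hcomm : Commute b (a ^ j')⁻¹ := hA b hbA _ (A.inv_mem haj)
      have hc : (b * (a ^ j')⁻¹) ^ p = 1 := by
        rw [hcomm.mul_pow, inv_pow, ← pow_mul, mul_comm j' p, hj, mul_inv_cancel]
      have hx0A : a ^ p ^ (e - 1) ∈ A := A.pow_mem haA _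
      have hx0p : (a ^ p ^ (e - 1)) ^ p = 1 := by
        rw [← pow_mul, ← pow_succ]
        have : e - 1 + 1 = e := by omega
        rw [this, ← he]
        exact pow_orderOf_eq_one a
      have hx01 : a ^ p ^ (e - 1) ≠ 1 := by
        intro h0
        have h1 := orderOf_dvd_of_pow_eq_one h0
        rw [he] at h1
        have h2 := Nat.le_of_dvd (pow_pos hp.pos _) h1
        have h3 := (Nat.pow_le_pow_iff_right hp.one_lt).mp h2
        omega
      have hcz := h _ hx0A _ (A.mul_mem hbA (A.inv_mem haj)) hx0p hc hx01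
      have hcz' : b * (a ^ j')⁻¹ ∈ Subgroup.zpowers a :=
        (Subgroup.zpowers_le.mpr (Subgroup.pow_mem _ (Subgroup.mem_zpowers a) _)) hcz
      have : b = b * (a ^ j')⁻¹ * a ^ j' := by group
      rw [this]
      exact Subgroup.mul_mem _ hcz' (Subgroup.pow_mem _ (Subgroup.mem_zpowers a) _)
  intro b hbA
  obtain ⟨k, hk⟩ := hG b
  exact hkey k b hbA hk

/-- A noncyclic abelian normal subgroup of a finite `p`-group contains a normal elementary
abelian subgroup of order `p ^ 2` (whose centralizer has index at most `p`). -/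
theorem exists_normal_elemAb_sq {G : Type*} [Group G] [Finite G] {p : ℕ} [Fact p.Prime]
    (hG : IsPGroup p G) (A : Subgroup G) [hAn : A.Normal]
    (hA : ∀ a ∈ A, ∀ b ∈ A, a * b = b * a) (hnc : ¬ IsCyclic A) :
    ∃ V : Subgroup G, V.Normal ∧ V ≤ A ∧ Nat.card V = p ^ 2 ∧ (∀ v ∈ V, v ^ p = 1) ∧
      Nat.card G ≤ p * Nat.card (Subgroup.centralizer (V : Set G)) := by
  have hp : p.Prime := Fact.out
  let Ω : Subgroup G :=
    { carrier := {a | a ∈ A ∧ a ^ p = 1}
      mul_mem' := by
        intro a b ha hb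
        refine ⟨A.mul_mem ha.1 hb.1, ?_⟩
        have hc : Commute a b := hA a ha.1 b hb.1
        rw [hc.mul_pow, ha.2, hb.2, one_mul]
      one_mem' := ⟨A.one_mem, one_pow p⟩
      inv_mem' := by
        intro a ha
        exact ⟨A.inv_mem ha.1, by rw [inv_pow, ha.2, inv_one]⟩ }
  have hΩmem : ∀ x, x ∈ Ω ↔ x ∈ A ∧ x ^ p = 1 := fun x => Iff.rfl
  haveI hΩn : Ω.Normal := by
    constructor
    intro a ha g
    refine ⟨hAn.conj_mem a ha.1 g, ?_⟩
    rw [conj_pow, ha.2, mul_one, mul_inv_cancel]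
  obtain ⟨m, hm⟩ := IsPGroup.iff_card.mp (hG.to_subgroup Ω)
  have hm2 : 2 ≤ m := by
    by_contra hcon
    push Not at hcon
    apply hnc
    have hcard : Nat.card Ω ≤ p := by
      rw [hm]
      calc p ^ m ≤ p ^ 1 := Nat.pow_le_pow_right hp.pos (by omega)
        _ = p := pow_one p
    obtain ⟨a, haA, hgen⟩ := exists_generator_of_omega_cyclic hG A hA (by
      intro x hxA y hyA hxp hyp hx1
      have hxo : orderOf x = p := orderOf_eq_prime hxp hx1
      have hle : Subgroup.zpowers x ≤ Ω := Subgroup.zpowers_le.mpr ⟨hxA, hxp⟩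
      have hc : Nat.card (Subgroup.zpowers x) = p := by rw [Nat.card_zpowers, hxo]
      have heq : Subgroup.zpowers x = Ω :=
        Subgroup.eq_of_le_of_card_ge hle (by rw [hc]; exact hcard)
      rw [heq]
      exact ⟨hyA, hyp⟩)
    refine ⟨⟨⟨a, haA⟩, fun b => ?_⟩⟩
    obtain ⟨k, hk⟩ := Subgroup.mem_zpowers_iff.mp (hgen b b.2)
    exact Subgroup.mem_zpowers_iff.mpr ⟨k, Subtype.ext (by simpa using hk)⟩
  obtain ⟨N, hNn, hNΩ, hNcard, hbound⟩ := exists_normal_chain_centralizer hG Ω m hm 2 hm2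
  refine ⟨N, hNn, fun x hx => (hNΩ hx).1, hNcard, fun v hv => (hNΩ hv).2, ?_⟩
  have : p ^ (2 * (2 - 1) / 2) = p := by norm_num
  rw [this] at hbound
  exact hbound

/-- If the centralizer of a normal subgroup `V` of a finite `p`-group has index at most `p`,
then every `p`-th power centralizes `V`. -/
theorem pow_mem_centralizer_of_card_le {G : Type*} [Group G] [Finite G] {p : ℕ}
    [Fact p.Prime] (hG : IsPGroup p G) (V : Subgroup G) [V.Normal]
    (h : Nat.card G ≤ p * Nat.card (Subgroup.centralizer (V : Set G))) (x : G) :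
    x ^ p ∈ Subgroup.centralizer (V : Set G) := by
  have hp : p.Prime := Fact.out
  set C := Subgroup.centralizer (V : Set G) with hC
  have h1 : Nat.card C * C.index = Nat.card G := Subgroup.card_mul_index C
  have hCpos : 0 < Nat.card C := Nat.card_pos
  have h2 : C.index ≤ p := by
    rw [← h1, mul_comm] at h
    exact Nat.le_of_mul_le_mul_right h hCpos
  obtain ⟨N, hN⟩ := IsPGroup.iff_card.mp hG
  have h3 : C.index ∣ p ^ N := by rw [← hN]; exact Subgroup.index_dvd_card C
  obtain ⟨i, -, hi⟩ := (Nat.dvd_prime_pow hp).mp h3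
  have h4 := C.pow_index_mem x
  rw [hi] at h4 h2
  have hi1 : i ≤ 1 := by
    by_contra hcon
    push Not at hcon
    have : p ^ 2 ≤ p ^ i := Nat.pow_le_pow_right hp.pos hcon
    have : p < p ^ 2 := by
      have := hp.one_lt
      nlinarith
    omega
  interval_cases i
  · rw [pow_zero, pow_one] at h4
    exact C.pow_mem h4 p
  · rwa [pow_one] at h4

end Cfsg.Agent.H3
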