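import Cfsg.Agent.H3.OmegaQuot
import Cfsg.Agent.H3.SelfCentCyclic
import Cfsg.Agent.H3.Rank4
import Cfsg.Agent.H3.PGroup
import Mathlib

set_option autoImplicit false

namespace Cfsg.Agent.H3

universe u

/-- A strict inclusion of subgroups of a finite `p`-group multiplies the order by at least
`p`. -/
theorem card_mul_le_of_lt {G : Type*} [Group G] [Finite G] {p : ℕ} [Fact p.Prime]
    (hG : IsPGroup p G) {A B : Subgroup G} (h : A < B) : p * Nat.card A ≤ Nat.card B := by
  have hp : p.Prime := Fact.out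
  obtain ⟨a, ha⟩ := IsPGroup.iff_card.mp (hG.to_subgroup A)
  obtain ⟨b, hb⟩ := IsPGroup.iff_card.mp (hG.to_subgroup B)
  have hlt : Nat.card A < Nat.card B := by
    by_contra hcon
    push Not at hcon
    exact h.ne (Subgroup.eq_of_le_of_card_ge h.le hcon)
  rw [ha, hb] at hlt ⊢
  have := (Nat.pow_lt_pow_iff_right hp.one_lt).mp hlt
  rw [← pow_succ']
  exact Nat.pow_le_pow_right hp.pos this

/-- A finite group with cyclic Frattini quotient is cyclic. -/
theorem isCyclic_of_frattini_quotient {H : Type*} [Group H] [Finite H]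
    (h : IsCyclic (H ⧸ frattini H)) : IsCyclic H := by
  obtain ⟨q, hq⟩ := h.exists_generator
  obtain ⟨g, rfl⟩ := QuotientGroup.mk_surjective q
  have h1 : Subgroup.zpowers g ⊔ frattini H = ⊤ := by
    rw [eq_top_iff]
    intro x _
    obtain ⟨i, hi⟩ := Subgroup.mem_zpowers_iff.mp (hq (x : H ⧸ frattini H))
    have h2 : (g ^ i)⁻¹ * x ∈ frattini H := by
      apply QuotientGroup.eq.mp
      rw [QuotientGroup.mk_zpow]
      exact hi
    have : x = g ^ i * ((g ^ i)⁻¹ * x) := by group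
    rw [this]
    exact Subgroup.mul_mem _ (Subgroup.mem_sup_left (Subgroup.zpow_mem_zpowers g i))
      (Subgroup.mem_sup_right h2)
  have h3 := frattini_nongenerating h1
  exact ⟨⟨g, fun x => by
    have hx : x ∈ Subgroup.zpowers g := by rw [h3]; exact Subgroup.mem_top x
    exact Subgroup.mem_zpowers_iff.mp hx⟩⟩

/-- In a noncyclic finite `p`-group the Frattini subgroup has index at least `p ^ 2`. -/
theorem sq_mul_card_frattini_le {R : Type*} [Group R] [Finite R] {p : ℕ} [Fact p.Prime]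
    (hR : IsPGroup p R) (hnc : ¬ IsCyclic R) : p ^ 2 * Nat.card (frattini R) ≤ Nat.card R := by
  have hp : p.Prime := Fact.out
  obtain ⟨j, hj⟩ := IsPGroup.iff_card.mp (hR.to_quotient (frattini R))
  have h1 := Subgroup.card_eq_card_quotient_mul_card_subgroup (frattini R)
  rw [h1, hj]
  apply Nat.mul_le_mul_right
  apply Nat.pow_le_pow_right hp.pos
  by_contra hcon
  apply hnc
  apply isCyclic_of_frattini_quotient
  have hj' : j = 0 ∨ j = 1 := by omega
  rcases hj' with h | h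
  · rw [h, pow_zero] at hj
    haveI : Subsingleton (R ⧸ frattini R) := (Nat.card_eq_one_iff_unique.mp hj).1
    exact isCyclic_of_subsingleton
  · rw [h, pow_one] at hj
    exact isCyclic_of_prime_card hj

/-- For `p > 3`, a `p`-group with `|Ω₁| ≤ p ^ 2` has Frattini quotient of order at most
`p ^ 2`. -/
theorem card_frattini_quotient_le (p : ℕ) [Fact p.Prime] (hp : 3 < p) (R : Type u) [Group R]
    [Finite R] (hR : IsPGroup p R)
    (hO : Nat.card (Cfsg.omegaOne p (⊤ : Subgroup R)) ≤ p ^ 2) :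
    Nat.card (R ⧸ frattini R) ≤ p ^ 2 := by
  have h1 := omega_quotient p hp _ R hR hO (frattini R) rfl
  have h2 : Cfsg.omegaOne p (⊤ : Subgroup (R ⧸ frattini R)) = ⊤ := by
    rw [eq_top_iff]
    intro q _
    obtain ⟨g, rfl⟩ := QuotientGroup.mk_surjective q
    apply Subgroup.subset_closure
    refine ⟨Subgroup.mem_top _, ?_⟩
    rw [← QuotientGroup.mk_pow]
    exact (QuotientGroup.eq_one_iff _).mpr (pow_mem_frattini hR g)
  rw [h2, Subgroup.card_top] at h1
  exact h1

/-- The key contradiction: for `p > 3` there is no `p`-group `Q` with `Q' = Ω₁(Q)` elementary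
of order `p ^ 2` and `|Q / Φ(Q)| ≤ p ^ 2`. -/
theorem commutator_contra (p : ℕ) [Fact p.Prime] (hp : 3 < p) (Q : Type*) [Group Q] [Finite Q]
    (hQ : IsPGroup p Q) (h1 : Nat.card (commutator Q) = p ^ 2)
    (h2 : ∀ d ∈ commutator Q, d ^ p = 1) (h3 : ∀ x : Q, x ^ p = 1 → x ∈ commutator Q)
    (h4 : Nat.card (Q ⧸ frattini Q) ≤ p ^ 2) : False := by
  have hpp : p.Prime := Fact.out
  have hplt : p < p ^ 2 := by
    have := hpp.one_lt
    nlinarith
  have hDn : (commutator Q).Normal := inferInstance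
  have hcomm : ∀ x y : Q, y⁻¹ * x⁻¹ * y * x ∈ commutator Q :=
    fun x y => basic_rel_mem_commutator x y
  haveI : Group.IsNilpotent Q := hQ.isNilpotent
  have hDne : commutator Q ≠ ⊥ := by
    intro h
    rw [h, Subgroup.card_bot] at h1
    have := hpp.one_lt
    nlinarith
  obtain ⟨z0, hz0D, hz0c, hz01⟩ := normal_inf_center_ne_bot hQ (commutator Q) hDne
  have hz0p : z0 ^ p = 1 := h2 z0 hz0D
  have hz0o : orderOf z0 = p := orderOf_eq_prime hz0p hz01
  have hZ0card : Nat.card (Subgroup.zpowers z0) = p := by rw [Nat.card_zpowers, hz0o]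
  have hZ0c : Subgroup.zpowers z0 ≤ Subgroup.center Q := Subgroup.zpowers_le.mpr hz0c
  have hZ0D : Subgroup.zpowers z0 ≤ commutator Q := Subgroup.zpowers_le.mpr hz0D
  haveI hZ0n : (Subgroup.zpowers z0).Normal := by
    constructor
    intro x hx g
    have : g * x * g⁻¹ = x := by
      rw [Subgroup.mem_center_iff.mp (hZ0c hx) g, mul_inv_cancel_right]
    rw [this]; exact hx
  have hDZ0 : ¬ commutator Q ≤ Subgroup.zpowers z0 := by
    intro h
    have := Subgroup.card_le_of_le h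
    rw [h1, hZ0card] at this
    omega
  obtain ⟨w, hwD, hwZ0, hw⟩ := exists_central_mod ⊤ (Subgroup.zpowers z0) (commutator Q)
    (fun k _ n hn => hDn.conj_mem n hn k) hDZ0
  have hDeq : Subgroup.zpowers z0 ⊔ Subgroup.zpowers w = commutator Q := by
    apply Subgroup.eq_of_le_of_card_ge (sup_le hZ0D (Subgroup.zpowers_le.mpr hwD))
    have hlt : Subgroup.zpowers z0 < Subgroup.zpowers z0 ⊔ Subgroup.zpowers w := by
      refine lt_of_le_of_ne le_sup_left (fun h => hwZ0 ?_)
      rw [h]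
      exact Subgroup.mem_sup_right (Subgroup.mem_zpowers w)
    have := card_mul_le_of_lt hQ hlt
    rw [hZ0card] at this
    rw [h1, pow_two]
    exact this
  -- `[Q', Q] ≤ Z₀`
  have hDQ : ∀ d ∈ commutator Q, ∀ k : Q, k * d * k⁻¹ * d⁻¹ ∈ Subgroup.zpowers z0 := by
    intro d hd k
    rw [← hDeq] at hd
    obtain ⟨z, hz, v, hv, rfl⟩ := Subgroup.mem_sup_of_normal_left.mp hd
    obtain ⟨i, rfl⟩ := Subgroup.mem_zpowers_iff.mp hv
    obtain ⟨t, htZ, htw⟩ : ∃ t ∈ Subgroup.zpowers z0, k * w * k⁻¹ = t * w :=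
      ⟨k * w * k⁻¹ * w⁻¹, hw k (Subgroup.mem_top k), by group⟩
    have htc : Commute t w := (Subgroup.mem_center_iff.mp (hZ0c htZ) w).symm
    have e1 : k * w ^ i * k⁻¹ = t ^ i * w ^ i := by
      rw [← conj_zpow, htw, htc.mul_zpow]
    have hzk : k * z * k⁻¹ = z := by
      rw [Subgroup.mem_center_iff.mp (hZ0c hz) k, mul_inv_cancel_right]
    have e2 : k * (z * w ^ i) * k⁻¹ * (z * w ^ i)⁻¹ = z * t ^ i * z⁻¹ := by
      calc k * (z * w ^ i) * k⁻¹ * (z * w ^ i)⁻¹
          = (k * z * k⁻¹) * (k * w ^ i * k⁻¹) * (w ^ i)⁻¹ * z⁻¹ := by group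
        _ = z * (t ^ i * w ^ i) * (w ^ i)⁻¹ * z⁻¹ := by rw [hzk, e1]
        _ = z * t ^ i * z⁻¹ := by group
    rw [e2]
    exact Subgroup.mul_mem _ (Subgroup.mul_mem _ hz (Subgroup.zpow_mem _ htZ i))
      (Subgroup.inv_mem _ hz)
  have hK1 : ∀ d ∈ commutator Q, ∀ x : Q, d⁻¹ * x⁻¹ * d * x ∈ Subgroup.center Q := by
    intro d hd x
    have he := hZ0c (hDQ d hd x⁻¹)
    have : d⁻¹ * x⁻¹ * d * x = d⁻¹ * (x⁻¹ * d * x⁻¹⁻¹ * d⁻¹) * d⁻¹⁻¹ := by group
    rw [this]
    exact (inferInstance : (Subgroup.center Q).Normal).conj_mem _ he d⁻¹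
  -- the power map is an endomorphism
  have hmul : ∀ x y : Q, (x * y) ^ p = x ^ p * y ^ p := by
    intro x y
    have hz1 := hcomm x y
    exact mul_pow_class3_prime hpp hp (basic_rel x y) (basic_rel x _) (basic_rel y _)
      (hK1 _ hz1 x) (hK1 _ hz1 y) (h2 _ hz1) (h2 _ (hcomm x _)) (h2 _ (hcomm y _))
  let P : Q →* Q := { toFun := fun x => x ^ p, map_one' := one_pow p, map_mul' := hmul }
  have hker : P.ker = commutator Q := by
    ext x
    rw [MonoidHom.mem_ker]
    exact ⟨fun h => h3 x h, fun h => h2 x h⟩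
  have hrange_le : P.range ≤ frattini Q := by
    rintro _ ⟨x, rfl⟩
    exact pow_mem_frattini hQ x
  have hcardrange : Nat.card P.range * p ^ 2 = Nat.card Q := by
    have e := QuotientGroup.quotientKerEquivRange P
    have := Subgroup.card_eq_card_quotient_mul_card_subgroup P.ker
    rw [Nat.card_congr e.toEquiv, hker, h1] at this
    exact this.symm
  have hQnc : ¬ IsCyclic Q := by
    intro hcyc
    obtain ⟨g, hg⟩ := hcyc.exists_generator
    apply hDne
    rw [eq_bot_iff, commutator_def, Subgroup.commutator_le]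
    intro a _ b _
    obtain ⟨i, rfl⟩ := Subgroup.mem_zpowers_iff.mp (hg a)
    obtain ⟨j, rfl⟩ := Subgroup.mem_zpowers_iff.mp (hg b)
    rw [Subgroup.mem_bot, commutatorElement_def, ← zpow_add, ← zpow_neg, ← zpow_neg, ← zpow_add,
      ← zpow_add]
    have : i + j + -i + -j = 0 := by ring
    rw [this, zpow_zero]
  have hΦ : P.range = frattini Q := by
    apply Subgroup.eq_of_le_of_card_ge hrange_le
    have := sq_mul_card_frattini_le hQ hQnc
    rw [← hcardrange] at this
    have hpos : 0 < p ^ 2 := pow_pos hpp.pos 2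
    nlinarith
  have hpowc : ∀ y : Q, y ^ p ∈ Subgroup.center Q := by
    intro y
    rw [Subgroup.mem_center_iff]
    intro g
    have hgy : g * y * g⁻¹ * y⁻¹ ∈ commutator Q := by
      have := hcomm y⁻¹ g⁻¹
      simpa using this
    have e1 : (g * y * g⁻¹) ^ p = y ^ p := by
      have : g * y * g⁻¹ = (g * y * g⁻¹ * y⁻¹) * y := by group
      rw [this, hmul, h2 _ hgy, one_mul]
    rw [conj_pow] at e1
    calc g * y ^ p = g * y ^ p * g⁻¹ * g := by group
      _ = y ^ p * g := by rw [e1]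
  have hΦc : frattini Q ≤ Subgroup.center Q := by
    rw [← hΦ]
    rintro _ ⟨y, rfl⟩
    exact hpowc y
  have hDc : commutator Q ≤ Subgroup.center Q := (commutator_le_frattini hQ).trans hΦc
  -- two generators
  obtain ⟨a, ha⟩ : ∃ a : Q, a ∉ frattini Q := by
    by_contra hcon
    push Not at hcon
    have hΦtop : frattini Q = ⊤ := eq_top_iff.mpr (fun x _ => hcon x)
    have h5 : (⊥ : Subgroup Q) ⊔ frattini Q = ⊤ := by rw [hΦtop, bot_sup_eq]
    have h6 := frattini_nongenerating h5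
    apply hDne
    rw [eq_bot_iff, h6]
    exact le_top
  by_cases hb : ∃ b : Q, b ∉ Subgroup.zpowers a ⊔ frattini Q
  swap
  · push Not at hb
    have : Subgroup.zpowers a ⊔ frattini Q = ⊤ := eq_top_iff.mpr (fun x _ => hb x)
    have h6 := frattini_nongenerating this
    exact hQnc ⟨⟨a, fun x => by
      have hx : x ∈ Subgroup.zpowers a := by rw [h6]; exact Subgroup.mem_top x
      exact Subgroup.mem_zpowers_iff.mp hx⟩⟩
  obtain ⟨b, hb⟩ := hb
  have hgen : Subgroup.closure {a, b} = (⊤ : Subgroup Q) := by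
    apply frattini_nongenerating
    apply Subgroup.eq_top_of_le_card
    have hlt1 : frattini Q < Subgroup.zpowers a ⊔ frattini Q := by
      refine lt_of_le_of_ne le_sup_right (fun h => ha ?_)
      rw [h]
      exact Subgroup.mem_sup_left (Subgroup.mem_zpowers a)
    have hlt2 : Subgroup.zpowers a ⊔ frattini Q < Subgroup.closure {a, b} ⊔ frattini Q := by
      refine lt_of_le_of_ne (sup_le_sup_right
        (Subgroup.zpowers_le.mpr (Subgroup.subset_closure (by simp))) _) (fun h => hb ?_)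
      rw [h]
      exact Subgroup.mem_sup_left (Subgroup.subset_closure (by simp))
    have c1 := card_mul_le_of_lt hQ hlt1
    have c2 := card_mul_le_of_lt hQ hlt2
    have c3 := Subgroup.card_eq_card_quotient_mul_card_subgroup (frattini Q)
    calc Nat.card Q = Nat.card (Q ⧸ frattini Q) * Nat.card (frattini Q) := c3
      _ ≤ p ^ 2 * Nat.card (frattini Q) := Nat.mul_le_mul_right _ h4
      _ = p * (p * Nat.card (frattini Q)) := by ring
      _ ≤ p * Nat.card (Subgroup.zpowers a ⊔ frattini Q : Subgroup Q) :=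
        Nat.mul_le_mul_left _ c1
      _ ≤ _ := c2
  -- all commutators are powers of `c = b⁻¹ a⁻¹ b a`
  have hcD : b⁻¹ * a⁻¹ * b * a ∈ commutator Q := hcomm a b
  have hind : ∀ y : Q, a⁻¹ * y⁻¹ * a * y ∈ Subgroup.zpowers (b⁻¹ * a⁻¹ * b * a) →
      b⁻¹ * y⁻¹ * b * y ∈ Subgroup.zpowers (b⁻¹ * a⁻¹ * b * a) →
      ∀ g : Q, g⁻¹ * y⁻¹ * g * y ∈ Subgroup.zpowers (b⁻¹ * a⁻¹ * b * a) := by
    intro y hay hby g
    have hg : g ∈ Subgroup.closure {a, b} := by rw [hgen]; exact Subgroup.mem_top g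
    induction hg using Subgroup.closure_induction with
    | mem x hx =>
      rcases hx with rfl | hx
      · exact hay
      · rw [Set.mem_singleton_iff] at hx
        rw [hx]; exact hby
    | one => simp
    | mul g h _ _ ihg ihh =>
      have hcen := hDc (hcomm y g)
      have e2 : h⁻¹ * (g⁻¹ * y⁻¹ * g * y) * h = g⁻¹ * y⁻¹ * g * y := by
        rw [mul_assoc, ← Subgroup.mem_center_iff.mp hcen h]
        group
      have : (g * h)⁻¹ * y⁻¹ * (g * h) * y =
          h⁻¹ * (g⁻¹ * y⁻¹ * g * y) * h * (h⁻¹ * y⁻¹ * h * y) := by group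
      rw [this, e2]
      exact Subgroup.mul_mem _ ihg ihh
    | inv g _ ihg =>
      have hcen := hDc (hcomm y g)
      have e2 : g * (g⁻¹ * y⁻¹ * g * y)⁻¹ * g⁻¹ = (g⁻¹ * y⁻¹ * g * y)⁻¹ := by
        have h5 := Subgroup.mem_center_iff.mp (Subgroup.inv_mem _ hcen) g
        rw [h5, mul_inv_cancel_right]
      have : g⁻¹⁻¹ * y⁻¹ * g⁻¹ * y = g * (g⁻¹ * y⁻¹ * g * y)⁻¹ * g⁻¹ := by group
      rw [this, e2]
      exact Subgroup.inv_mem _ ihg
  have hswap : ∀ g y : Q, g⁻¹ * y⁻¹ * g * y = (y⁻¹ * g⁻¹ * y * g)⁻¹ := by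
    intro g y; group
  have hia : ∀ g : Q, g⁻¹ * a⁻¹ * g * a ∈ Subgroup.zpowers (b⁻¹ * a⁻¹ * b * a) := by
    apply hind a
    · have : a⁻¹ * a⁻¹ * a * a = 1 := by group
      rw [this]; exact Subgroup.one_mem _
    · exact Subgroup.mem_zpowers _
  have hib : ∀ g : Q, g⁻¹ * b⁻¹ * g * b ∈ Subgroup.zpowers (b⁻¹ * a⁻¹ * b * a) := by
    apply hind b
    · rw [hswap a b]; exact Subgroup.inv_mem _ (Subgroup.mem_zpowers _)
    · have : b⁻¹ * b⁻¹ * b * b = 1 := by group
      rw [this]; exact Subgroup.one_mem _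
  have hall : ∀ g y : Q, g⁻¹ * y⁻¹ * g * y ∈ Subgroup.zpowers (b⁻¹ * a⁻¹ * b * a) := by
    intro g y
    apply hind y
    · rw [hswap a y]; exact Subgroup.inv_mem _ (hia y)
    · rw [hswap b y]; exact Subgroup.inv_mem _ (hib y)
  have hle : commutator Q ≤ Subgroup.zpowers (b⁻¹ * a⁻¹ * b * a) := by
    rw [commutator_def, Subgroup.commutator_le]
    intro g₁ _ g₂ _
    have := hall g₁⁻¹ g₂⁻¹
    rw [commutatorElement_def]
    simpa using this
  have hcard := Subgroup.card_le_of_le hle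
  rw [h1, Nat.card_zpowers] at hcard
  have ho : orderOf (b⁻¹ * a⁻¹ * b * a) ≤ p :=
    Nat.le_of_dvd hpp.pos (orderOf_dvd_of_pow_eq_one (h2 _ hcD))
  omega

end Cfsg.Agent.H3
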