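import Cfsg.Agent.H3.OmegaExp
import Cfsg.Agent.H3.RankTwoAut
import Cfsg.Prelude.Def_PLocal
import Mathlib

set_option autoImplicit false

namespace Cfsg.Agent.H3

universe u

/-- Counting by fibres: if the fibres of `f : E → T` lie in cosets of `K`, then
`|E| ≤ |T| |K ∩ E|`. -/
theorem card_le_mul_of_fiber {G : Type*} [Group G] [Finite G] (E K : Subgroup G) {T : Type*}
    [Finite T] (f : E → T) (hf : ∀ x y : E, f x = f y → (x : G)⁻¹ * y ∈ K) :
    Nat.card E ≤ Nat.card T * Nat.card (K ⊓ E : Subgroup G) := by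
  set K₀ : Subgroup G := K ⊓ E with hK₀
  have h1 : K₀.relIndex E * Nat.card K₀ = Nat.card E := relIndex_mul_card_of_le inf_le_right
  have h2 : K₀.relIndex E ≤ Nat.card T := by
    show Nat.card (E ⧸ K₀.subgroupOf E) ≤ Nat.card T
    apply Nat.card_le_card_of_injective (fun q : E ⧸ K₀.subgroupOf E => f q.out)
    intro q₁ q₂ hq
    have h3 := hf _ _ hq
    have hmem : q₁.out⁻¹ * q₂.out ∈ K₀.subgroupOf E := by
      rw [Subgroup.mem_subgroupOf]
      push_cast
      exact Subgroup.mem_inf.mpr ⟨h3, E.mul_mem (E.inv_mem q₁.out.2) q₂.out.2⟩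
    have := QuotientGroup.eq.mpr hmem
    rw [QuotientGroup.out_eq', QuotientGroup.out_eq'] at this
    exact this
  calc Nat.card E = K₀.relIndex E * Nat.card K₀ := h1.symm
    _ ≤ Nat.card T * Nat.card K₀ := Nat.mul_le_mul_right _ h2

/-- In a group of order `p ^ 3` all commutators are central. -/
theorem comm_mem_center_of_card_cube {Q : Type*} [Group Q] [Finite Q] {p : ℕ} [Fact p.Prime]
    (hcard : Nat.card Q = p ^ 3) (a b : Q) : b⁻¹ * a⁻¹ * b * a ∈ Subgroup.center Q := by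
  have hp : p.Prime := Fact.out
  have hQ : IsPGroup p Q := IsPGroup.of_card hcard
  haveI : Nontrivial Q := by
    apply (Finite.one_lt_card_iff_nontrivial).mp
    rw [hcard]
    exact Nat.one_lt_pow (by norm_num) hp.one_lt
  haveI hZnt : Nontrivial (Subgroup.center Q) := hQ.center_nontrivial
  obtain ⟨j, hj⟩ := IsPGroup.iff_card.mp (hQ.to_subgroup (Subgroup.center Q))
  have hj1 : 1 ≤ j := by
    by_contra h
    have h0 : j = 0 := by omega
    rw [h0, pow_zero] at hj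
    have := (Finite.one_lt_card_iff_nontrivial).mpr hZnt
    omega
  have hquot : Nat.card (Q ⧸ Subgroup.center Q) * p ^ j = p ^ 3 := by
    rw [← hj, ← hcard]
    exact (Subgroup.card_eq_card_quotient_mul_card_subgroup _).symm
  have hcomm : ∀ x y : Q ⧸ Subgroup.center Q, x * y = y * x := by
    have hj3 : j ≤ 3 := by
      by_contra h
      push Not at h
      have h1 : p ^ 3 < p ^ j := Nat.pow_lt_pow_right hp.one_lt h
      have h2 : 0 < Nat.card (Q ⧸ Subgroup.center Q) := Nat.card_pos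
      nlinarith
    have hc : Nat.card (Q ⧸ Subgroup.center Q) = p ^ (3 - j) := by
      have : p ^ 3 = p ^ (3 - j) * p ^ j := by
        rw [← pow_add]; congr 1; omega
      rw [this] at hquot
      exact Nat.eq_of_mul_eq_mul_right (pow_pos hp.pos j) hquot
    have h3j : 3 - j = 0 ∨ 3 - j = 1 ∨ 3 - j = 2 := by omega
    rcases h3j with h | h | h
    · rw [h, pow_zero] at hc
      haveI : Subsingleton (Q ⧸ Subgroup.center Q) := (Nat.card_eq_one_iff_unique.mp hc).1
      intro x y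
      exact Subsingleton.elim _ _
    · rw [h, pow_one] at hc
      haveI := isCyclic_of_prime_card hc
      intro x y
      obtain ⟨g, hg⟩ := IsCyclic.exists_generator (α := Q ⧸ Subgroup.center Q)
      obtain ⟨i, rfl⟩ := Subgroup.mem_zpowers_iff.mp (hg x)
      obtain ⟨k, rfl⟩ := Subgroup.mem_zpowers_iff.mp (hg y)
      rw [← zpow_add, ← zpow_add, add_comm]
    · rw [h] at hc
      exact fun x y => (IsPGroup.isMulCommutative_of_card_eq_prime_sq hc).is_comm.comm x y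
  have h := hcomm (QuotientGroup.mk a) (QuotientGroup.mk b)
  have h' : ((b⁻¹ * a⁻¹ * b * a : Q) : Q ⧸ Subgroup.center Q) = 1 := by
    rw [QuotientGroup.mk_mul, QuotientGroup.mk_mul, QuotientGroup.mk_mul, QuotientGroup.mk_inv,
      QuotientGroup.mk_inv]
    calc ((b : Q ⧸ Subgroup.center Q))⁻¹ * (a : Q ⧸ Subgroup.center Q)⁻¹ * b * a
        = (b : Q ⧸ Subgroup.center Q)⁻¹ * (a : Q ⧸ Subgroup.center Q)⁻¹ *
          ((b : Q ⧸ Subgroup.center Q) * a) := by group
      _ = (b : Q ⧸ Subgroup.center Q)⁻¹ * (a : Q ⧸ Subgroup.center Q)⁻¹ *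
          ((a : Q ⧸ Subgroup.center Q) * b) := by rw [h]
      _ = 1 := by group
  exact (QuotientGroup.eq_one_iff _).mp h'

/-- The central step: the bound on `Ω₁` passes to the quotient by a central subgroup of
order `p`. -/
theorem omega_quotient_central (p : ℕ) [Fact p.Prime] (hp : 3 < p) (R : Type u) [Group R]
    [Finite R] (hR : IsPGroup p R)
    (hO : Nat.card (Cfsg.omegaOne p (⊤ : Subgroup R)) ≤ p ^ 2)
    (T : Subgroup R) [T.Normal] (hTc : T ≤ Subgroup.center R) (hTcard : Nat.card T = p) :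
    Nat.card (Cfsg.omegaOne p (⊤ : Subgroup (R ⧸ T))) ≤ p ^ 2 := by
  have hpp : p.Prime := Fact.out
  have hp2 : p ≠ 2 := by omega
  set W := Cfsg.omegaOne p (⊤ : Subgroup R) with hW
  have hWmem : ∀ x : R, x ^ p = 1 → x ∈ W :=
    fun x hx => Subgroup.subset_closure ⟨Subgroup.mem_top x, hx⟩
  have hTexp : ∀ t ∈ T, t ^ p = 1 := by
    intro t ht
    rw [← hTcard]
    exact orderOf_dvd_iff_pow_eq_one.mp (Subgroup.orderOf_dvd_natCard T ht)
  have hd2 : p ∣ p.choose 2 := hpp.dvd_choose_self (by norm_num) (by omega)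
  have hfiber : ∀ E : Subgroup R, (∀ x ∈ E, x ^ p ∈ T) →
      (∀ x ∈ E, ∀ y ∈ E, (x * y) ^ p = x ^ p * y ^ p) → Nat.card E ≤ p ^ 3 := by
    intro E hET hEmul
    have h1 := card_le_mul_of_fiber E W (T := T) (fun x => ⟨(x : R) ^ p, hET x x.2⟩) (by
      intro x y hxy
      have hxy' : (x : R) ^ p = (y : R) ^ p := congrArg Subtype.val hxy
      apply hWmem
      rw [hEmul _ (E.inv_mem x.2) _ y.2, inv_pow, hxy', inv_mul_cancel])
    have h2 : Nat.card (W ⊓ E : Subgroup R) ≤ p ^ 2 :=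
      (Subgroup.card_le_of_le inf_le_left).trans hO
    calc Nat.card E ≤ Nat.card T * Nat.card (W ⊓ E : Subgroup R) := h1
      _ ≤ p * p ^ 2 := by rw [hTcard]; exact Nat.mul_le_mul_left _ h2
      _ = p ^ 3 := by ring
  have hker : ∀ x : R, (x : R ⧸ T) = 1 ↔ x ∈ T := fun x => QuotientGroup.eq_one_iff x
  have hcommT : ∀ u v : R, (u : R ⧸ T) * (v : R ⧸ T) = (v : R ⧸ T) * (u : R ⧸ T) →
      v⁻¹ * u⁻¹ * v * u ∈ T := by
    intro u v h'
    rw [← hker, QuotientGroup.mk_mul, QuotientGroup.mk_mul, QuotientGroup.mk_mul,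
      QuotientGroup.mk_inv, QuotientGroup.mk_inv]
    calc ((v : R ⧸ T))⁻¹ * (u : R ⧸ T)⁻¹ * v * u
        = (v : R ⧸ T)⁻¹ * (u : R ⧸ T)⁻¹ * ((v : R ⧸ T) * u) := by group
      _ = (v : R ⧸ T)⁻¹ * (u : R ⧸ T)⁻¹ * ((u : R ⧸ T) * v) := by rw [h']
      _ = 1 := by group
  -- the quotient has rank at most two
  have hrank : ∀ A : Subgroup (R ⧸ T), (∀ a ∈ A, ∀ b ∈ A, a * b = b * a) →
      (∀ a ∈ A, a ^ p = 1) → Nat.card A ≤ p ^ 2 := by
    intro A hAc hAe
    have hcardE : Nat.card (A.comap (QuotientGroup.mk' T)) = Nat.card T * Nat.card A :=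
      card_comap_mk' T A
    have hET : ∀ x ∈ A.comap (QuotientGroup.mk' T), x ^ p ∈ T := by
      intro x hx
      rw [← hker, QuotientGroup.mk_pow]
      exact hAe _ hx
    have hEmul : ∀ x ∈ A.comap (QuotientGroup.mk' T), ∀ y ∈ A.comap (QuotientGroup.mk' T),
        (x * y) ^ p = x ^ p * y ^ p := by
      intro x hx y hy
      have ht : y⁻¹ * x⁻¹ * y * x ∈ T := hcommT x y (hAc _ hx _ hy)
      have h3 := mul_pow_of_rel (basic_rel x y) (hTc ht) p
      obtain ⟨c, hc⟩ := hd2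
      rw [h3, hc, pow_mul, hTexp _ ht, one_pow, mul_one]
    have h1 := hfiber _ hET hEmul
    rw [hcardE, hTcard] at h1
    have : p * Nat.card A ≤ p * p ^ 2 := by
      rw [← pow_succ']; exact h1
    exact Nat.le_of_mul_le_mul_left this hpp.pos
  set Ω := Cfsg.omegaOne p (⊤ : Subgroup (R ⧸ T)) with hΩ
  have hR' : IsPGroup p (R ⧸ T) := hR.to_quotient T
  have hΩexp : ∀ g ∈ Ω, g ^ p = 1 := by
    intro g hg
    rw [hΩ, Cfsg.omegaOne] at hg
    induction hg using Subgroup.closure_induction with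
    | mem x hx => exact hx.2
    | one => exact one_pow p
    | mul a b _ _ iha ihb =>
      exact mul_pow_eq_one_of_rank_two p hp (Nat.card (R ⧸ T)) (R ⧸ T) rfl hR' hrank a b iha ihb
    | inv a _ iha => rw [inv_pow, iha, inv_one]
  have hΩp : IsPGroup p Ω := hR'.to_subgroup Ω
  have hΩcard : Nat.card Ω ≤ p ^ 3 := by
    apply card_le_cube_of_exponent_of_rank_two hΩp
    intro A hA
    have h1 := hrank (A.map Ω.subtype) (by
      rintro _ ⟨a, ha, rfl⟩ _ ⟨b, hb, rfl⟩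
      have := hA a ha b hb
      rw [← map_mul, ← map_mul, this]) (by
      rintro _ ⟨a, ha, rfl⟩
      exact hΩexp _ a.2)
    rwa [Subgroup.card_subtype] at h1
  by_contra hcon
  push Not at hcon
  obtain ⟨k, hk⟩ := IsPGroup.iff_card.mp hΩp
  have hk3 : k = 3 := by
    rw [hk] at hcon hΩcard
    have h1 := (Nat.pow_lt_pow_iff_right hpp.one_lt).mp hcon
    have h2 := (Nat.pow_le_pow_iff_right hpp.one_lt).mp hΩcard
    omega
  rw [hk3] at hk
  have hcardE : Nat.card (Ω.comap (QuotientGroup.mk' T)) = Nat.card T * Nat.card Ω :=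
    card_comap_mk' T Ω
  have hET : ∀ x ∈ Ω.comap (QuotientGroup.mk' T), x ^ p ∈ T := by
    intro x hx
    rw [← hker, QuotientGroup.mk_pow]
    exact hΩexp _ hx
  have hcen : ∀ a ∈ Ω, ∀ b ∈ Ω, ∀ c ∈ Ω,
      (b⁻¹ * a⁻¹ * b * a) * c = c * (b⁻¹ * a⁻¹ * b * a) := by
    intro a ha b hb c hc
    have h1 := comm_mem_center_of_card_cube hk (⟨a, ha⟩ : Ω) ⟨b, hb⟩
    have h2 := Subgroup.mem_center_iff.mp h1 ⟨c, hc⟩
    have h3 := congrArg Subtype.val h2
    push_cast at h3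
    exact h3.symm
  have hEmul : ∀ x ∈ Ω.comap (QuotientGroup.mk' T), ∀ y ∈ Ω.comap (QuotientGroup.mk' T),
      (x * y) ^ p = x ^ p * y ^ p := by
    intro x hx y hy
    have hx' : (x : R ⧸ T) ∈ Ω := hx
    have hy' : (y : R ⧸ T) ∈ Ω := hy
    have hz₁img : ((y⁻¹ * x⁻¹ * y * x : R) : R ⧸ T) =
        (y : R ⧸ T)⁻¹ * (x : R ⧸ T)⁻¹ * y * x := by
      simp only [QuotientGroup.mk_mul, QuotientGroup.mk_inv]
    have hzx : ((y⁻¹ * x⁻¹ * y * x : R) : R ⧸ T) * (x : R ⧸ T) =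
        (x : R ⧸ T) * ((y⁻¹ * x⁻¹ * y * x : R) : R ⧸ T) := by
      rw [hz₁img]; exact hcen _ hx' _ hy' _ hx'
    have hzy : ((y⁻¹ * x⁻¹ * y * x : R) : R ⧸ T) * (y : R ⧸ T) =
        (y : R ⧸ T) * ((y⁻¹ * x⁻¹ * y * x : R) : R ⧸ T) := by
      rw [hz₁img]; exact hcen _ hx' _ hy' _ hy'
    have hz2 : (y⁻¹ * x⁻¹ * y * x)⁻¹ * x⁻¹ * (y⁻¹ * x⁻¹ * y * x) * x ∈ T :=
      hcommT x _ hzx.symm
    have hz3 : (y⁻¹ * x⁻¹ * y * x)⁻¹ * y⁻¹ * (y⁻¹ * x⁻¹ * y * x) * y ∈ T :=
      hcommT y _ hzy.symm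
    have hz1p : (y⁻¹ * x⁻¹ * y * x) ^ p = 1 := by
      have huimg : ((y⁻¹ * x⁻¹ * y : R) : R ⧸ T) =
          ((y⁻¹ * x⁻¹ * y * x : R) : R ⧸ T) * (x : R ⧸ T)⁻¹ := by
        simp only [QuotientGroup.mk_mul, QuotientGroup.mk_inv]
        group
      have hux : ((y⁻¹ * x⁻¹ * y : R) : R ⧸ T) * (x : R ⧸ T) =
          (x : R ⧸ T) * ((y⁻¹ * x⁻¹ * y : R) : R ⧸ T) := by
        rw [huimg]
        calc ((y⁻¹ * x⁻¹ * y * x : R) : R ⧸ T) * (x : R ⧸ T)⁻¹ * x
            = x * ((x : R ⧸ T)⁻¹ * (((y⁻¹ * x⁻¹ * y * x : R) : R ⧸ T) * x)) *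
              (x : R ⧸ T)⁻¹ := by group
          _ = x * ((x : R ⧸ T)⁻¹ * ((x : R ⧸ T) * ((y⁻¹ * x⁻¹ * y * x : R) : R ⧸ T))) *
              (x : R ⧸ T)⁻¹ := by rw [hzx]
          _ = x * (((y⁻¹ * x⁻¹ * y * x : R) : R ⧸ T) * (x : R ⧸ T)⁻¹) := by group
      have ht : x⁻¹ * (y⁻¹ * x⁻¹ * y)⁻¹ * x * (y⁻¹ * x⁻¹ * y) ∈ T := hcommT _ x hux
      have h3 := mul_pow_of_rel (basic_rel (y⁻¹ * x⁻¹ * y) x) (hTc ht) p
      obtain ⟨c, hc⟩ := hd2
      rw [hc, pow_mul, hTexp _ ht, one_pow, mul_one] at h3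
      have hup : (y⁻¹ * x⁻¹ * y) ^ p = y⁻¹ * (x ^ p)⁻¹ * y := by
        have := conj_pow (a := y⁻¹) (b := x⁻¹) (i := p)
        simpa using this
      have hxpc : x ^ p ∈ Subgroup.center R := hTc (hET x hx)
      rw [h3, hup]
      have h5 := Subgroup.mem_center_iff.mp hxpc y
      calc y⁻¹ * (x ^ p)⁻¹ * y * x ^ p = y⁻¹ * (x ^ p)⁻¹ * (y * x ^ p) := by group
        _ = y⁻¹ * (x ^ p)⁻¹ * (x ^ p * y) := by rw [h5]
        _ = 1 := by group
    exact mul_pow_class3_prime hpp hp (basic_rel x y) (basic_rel x _) (basic_rel y _)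
      (hTc hz2) (hTc hz3) hz1p (hTexp _ hz2) (hTexp _ hz3)
  have h1 := hfiber _ hET hEmul
  rw [hcardE, hTcard, hk] at h1
  have h2 : p ^ 3 < p * p ^ 3 := by
    have := hpp.one_lt
    have := pow_pos hpp.pos 3
    nlinarith
  omega

/-- `|Ω₁|` is invariant under isomorphism. -/
theorem card_omegaOne_congr {A B : Type*} [Group A] [Group B] (p : ℕ) (e : A ≃* B) :
    Nat.card (Cfsg.omegaOne p (⊤ : Subgroup A)) = Nat.card (Cfsg.omegaOne p (⊤ : Subgroup B)) := by
  have h : (Cfsg.omegaOne p (⊤ : Subgroup A)).map e.toMonoidHom =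
      Cfsg.omegaOne p (⊤ : Subgroup B) := by
    unfold Cfsg.omegaOne
    rw [MonoidHom.map_closure]
    congr 1
    ext y
    constructor
    · rintro ⟨x, ⟨-, hx⟩, rfl⟩
      exact ⟨Subgroup.mem_top _, by
        show (e x) ^ p = 1
        rw [← map_pow, hx, map_one]⟩
    · rintro ⟨-, hy⟩
      exact ⟨e.symm y, ⟨Subgroup.mem_top _, by rw [← map_pow, hy, map_one]⟩, by simp⟩
  rw [← h, Subgroup.card_map_of_injective e.injective]

/-- For `p > 3`, the bound `|Ω₁(R)| ≤ p ^ 2` passes to all quotients. -/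
theorem omega_quotient (p : ℕ) [Fact p.Prime] (hp : 3 < p) :
    ∀ (n : ℕ) (R : Type u) [Group R] [Finite R], IsPGroup p R →
      Nat.card (Cfsg.omegaOne p (⊤ : Subgroup R)) ≤ p ^ 2 →
      ∀ (T : Subgroup R) [T.Normal], Nat.card T = n →
        Nat.card (Cfsg.omegaOne p (⊤ : Subgroup (R ⧸ T))) ≤ p ^ 2 := by
  have hpp : p.Prime := Fact.out
  intro n
  induction n using Nat.strong_induction_on with
  | _ n ih =>
    intro R _ _ hR hO T _ hn
    by_cases hT : T = ⊥
    · subst hT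
      rw [card_omegaOne_congr p (QuotientGroup.quotientBot (G := R))]
      exact hO
    · obtain ⟨z, hzT, hzω, hz1⟩ := normal_exists_central_order_p hR T hT
      obtain ⟨hzc, hzp⟩ := mem_omegaCenter.mp hzω
      haveI hT0n : (Subgroup.zpowers z).Normal := by
        constructor
        intro x hx g
        have hxc : x ∈ Subgroup.center R := (Subgroup.zpowers_le.mpr hzc) hx
        have : g * x * g⁻¹ = x := by
          rw [Subgroup.mem_center_iff.mp hxc g, mul_inv_cancel_right]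
        rw [this]; exact hx
      have hT0c : Subgroup.zpowers z ≤ Subgroup.center R := Subgroup.zpowers_le.mpr hzc
      have hT0card : Nat.card (Subgroup.zpowers z) = p := by
        rw [Nat.card_zpowers, orderOf_eq_prime hzp hz1]
      have hT0T : Subgroup.zpowers z ≤ T := Subgroup.zpowers_le.mpr hzT
      have h1 := omega_quotient_central p hp R hR hO (Subgroup.zpowers z) hT0c hT0card
      haveI : (T.map (QuotientGroup.mk' (Subgroup.zpowers z))).Normal :=
        Subgroup.Normal.map inferInstance _ (QuotientGroup.mk'_surjective _)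
      have hcard1 : Nat.card (Subgroup.zpowers z) *
          Nat.card (T.map (QuotientGroup.mk' (Subgroup.zpowers z))) = Nat.card T := by
        rw [← card_comap_mk' (Subgroup.zpowers z) (T.map (QuotientGroup.mk' (Subgroup.zpowers z))),
          Subgroup.comap_map_eq, QuotientGroup.ker_mk', sup_eq_left.mpr hT0T]
      have hlt : Nat.card (T.map (QuotientGroup.mk' (Subgroup.zpowers z))) < n := by
        rw [← hn, ← hcard1, hT0card]
        have h0 : 0 < Nat.card (T.map (QuotientGroup.mk' (Subgroup.zpowers z))) := Nat.card_pos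
        have := hpp.one_lt
        nlinarith
      have h2 := ih _ hlt (R ⧸ Subgroup.zpowers z) (hR.to_quotient _) h1
        (T.map (QuotientGroup.mk' (Subgroup.zpowers z))) rfl
      rw [← card_omegaOne_congr p
        (QuotientGroup.quotientQuotientEquivQuotient (Subgroup.zpowers z) T hT0T)]
      exact h2

end Cfsg.Agent.H3
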