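import Mathlib
import Cfsg.Agent.H7.PsDefs

/-!
# S3664 team project (helper7): piece PS-TW13 (helper3)

Over a field `F` with 8 elements: if `g ∈ Mat₄(F)` has `g ^ 13 = 1` and fixes no non-zero vector,
then `g X = X g⁽²⁾` forces `X = 0`.

`Θ v := X *ᵥ v⁽²⁾` is additive and commutes with `g`.  Every non-zero `g`-invariant additive
subgroup of `F⁴` is everything (`|W| = 2^e ≡ 1 mod 13`), so `F⁴ = R·v₀` for the commutative ring
`R = ℤ[g]`; hence `Θ = P *ᵥ ·` for some `P ∈ R`, `Θ` is `F`-linear, and `(c² - c)Θ = 0`.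
-/

set_option autoImplicit false

namespace Cfsg.Agent.H3.Ps

open Matrix Cfsg.Agent.H7.Ps

/-- A non-zero `g`-invariant additive subgroup of `F⁴` is everything. -/
theorem tw13_inv {F : Type} [Field F] [Fintype F] (hF : Fintype.card F = 8)
    (g : Matrix (Fin 4) (Fin 4) F) (hg : g ^ 13 = 1)
    (hfix : ∀ v : Fin 4 → F, g.mulVec v = v → v = 0)
    (W : AddSubgroup (Fin 4 → F)) (hW : ∀ w ∈ W, g.mulVec w ∈ W) (hne : W ≠ ⊥) : W = ⊤ := by
  classical
  obtain ⟨f, hf⟩ : ∃ f : Function.End W,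
      ∀ w : W, ((f w : W) : Fin 4 → F) = g.mulVec (w : Fin 4 → F) :=
    ⟨fun w => ⟨g.mulVec w, hW w w.2⟩, fun w => rfl⟩
  have hfpow : ∀ n : ℕ, ∀ w : W,
      (((f ^ n) w : W) : Fin 4 → F) = (g ^ n).mulVec (w : Fin 4 → F) := by
    intro n
    induction n with
    | zero =>
      intro w
      rw [pow_zero, pow_zero, Matrix.one_mulVec]
      rfl
    | succ n ih =>
      intro w
      rw [pow_succ']
      show ((f ((f ^ n) w) : W) : Fin 4 → F) = _
      rw [hf, ih, Matrix.mulVec_mulVec, ← pow_succ']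
  have hf13 : f ^ 13 ^ 1 = 1 := by
    rw [pow_one]
    funext w
    apply Subtype.ext
    rw [hfpow, hg, Matrix.one_mulVec]
    rfl
  haveI : Fact (Nat.Prime 13) := ⟨by norm_num⟩
  have hmod := Equiv.Perm.card_fixedPoints_modEq (f := f) (p := 13) (n := 1) hf13
  rw [Fintype.card_eq_nat_card, Fintype.card_eq_nat_card] at hmod
  have hfixcard : Nat.card (Function.fixedPoints f) = 1 := by
    rw [Nat.card_eq_one_iff_exists]
    refine ⟨⟨0, ?_⟩, ?_⟩
    · show f 0 = 0
      apply Subtype.ext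
      rw [hf]
      show g.mulVec (0 : Fin 4 → F) = 0
      exact Matrix.mulVec_zero g
    · rintro ⟨w, hw⟩
      apply Subtype.ext
      show w = 0
      apply Subtype.ext
      show (w : Fin 4 → F) = 0
      apply hfix
      have h := congrArg Subtype.val (show f w = w from hw)
      rwa [hf] at h
  have hV : Nat.card (Fin 4 → F) = 2 ^ 12 := by
    have h : Fintype.card (Fin 4 → F) = 8 ^ 4 := by
      rw [Fintype.card_fun, hF, Fintype.card_fin]
    calc Nat.card (Fin 4 → F) = Fintype.card (Fin 4 → F) := Nat.card_eq_fintype_card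
      _ = 8 ^ 4 := h
      _ = 2 ^ 12 := by norm_num
  have hdvd : Nat.card W ∣ 2 ^ 12 := hV ▸ AddSubgroup.card_addSubgroup_dvd_card W
  obtain ⟨e, he, hWe⟩ := (Nat.dvd_prime_pow Nat.prime_two).mp hdvd
  rw [hWe, hfixcard] at hmod
  have h1 : 2 ^ e % 13 = 1 := hmod
  have he' : e = 0 ∨ e = 12 := by
    interval_cases e <;>
      first
      | exact Or.inl rfl
      | exact Or.inr rfl
      | (exfalso; norm_num at h1)
  rcases he' with rfl | rfl
  · exact absurd (AddSubgroup.eq_bot_of_card_eq W (by rw [hWe, pow_zero])) hne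
  · exact AddSubgroup.eq_top_of_card_eq W (by rw [hWe, hV])

/-- **PS-TW13**. -/
theorem tw13 : StTw13 := by
  intro F _ _ hF g hg hfix X hX
  classical
  have h8 : (8 : F) = 0 := by
    have h := Nat.cast_card_eq_zero F
    rw [hF] at h
    exact_mod_cast h
  have h2 : (2 : F) = 0 := by
    have h : (2 : F) ^ 3 = 0 := by
      rw [← h8]; norm_num
    exact (pow_eq_zero_iff (by norm_num)).mp h
  have sq_add : ∀ a b : F, (a + b) ^ 2 = a ^ 2 + b ^ 2 := fun a b => by
    rw [add_sq, h2]; ring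
  have sq_sum : ∀ (s : Finset (Fin 4)) (φ : Fin 4 → F),
      (∑ j ∈ s, φ j) ^ 2 = ∑ j ∈ s, φ j ^ 2 := by
    intro s φ
    induction s using Finset.induction_on with
    | empty => simp
    | insert a s ha ih => rw [Finset.sum_insert ha, Finset.sum_insert ha, sq_add, ih]
  obtain ⟨Θ, hΘ⟩ : ∃ Θ : (Fin 4 → F) → (Fin 4 → F),
      ∀ v, Θ v = X.mulVec (fun i => v i ^ 2) := ⟨_, fun v => rfl⟩
  have hΘadd : ∀ v w, Θ (v + w) = Θ v + Θ w := by
    intro v w
    rw [hΘ, hΘ, hΘ, ← Matrix.mulVec_add]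
    congr 1
    funext i
    exact sq_add (v i) (w i)
  have hΘzero : Θ 0 = 0 := by
    rw [hΘ]
    have h : (fun i : Fin 4 => ((0 : Fin 4 → F) i) ^ 2) = 0 := by
      funext i; simp
    rw [h, Matrix.mulVec_zero]
  have hΘneg : ∀ v, Θ (-v) = -Θ v := by
    intro v
    apply eq_neg_of_add_eq_zero_left
    rw [← hΘadd, neg_add_cancel, hΘzero]
  have hΘg : ∀ v, Θ (g.mulVec v) = g.mulVec (Θ v) := by
    intro v
    rw [hΘ, hΘ, Matrix.mulVec_mulVec, hX, ← Matrix.mulVec_mulVec]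
    congr 1
    funext i
    simp only [Matrix.mulVec, dotProduct, Matrix.map_apply]
    rw [sq_sum]
    exact Finset.sum_congr rfl (fun j _ => mul_pow _ _ _)
  have hΘc : ∀ (c : F) (v : Fin 4 → F), Θ (c • v) = c ^ 2 • Θ v := by
    intro c v
    rw [hΘ, hΘ, ← Matrix.mulVec_smul]
    congr 1
    funext i
    simp [mul_pow]
  -- the commutative ring generated by `g`
  obtain ⟨R, hR⟩ : ∃ R : Subring (Matrix (Fin 4) (Fin 4) F), R = Subring.closure {g} :=
    ⟨_, rfl⟩
  have hgR : g ∈ R := hR ▸ Subring.subset_closure (Set.mem_singleton g)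
  have hRcomm : ∀ P ∈ R, ∀ Q ∈ R, P * Q = Q * P := by
    subst hR
    have hc : ∀ x ∈ ({g} : Set (Matrix (Fin 4) (Fin 4) F)),
        ∀ y ∈ ({g} : Set (Matrix (Fin 4) (Fin 4) F)), x * y = y * x := by
      intro x hx y hy
      rw [Set.mem_singleton_iff] at hx hy
      rw [hx, hy]
    have hcomm := Subring.isMulCommutative_closure hc
    intro P hP Q hQ
    exact congrArg Subtype.val (hcomm.is_comm.comm ⟨P, hP⟩ ⟨Q, hQ⟩)
  have hΘR : ∀ P ∈ R, ∀ v, Θ (P.mulVec v) = P.mulVec (Θ v) := by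
    intro P hP
    rw [hR] at hP
    induction hP using Subring.closure_induction with
    | mem x hx =>
      rw [Set.mem_singleton_iff] at hx
      rw [hx]
      exact hΘg
    | zero => intro v; rw [Matrix.zero_mulVec, Matrix.zero_mulVec, hΘzero]
    | one => intro v; rw [Matrix.one_mulVec, Matrix.one_mulVec]
    | add x y hx hy ihx ihy =>
      intro v; rw [Matrix.add_mulVec, Matrix.add_mulVec, hΘadd, ihx, ihy]
    | neg x hx ih => intro v; rw [Matrix.neg_mulVec, Matrix.neg_mulVec, hΘneg, ih]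
    | mul x y hx hy ihx ihy =>
      intro v; rw [← Matrix.mulVec_mulVec, ← Matrix.mulVec_mulVec, ihx, ihy]
  obtain ⟨v0, hv0⟩ : ∃ v0 : Fin 4 → F, v0 ≠ 0 := by
    refine ⟨Pi.single 0 1, ?_⟩
    intro h
    have h' := congrFun h 0
    simp at h'
  obtain ⟨W, hWmem⟩ : ∃ W : AddSubgroup (Fin 4 → F),
      ∀ w, w ∈ W ↔ ∃ P ∈ R, w = P.mulVec v0 :=
    ⟨{ carrier := {w | ∃ P ∈ R, w = P.mulVec v0}
       zero_mem' := ⟨0, R.zero_mem, by rw [Matrix.zero_mulVec]⟩
       add_mem' := by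
         rintro _ _ ⟨P, hP, rfl⟩ ⟨Q, hQ, rfl⟩
         exact ⟨P + Q, R.add_mem hP hQ, by rw [Matrix.add_mulVec]⟩
       neg_mem' := by
         rintro _ ⟨P, hP, rfl⟩
         exact ⟨-P, R.neg_mem hP, by rw [Matrix.neg_mulVec]⟩ }, fun w => Iff.rfl⟩
  have hWg : ∀ w ∈ W, g.mulVec w ∈ W := by
    intro w hw
    obtain ⟨P, hP, rfl⟩ := (hWmem w).mp hw
    exact (hWmem _).mpr ⟨g * P, R.mul_mem hgR hP, by rw [Matrix.mulVec_mulVec]⟩
  have hWne : W ≠ ⊥ := by
    intro h
    have h1 : v0 ∈ W := (hWmem v0).mpr ⟨1, R.one_mem, by rw [Matrix.one_mulVec]⟩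
    rw [h, AddSubgroup.mem_bot] at h1
    exact hv0 h1
  have hWtop := tw13_inv hF g hg hfix W hWg hWne
  have hall : ∀ w : Fin 4 → F, ∃ P ∈ R, w = P.mulVec v0 := fun w =>
    (hWmem w).mp (by rw [hWtop]; exact AddSubgroup.mem_top w)
  obtain ⟨P, hP, hPv⟩ := hall (Θ v0)
  have hΘP : ∀ v, Θ v = P.mulVec v := by
    intro v
    obtain ⟨Q, hQ, rfl⟩ := hall v
    rw [hΘR Q hQ, hPv, Matrix.mulVec_mulVec, Matrix.mulVec_mulVec, hRcomm Q hQ P hP]
  obtain ⟨c, hc0, hc1⟩ : ∃ c : F, c ≠ 0 ∧ c ≠ 1 := by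
    by_contra hcon
    push Not at hcon
    have h : Fintype.card F ≤ 2 := by
      calc Fintype.card F = (Finset.univ : Finset F).card := Finset.card_univ.symm
        _ ≤ ({0, 1} : Finset F).card := Finset.card_le_card (fun x _ => by
            by_cases hx : x = 0
            · simp [hx]
            · simp [hcon x hx])
        _ ≤ 2 := Finset.card_le_two
    omega
  have hΘ0 : ∀ v, Θ v = 0 := by
    intro v
    have h1 : Θ (c • v) = c • Θ v := by rw [hΘP, hΘP, Matrix.mulVec_smul]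
    have h2' := hΘc c v
    have h3 : (c ^ 2 - c) • Θ v = 0 := by rw [sub_smul, ← h2', h1, sub_self]
    have h4 : c ^ 2 - c ≠ 0 := by
      have h5 : c ^ 2 - c = c * (c - 1) := by ring
      rw [h5]
      exact mul_ne_zero hc0 (sub_ne_zero.mpr hc1)
    exact (smul_eq_zero.mp h3).resolve_left h4
  have h5 : ∀ w : Fin 4 → F, X.mulVec w = 0 := by
    intro w
    have h6 := hΘ0 (fun i => w i ^ 4)
    rw [hΘ] at h6
    have h7 : (fun i => (w i ^ 4) ^ 2) = w := by
      funext i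
      rw [← pow_mul]
      have h := FiniteField.pow_card (w i)
      rw [hF] at h
      exact h
    rw [← h7]
    exact h6
  ext i j
  have h8' := congrFun (h5 (Pi.single j 1)) i
  rw [Matrix.mulVec_single_one] at h8'
  exact h8'

example : Cfsg.Agent.H7.Ps.StTw13 := tw13

end Cfsg.Agent.H3.Ps
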