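import Mathlib
import Cfsg.Agent.H45.S8Defs0
import Cfsg.Agent.H99.ElSTR

/-!
# S8-LA1 (S1158 piece for helper45)

The commutant in `GL₇(q)` of an element of prime order `p`, `ord_p(q) = 6`, is commutative.

Route: `T` the endomorphism, `L = ker (T - 1)` has dimension `1`, `W = range (T - 1)` has
dimension `6` and no proper non-zero `T`-invariant subspace, so `W = {f(T) w₀}` for any
`w₀ ≠ 0` in `W`.  An endomorphism commuting with `T` acts on `W` as a polynomial in `T` and on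
`L` as a scalar.
-/

set_option autoImplicit false

namespace Cfsg.Agent.H3.S8

open Cfsg.Agent.H45.S8 Polynomial Module

universe u v

theorem la1_end {K : Type v} [Field K] [Fintype K] {V : Type*} [AddCommGroup V] [Module K V]
    [FiniteDimensional K V] (p : ℕ) (hp : p.Prime) (hV : finrank K V = 7)
    (hd : ∀ d : ℕ, p ∣ Fintype.card K ^ d - 1 ↔ 6 ∣ d)
    (T : Module.End K V) (hTp : T ^ p = 1) (hT1 : T ≠ 1)
    (B₁ B₂ : Module.End K V) (h₁ : B₁ * T = T * B₁) (h₂ : B₂ * T = T * B₂) :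
    B₁ * B₂ = B₂ * B₁ := by
  classical
  haveI : Fact p.Prime := ⟨hp⟩
  obtain ⟨Q, hQ⟩ : ∃ Q : ℕ, Q = Fintype.card K := ⟨_, rfl⟩
  rw [← hQ] at hd
  have hQpos : 0 < Q := by rw [hQ]; exact Fintype.card_pos
  have hQd : ∀ d : ℕ, (Q : ZMod p) ^ d = 1 ↔ 6 ∣ d := by
    intro d
    rw [← hd d, ← ZMod.natCast_eq_zero_iff, Nat.cast_sub (Nat.one_le_pow _ _ hQpos), Nat.cast_pow,
      Nat.cast_one, sub_eq_zero]
  have hQ6 : (Q : ZMod p) ^ 6 = 1 := (hQd 6).mpr dvd_rfl
  have hQne : (Q : ZMod p) ≠ 0 := by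
    intro h
    rw [h] at hQ6
    simp at hQ6
  have hpK : (p : K) ≠ 0 := by
    intro h0
    obtain ⟨ℓ, hℓ⟩ := CharP.exists K
    obtain ⟨e, hℓp, he⟩ := FiniteField.card K ℓ
    have h1 : ℓ ∣ p := (CharP.cast_eq_zero_iff K ℓ p).mp h0
    have h2 : ℓ = p := (Nat.prime_dvd_prime_iff_eq hℓp hp).mp h1
    apply hQne
    rw [ZMod.natCast_eq_zero_iff, hQ, he, h2]
    exact dvd_pow_self p e.pos.ne'
  have hord : orderOf ((Fintype.card K : ℕ) : ZMod p) = 6 := by
    rw [← hQ, orderOf_eq_iff (by norm_num)]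
    refine ⟨hQ6, fun m hm hm0 h => ?_⟩
    obtain ⟨c, hc⟩ := (hQd m).mp h
    omega
  obtain ⟨L, hL⟩ : ∃ L : Submodule K V, L = LinearMap.ker (T - 1) := ⟨_, rfl⟩
  obtain ⟨W, hW⟩ : ∃ W : Submodule K V, W = LinearMap.range (T - 1) := ⟨_, rfl⟩
  have hLmem : ∀ v, v ∈ L ↔ T v = v := by
    intro v
    rw [hL]
    exact Cfsg.Agent.H99.El.mem_ker_sub_one T v
  obtain ⟨S, hS⟩ : ∃ S : Module.End K V, S = ∑ i ∈ Finset.range p, T ^ i := ⟨_, rfl⟩
  have hST : S * (T - 1) = 0 := by rw [hS, geom_sum_mul, hTp, sub_self]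
  have hSL : ∀ v ∈ L, S v = (p : K) • v := by
    intro v hv
    have hTv := (hLmem v).mp hv
    have hpow : ∀ i : ℕ, (T ^ i) v = v := by
      intro i
      induction i with
      | zero => simp
      | succ i ih => rw [pow_succ, Module.End.mul_apply, hTv, ih]
    rw [hS, LinearMap.sum_apply]
    simp only [hpow, Finset.sum_const, Finset.card_range]
    rw [Nat.cast_smul_eq_nsmul]
  have hLW : L ⊓ W = ⊥ := by
    rw [eq_bot_iff]
    rintro v ⟨hvL, hvW⟩
    have h1 := hSL v hvL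
    rw [hW] at hvW
    obtain ⟨u, hu⟩ := hvW
    have h2 : S v = 0 := by
      rw [← hu, ← Module.End.mul_apply, hST]
      rfl
    rw [h2] at h1
    exact (Submodule.mem_bot K).mpr ((smul_eq_zero.mp h1.symm).resolve_left hpK)
  have hdimL : finrank K ↥L = 1 := by
    obtain ⟨a, ha⟩ := Cfsg.Agent.H99.El.finrank_invariant_mod T p hp hpK hTp ⊤
      (fun v _ => Submodule.mem_top)
    rw [finrank_top, hV, top_inf_eq, ← hL, hord] at ha
    have hne7 : finrank K ↥L ≠ 7 := by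
      intro h7
      apply hT1
      have hLtop : L = ⊤ := Submodule.eq_top_of_finrank_eq (by rw [h7, hV])
      apply LinearMap.ext
      intro v
      have hvL : v ∈ L := by rw [hLtop]; exact Submodule.mem_top
      rw [(hLmem v).mp hvL]
      rfl
    omega
  have hdimW : finrank K ↥W = 6 := by
    have h1 := LinearMap.finrank_range_add_finrank_ker (T - 1)
    rw [← hL, ← hW, hV, hdimL] at h1
    omega
  have hirr : ∀ U : Submodule K V, U ≤ W → (∀ v ∈ U, T v ∈ U) → U ≠ ⊥ → U = W := by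
    intro U hUW hUinv hU0
    obtain ⟨a, ha⟩ := Cfsg.Agent.H99.El.finrank_invariant_mod T p hp hpK hTp U hUinv
    have h0 : U ⊓ LinearMap.ker (T - 1) = ⊥ := by
      rw [eq_bot_iff, ← hLW, ← hL]
      exact le_inf inf_le_right (inf_le_left.trans hUW)
    rw [h0, finrank_bot, zero_add, hord] at ha
    have hpos : finrank K ↥U ≠ 0 := by
      intro h
      exact hU0 (Submodule.finrank_eq_zero.mp h)
    have hle : finrank K ↥W ≤ finrank K ↥U := by
      rw [hdimW]
      rcases Nat.eq_zero_or_pos a with h | h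
      · rw [h, zero_mul] at ha
        exact absurd ha hpos
      · rw [ha]
        exact Nat.le_mul_of_pos_left 6 h
    exact Submodule.eq_of_le_of_finrank_le hUW hle
  obtain ⟨w₀, hw₀W, hw₀⟩ : ∃ w₀ ∈ W, w₀ ≠ 0 := by
    have hWne : W ≠ ⊥ := by
      intro h
      rw [h, finrank_bot] at hdimW
      omega
    exact Submodule.exists_mem_ne_zero_of_ne_bot hWne
  obtain ⟨φ, hφ⟩ : ∃ φ : K[X] →ₗ[K] V, ∀ f, φ f = (aeval T f) w₀ :=
    ⟨(LinearMap.applyₗ w₀).comp (Polynomial.aeval T).toLinearMap, fun f => rfl⟩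
  have hcomm_aeval : ∀ (B : Module.End K V), B * T = T * B →
      ∀ f : K[X], B * aeval T f = aeval T f * B := by
    intro B hB f
    have hpowc : ∀ k : ℕ, B * T ^ k = T ^ k * B := by
      intro k
      induction k with
      | zero => simp
      | succ k ih => rw [pow_succ, ← mul_assoc, ih, mul_assoc, hB, ← mul_assoc]
    induction f using Polynomial.induction_on' with
    | add f g hf hg => rw [map_add, mul_add, add_mul, hf, hg]
    | monomial k c =>
      rw [Polynomial.aeval_monomial, ← mul_assoc, ← Algebra.commutes c B, mul_assoc, hpowc,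
        ← mul_assoc]
  have hsubcomm : ∀ (B : Module.End K V), B * T = T * B → B * (T - 1) = (T - 1) * B := by
    intro B hB
    rw [mul_sub, sub_mul, hB, mul_one, one_mul]
  have hU₀ : LinearMap.range φ = W := by
    apply hirr
    · rintro _ ⟨f, rfl⟩
      rw [hφ]
      rw [hW] at hw₀W ⊢
      obtain ⟨u, rfl⟩ := hw₀W
      refine ⟨(aeval T f) u, ?_⟩
      have h1 := hcomm_aeval (T - 1) (hsubcomm T rfl).symm f
      rw [← Module.End.mul_apply, h1, Module.End.mul_apply]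
    · rintro _ ⟨f, rfl⟩
      refine ⟨X * f, ?_⟩
      rw [hφ, hφ, map_mul, aeval_X, Module.End.mul_apply]
    · intro h
      have h1 : w₀ ∈ LinearMap.range φ := ⟨1, by rw [hφ, map_one]; rfl⟩
      rw [h] at h1
      exact hw₀ ((Submodule.mem_bot K).mp h1)
  have hBW : ∀ B : Module.End K V, B * T = T * B → ∀ w ∈ W, B w ∈ W := by
    intro B hB w hw
    rw [hW] at hw ⊢
    obtain ⟨u, rfl⟩ := hw
    refine ⟨B u, ?_⟩
    rw [← Module.End.mul_apply, ← hsubcomm B hB, Module.End.mul_apply]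
  have hBL : ∀ B : Module.End K V, B * T = T * B → ∀ v ∈ L, B v ∈ L := by
    intro B hB v hv
    rw [hLmem] at hv ⊢
    rw [← Module.End.mul_apply, ← hB, Module.End.mul_apply, hv]
  have hrep : ∀ B : Module.End K V, B * T = T * B → ∃ f : K[X], B w₀ = (aeval T f) w₀ := by
    intro B hB
    have h1 : B w₀ ∈ LinearMap.range φ := by rw [hU₀]; exact hBW B hB w₀ hw₀W
    obtain ⟨f, hf⟩ := h1
    exact ⟨f, by rw [← hφ, hf]⟩
  obtain ⟨f₁, hf₁⟩ := hrep B₁ h₁
  obtain ⟨f₂, hf₂⟩ := hrep B₂ h₂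
  have hswap : ∀ (B B' : Module.End K V) (f f' g : K[X]), B * T = T * B → B' * T = T * B' →
      B w₀ = (aeval T f) w₀ → B' w₀ = (aeval T f') w₀ →
      B (B' ((aeval T g) w₀)) = (aeval T g) ((aeval T f') ((aeval T f) w₀)) := by
    intro B B' f f' g hB hB' hf hf'
    have c1 : B' ((aeval T g) w₀) = (aeval T g) (B' w₀) := by
      rw [← Module.End.mul_apply, hcomm_aeval B' hB' g, Module.End.mul_apply]
    have c2 : B ((aeval T g) ((aeval T f') w₀)) = (aeval T g) (B ((aeval T f') w₀)) := by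
      rw [← Module.End.mul_apply, hcomm_aeval B hB g, Module.End.mul_apply]
    have c3 : B ((aeval T f') w₀) = (aeval T f') (B w₀) := by
      rw [← Module.End.mul_apply, hcomm_aeval B hB f', Module.End.mul_apply]
    rw [c1, hf', c2, c3, hf]
  have honW : ∀ w ∈ W, B₁ (B₂ w) = B₂ (B₁ w) := by
    intro w hw
    rw [← hU₀] at hw
    obtain ⟨g, rfl⟩ := hw
    rw [hφ, hswap B₁ B₂ f₁ f₂ g h₁ h₂ hf₁ hf₂, hswap B₂ B₁ f₂ f₁ g h₂ h₁ hf₂ hf₁]
    congr 1
    rw [← Module.End.mul_apply, ← Module.End.mul_apply, ← map_mul, ← map_mul, mul_comm]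
  have honL : ∀ v ∈ L, B₁ (B₂ v) = B₂ (B₁ v) := by
    obtain ⟨ℓ, hℓ0, hℓ⟩ := finrank_eq_one_iff'.mp hdimL
    have hsc : ∀ B : Module.End K V, B * T = T * B → ∃ c : K, B (ℓ : V) = c • (ℓ : V) := by
      intro B hB
      obtain ⟨c, hc⟩ := hℓ ⟨B ℓ, hBL B hB ℓ ℓ.2⟩
      refine ⟨c, ?_⟩
      have h1 := congrArg Subtype.val hc
      exact h1.symm
    obtain ⟨c₁, hc₁⟩ := hsc B₁ h₁
    obtain ⟨c₂, hc₂⟩ := hsc B₂ h₂
    intro v hv
    obtain ⟨d, hd'⟩ := hℓ ⟨v, hv⟩
    have hv' : v = d • (ℓ : V) := by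
      have h1 := congrArg Subtype.val hd'
      exact h1.symm
    rw [hv']
    simp only [map_smul, hc₁, hc₂, smul_smul]
    congr 1
    ring
  have hsup : L ⊔ W = ⊤ := by
    apply Submodule.eq_top_of_finrank_eq
    have h1 := Submodule.finrank_sup_add_finrank_inf_eq L W
    rw [hLW, finrank_bot, add_zero, hdimL, hdimW] at h1
    rw [h1, hV]
  apply LinearMap.ext
  intro v
  have hv : v ∈ L ⊔ W := by rw [hsup]; exact Submodule.mem_top
  obtain ⟨y, hy, z, hz, rfl⟩ := Submodule.mem_sup.mp hv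
  rw [Module.End.mul_apply, Module.End.mul_apply, map_add, map_add, map_add, map_add, honL y hy,
    honW z hz]

theorem la1 : StLA1.{u, v} := by
  intro n _ _ K _ _ p hp hn hd Y hY Z₁ Z₂ h₁ h₂
  have hY1 : Y ≠ 1 := by
    intro h
    rw [h, orderOf_one] at hY
    exact hp.one_lt.ne hY
  have hTp : (Matrix.toLinAlgEquiv' (Y : Matrix n n K)) ^ p = 1 := by
    rw [← map_pow, ← Units.val_pow_eq_pow_val, ← hY, pow_orderOf_eq_one, Units.val_one, map_one]
  have hT1 : Matrix.toLinAlgEquiv' (Y : Matrix n n K) ≠ 1 := by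
    intro h
    apply hY1
    apply Units.ext
    rw [Units.val_one]
    apply (Matrix.toLinAlgEquiv' (R := K) (n := n)).injective
    rw [h, map_one]
  have hc₁ : Matrix.toLinAlgEquiv' (Z₁ : Matrix n n K) * Matrix.toLinAlgEquiv' (Y : Matrix n n K)
      = Matrix.toLinAlgEquiv' (Y : Matrix n n K) * Matrix.toLinAlgEquiv' (Z₁ : Matrix n n K) := by
    rw [← map_mul, ← map_mul, ← Units.val_mul, ← Units.val_mul, h₁]
  have hc₂ : Matrix.toLinAlgEquiv' (Z₂ : Matrix n n K) * Matrix.toLinAlgEquiv' (Y : Matrix n n K)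
      = Matrix.toLinAlgEquiv' (Y : Matrix n n K) * Matrix.toLinAlgEquiv' (Z₂ : Matrix n n K) := by
    rw [← map_mul, ← map_mul, ← Units.val_mul, ← Units.val_mul, h₂]
  have key := la1_end (V := n → K) p hp (by rw [Module.finrank_fintype_fun_eq_card, hn]) hd
    (Matrix.toLinAlgEquiv' (Y : Matrix n n K)) hTp hT1 _ _ hc₁ hc₂
  apply Units.ext
  rw [Units.val_mul, Units.val_mul]
  apply (Matrix.toLinAlgEquiv' (R := K) (n := n)).injective
  rw [map_mul, map_mul]
  exact key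

example : StLA1.{u, v} := la1

end Cfsg.Agent.H3.S8
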