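import Mathlib
import Cfsg.Agent.H45.S8Defs0

/-!
# S8-LA2 (S1158 piece for helper45)

In `GL₇(q)`, an element normalising `⟨Y⟩` (`Y` of prime order `p`, `ord_p(q) = 6`) has its 6th
power commuting with `Y`.

Route: the minimal polynomial `μ` of `Y` has a root `lam ≠ 1` in an extension field `E`; the set of
roots of `μ` in `E` (at most 7 elements) is closed under `a ↦ a ^ q` (Frobenius) and `a ↦ a ^ j`
(conjugation by `X`); pigeonhole on the 12 elements `lam ^ (q ^ a)`, `lam ^ (q ^ a * j)` gives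
`j ≡ q ^ c (mod p)`, hence `j ^ 6 ≡ 1 (mod p)`.
-/

set_option autoImplicit false

namespace Cfsg.Agent.H3.S8

open Cfsg.Agent.H45.S8 Polynomial

universe u v

/-- Conjugation by an invertible matrix commutes with polynomial evaluation. -/
theorem la2_aeval_conj {n : Type u} [Fintype n] [DecidableEq n] {K : Type v} [Field K]
    (P Pi A : Matrix n n K) (h1 : P * Pi = 1) (h2 : Pi * P = 1) (f : K[X]) :
    aeval (P * A * Pi) f = P * aeval A f * Pi := by
  obtain ⟨φ, hφ⟩ : ∃ φ : Matrix n n K →ₐ[K] Matrix n n K, ∀ M, φ M = P * M * Pi := by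
    refine ⟨AlgHom.ofLinearMap
      { toFun := fun M => P * M * Pi
        map_add' := fun M N => by rw [Matrix.mul_add, Matrix.add_mul]
        map_smul' := fun c M => by
          rw [Matrix.mul_smul, Matrix.smul_mul]
          rfl } ?_ ?_, fun M => rfl⟩
    · change P * 1 * Pi = 1
      rw [Matrix.mul_one, h1]
    · intro M N
      change P * (M * N) * Pi = (P * M * Pi) * (P * N * Pi)
      calc P * (M * N) * Pi = P * M * (1 * N) * Pi := by
            rw [Matrix.one_mul, Matrix.mul_assoc P M N]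
        _ = P * M * ((Pi * P) * N) * Pi := by rw [h2]
        _ = (P * M * Pi) * (P * N * Pi) := by simp only [Matrix.mul_assoc]
  rw [← hφ, ← hφ]
  exact Polynomial.aeval_algHom_apply φ A f

theorem la2 : StLA2.{u, v} := by
  intro n _ _ K _ _ p hp hn hd Y hY Z j hXY
  classical
  haveI : Fact p.Prime := ⟨hp⟩
  obtain ⟨Q, hQ⟩ : ∃ Q : ℕ, Q = Fintype.card K := ⟨_, rfl⟩
  rw [← hQ] at hd
  have hQpos : 0 < Q := by rw [hQ]; exact Fintype.card_pos
  -- arithmetic modulo `p`
  have hQd : ∀ d : ℕ, (Q : ZMod p) ^ d = 1 ↔ 6 ∣ d := by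
    intro d
    rw [← hd d, ← ZMod.natCast_eq_zero_iff, Nat.cast_sub (Nat.one_le_pow _ _ hQpos), Nat.cast_pow,
      Nat.cast_one, sub_eq_zero]
  have hQ6 : (Q : ZMod p) ^ 6 = 1 := (hQd 6).mpr dvd_rfl
  have hQne : (Q : ZMod p) ≠ 0 := by
    intro h
    rw [h] at hQ6
    simp at hQ6
  have hinj' : ∀ a b : ℕ, a ≤ b → b < 6 → (Q : ZMod p) ^ a = (Q : ZMod p) ^ b → a = b := by
    intro a b hab hb h
    have h1 : (Q : ZMod p) ^ b = (Q : ZMod p) ^ a * (Q : ZMod p) ^ (b - a) := by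
      rw [← pow_add]
      congr 1
      omega
    rw [h1] at h
    have h2 : (Q : ZMod p) ^ (b - a) = 1 := by
      have h3 : (Q : ZMod p) ^ a * (Q : ZMod p) ^ (b - a) = (Q : ZMod p) ^ a * 1 := by
        rw [mul_one]; exact h.symm
      exact mul_left_cancel₀ (pow_ne_zero a hQne) h3
    have h4 := (hQd (b - a)).mp h2
    obtain ⟨c, hc⟩ := h4
    omega
  have hinj : ∀ a b : ℕ, a < 6 → b < 6 → (Q : ZMod p) ^ a = (Q : ZMod p) ^ b → a = b := by
    intro a b ha hb h
    rcases le_total a b with hab | hab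
    · exact hinj' a b hab hb h
    · exact (hinj' b a hab ha h.symm).symm
  have hpK : (p : K) ≠ 0 := by
    intro h0
    obtain ⟨ℓ, hℓ⟩ := CharP.exists K
    obtain ⟨e, hℓp, he⟩ := FiniteField.card K ℓ
    have h1 : ℓ ∣ p := (CharP.cast_eq_zero_iff K ℓ p).mp h0
    have h2 : ℓ = p := (Nat.prime_dvd_prime_iff_eq hℓp hp).mp h1
    apply hQne
    rw [ZMod.natCast_eq_zero_iff, hQ, he, h2]
    exact dvd_pow_self p e.pos.ne'
  -- matrices
  obtain ⟨A, hA⟩ : ∃ A : Matrix n n K, A = (Y : Matrix n n K) := ⟨_, rfl⟩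
  obtain ⟨P, hP⟩ : ∃ P : Matrix n n K, P = (Z : Matrix n n K) := ⟨_, rfl⟩
  obtain ⟨Pi, hPi⟩ : ∃ Pi : Matrix n n K, Pi = ((Z⁻¹ : GL n K) : Matrix n n K) := ⟨_, rfl⟩
  have hPPi : P * Pi = 1 := by rw [hP, hPi, ← Units.val_mul, mul_inv_cancel, Units.val_one]
  have hPiP : Pi * P = 1 := by rw [hP, hPi, ← Units.val_mul, inv_mul_cancel, Units.val_one]
  have hAj : P * A * Pi = A ^ j := by
    rw [hP, hA, hPi, ← Units.val_mul, ← Units.val_mul, hXY, Units.val_pow_eq_pow_val]
  have hAp : A ^ p = 1 := by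
    rw [hA, ← Units.val_pow_eq_pow_val, ← hY, pow_orderOf_eq_one, Units.val_one]
  have hY1 : Y ≠ 1 := by
    intro h
    rw [h, orderOf_one] at hY
    exact hp.one_lt.ne hY
  have hA1 : A ≠ 1 := by
    intro h
    apply hY1
    apply Units.ext
    rw [← hA, h, Units.val_one]
  obtain ⟨μ, hμ⟩ : ∃ μ : K[X], μ = minpoly K A := ⟨_, rfl⟩
  have hμA : aeval A μ = 0 := by rw [hμ]; exact minpoly.aeval K A
  have hμ0 : μ ≠ 0 := by rw [hμ]; exact minpoly.ne_zero (Matrix.isIntegral A)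
  have hμdeg : μ.natDegree ≤ 7 := by
    have h1 : μ ∣ A.charpoly := by rw [hμ]; exact Matrix.minpoly_dvd_charpoly A
    have h2 := Polynomial.natDegree_le_of_dvd h1 (Matrix.charpoly_monic A).ne_zero
    rw [Matrix.charpoly_natDegree_eq_dim, hn] at h2
    exact h2
  obtain ⟨Ψ, hΨ⟩ : ∃ Ψ : K[X], Ψ = ∑ i ∈ Finset.range p, (X : K[X]) ^ i := ⟨_, rfl⟩
  have hfac : (X - 1) * Ψ = (X : K[X]) ^ p - 1 := by rw [hΨ]; exact mul_geom_sum X p
  have hμdvd : μ ∣ (X - 1) * Ψ := by
    rw [hfac, hμ]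
    apply minpoly.dvd
    rw [map_sub, map_pow, aeval_X, map_one, hAp, sub_self]
  have hμj : μ ∣ μ.comp (X ^ j) := by
    nth_rewrite 1 [hμ]
    apply minpoly.dvd
    rw [Polynomial.aeval_comp, map_pow, aeval_X, ← hAj, la2_aeval_conj P Pi A hPPi hPiP, hμA,
      Matrix.mul_zero, Matrix.zero_mul]
  -- a common irreducible factor of `μ` and `Ψ`
  have hncop : ¬ IsCoprime μ Ψ := by
    intro hcop
    have h1 : μ ∣ X - 1 := hcop.dvd_of_dvd_mul_right hμdvd
    obtain ⟨c, hc⟩ := h1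
    have h2 : aeval A (X - 1 : K[X]) = 0 := by rw [hc, map_mul, hμA, zero_mul]
    rw [map_sub, aeval_X, map_one, sub_eq_zero] at h2
    exact hA1 h2
  have hgcd : ¬ IsUnit (EuclideanDomain.gcd μ Ψ) := fun h =>
    hncop (EuclideanDomain.gcd_isUnit_iff.mp h)
  have hgcd0 : EuclideanDomain.gcd μ Ψ ≠ 0 := by
    intro h
    exact hμ0 (EuclideanDomain.gcd_eq_zero_iff.mp h).1
  obtain ⟨g, hgirr, hgdvd⟩ := WfDvdMonoid.exists_irreducible_factor hgcd hgcd0
  have hgμ : g ∣ μ := hgdvd.trans (EuclideanDomain.gcd_dvd_left μ Ψ)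
  have hgΨ : g ∣ Ψ := hgdvd.trans (EuclideanDomain.gcd_dvd_right μ Ψ)
  haveI : Fact (Irreducible g) := ⟨hgirr⟩
  obtain ⟨lam, hlam⟩ : ∃ lam : AdjoinRoot g, lam = AdjoinRoot.root g := ⟨_, rfl⟩
  have hg0 : aeval lam g = 0 := by
    rw [hlam, AdjoinRoot.aeval_eq, AdjoinRoot.mk_self]
  have hlamμ : aeval lam μ = 0 := by
    obtain ⟨c, hc⟩ := hgμ
    rw [hc, map_mul, hg0, zero_mul]
  have hlamΨ : aeval lam Ψ = 0 := by
    obtain ⟨c, hc⟩ := hgΨ
    rw [hc, map_mul, hg0, zero_mul]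
  have hpE : (p : AdjoinRoot g) ≠ 0 := by
    intro h
    apply hpK
    have h1 : algebraMap K (AdjoinRoot g) (p : K) = 0 := by rw [map_natCast]; exact h
    exact (map_eq_zero (algebraMap K (AdjoinRoot g))).mp h1
  have hlam1 : lam ≠ 1 := by
    intro h
    rw [h, hΨ, map_sum] at hlamΨ
    simp only [map_pow, aeval_X, one_pow, Finset.sum_const, Finset.card_range, nsmul_eq_mul,
      mul_one] at hlamΨ
    exact hpE hlamΨ
  have hlamp : lam ^ p = 1 := by
    have h1 := congrArg (aeval lam) hfac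
    rw [map_mul, hlamΨ, mul_zero, map_sub, map_pow, aeval_X, map_one] at h1
    exact (sub_eq_zero.mp h1.symm)
  have hord : orderOf lam = p := orderOf_eq_prime hlamp hlam1
  -- closure properties of the roots
  have hjroot : ∀ a : AdjoinRoot g, aeval a μ = 0 → aeval (a ^ j) μ = 0 := by
    intro a ha
    obtain ⟨c, hc⟩ := hμj
    have h1 : aeval a (μ.comp (X ^ j)) = 0 := by rw [hc, map_mul, ha, zero_mul]
    rw [Polynomial.aeval_comp, map_pow, aeval_X] at h1
    exact h1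
  have hqroot : ∀ a : AdjoinRoot g, aeval a μ = 0 → aeval (a ^ Q) μ = 0 := by
    intro a ha
    rw [← Polynomial.expand_aeval, hQ, FiniteField.expand_card, map_pow, ha,
      zero_pow Fintype.card_pos.ne']
  have hpow : ∀ a : ℕ, aeval (lam ^ (Q ^ a)) μ = 0 := by
    intro a
    induction a with
    | zero => rw [pow_zero, pow_one]; exact hlamμ
    | succ a ih => rw [pow_succ, pow_mul]; exact hqroot _ ih
  have hpowj : ∀ a : ℕ, aeval (lam ^ (Q ^ a * j)) μ = 0 := by
    intro a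
    rw [pow_mul]
    exact hjroot _ (hpow a)
  -- the set of roots
  obtain ⟨T, hT⟩ : ∃ T : Finset (AdjoinRoot g), T = (μ.aroots (AdjoinRoot g)).toFinset :=
    ⟨_, rfl⟩
  have hTmem : ∀ a : AdjoinRoot g, aeval a μ = 0 → a ∈ T := by
    intro a ha
    rw [hT, Multiset.mem_toFinset, Polynomial.mem_aroots]
    exact ⟨hμ0, ha⟩
  have hTcard : T.card ≤ 7 := by
    rw [hT]
    refine le_trans (Multiset.toFinset_card_le _) ?_
    refine le_trans (Polynomial.card_roots' _) ?_
    rw [Polynomial.natDegree_map]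
    exact hμdeg
  -- `j` is invertible modulo `p`
  have hjne : (j : ZMod p) ≠ 0 := by
    intro h
    rw [ZMod.natCast_eq_zero_iff, ← hY, orderOf_dvd_iff_pow_eq_one] at h
    rw [h] at hXY
    apply hY1
    have h1 : Z * Y * Z⁻¹ = Z * 1 * Z⁻¹ := by rw [hXY, mul_one, mul_inv_cancel]
    exact mul_left_cancel (mul_right_cancel h1)
  -- translation between powers of `lam` and residues
  have hcast : ∀ a b : ℕ, lam ^ a = lam ^ b → (a : ZMod p) = (b : ZMod p) := by
    intro a b h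
    have hlam0 : lam ≠ 0 := by
      intro h0
      rw [h0, zero_pow hp.ne_zero] at hlamp
      exact zero_ne_one hlamp
    have hu : (Units.mk0 lam hlam0) ^ a = (Units.mk0 lam hlam0) ^ b := by
      apply Units.ext
      rw [Units.val_pow_eq_pow_val, Units.val_pow_eq_pow_val]
      exact h
    rw [pow_eq_pow_iff_modEq, ← orderOf_units, Units.val_mk0, hord] at hu
    exact (ZMod.natCast_eq_natCast_iff a b p).mpr hu
  -- pigeonhole
  obtain ⟨F, hF⟩ : ∃ F : Fin 6 ⊕ Fin 6 → AdjoinRoot g,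
      F = Sum.elim (fun a : Fin 6 => lam ^ (Q ^ (a : ℕ)))
        (fun a : Fin 6 => lam ^ (Q ^ (a : ℕ) * j)) := ⟨_, rfl⟩
  have hFT : Set.MapsTo F (Finset.univ : Finset (Fin 6 ⊕ Fin 6)) T := by
    intro s _
    rw [hF]
    rcases s with a | a
    · exact hTmem _ (hpow a)
    · exact hTmem _ (hpowj a)
  have hcardlt : T.card < (Finset.univ : Finset (Fin 6 ⊕ Fin 6)).card := by
    rw [Finset.card_univ, Fintype.card_sum, Fintype.card_fin]
    omega
  obtain ⟨s, -, t, -, hst, hFst⟩ := Finset.exists_ne_map_eq_of_card_lt_of_maps_to hcardlt hFT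
  have hj6 : (j : ZMod p) ^ 6 = 1 := by
    have hmixed : ∀ a b : ℕ, lam ^ (Q ^ a) = lam ^ (Q ^ b * j) → (j : ZMod p) ^ 6 = 1 := by
      intro a b h
      have h1 := hcast _ _ h
      rw [Nat.cast_pow, Nat.cast_mul, Nat.cast_pow] at h1
      have h2 := congrArg (fun z => z ^ 6) h1
      simp only [mul_pow] at h2
      rw [← pow_mul, ← pow_mul, mul_comm a 6, mul_comm b 6, pow_mul, pow_mul, hQ6, one_pow,
        one_pow, one_mul] at h2
      exact h2.symm
    rw [hF] at hFst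
    rcases s with a | a <;> rcases t with b | b
    · exfalso
      simp only [Sum.elim_inl] at hFst
      have h1 := hcast _ _ hFst
      rw [Nat.cast_pow, Nat.cast_pow] at h1
      have h2 := hinj a b a.2 b.2 h1
      exact hst (by rw [Fin.ext h2])
    · simp only [Sum.elim_inl, Sum.elim_inr] at hFst
      exact hmixed a b hFst
    · simp only [Sum.elim_inl, Sum.elim_inr] at hFst
      exact hmixed b a hFst.symm
    · exfalso
      simp only [Sum.elim_inr] at hFst
      have h1 := hcast _ _ hFst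
      rw [Nat.cast_mul, Nat.cast_mul, Nat.cast_pow, Nat.cast_pow] at h1
      have h2 := hinj a b a.2 b.2 (mul_right_cancel₀ hjne h1)
      exact hst (by rw [Fin.ext h2])
  -- conclusion
  have hconj : ∀ k : ℕ, Z ^ k * Y * (Z ^ k)⁻¹ = Y ^ (j ^ k) := by
    intro k
    induction k with
    | zero => simp
    | succ k ih =>
      have h1 : Z ^ (k + 1) * Y * (Z ^ (k + 1))⁻¹ = Z * (Z ^ k * Y * (Z ^ k)⁻¹) * Z⁻¹ := by
        rw [pow_succ', mul_inv_rev]
        group
      rw [h1, ih, ← conj_pow, hXY, ← pow_mul, pow_succ']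
  have h6 := hconj 6
  have hY6 : Y ^ (j ^ 6) = Y := by
    have h1 : Y ^ (j ^ 6) = Y ^ 1 := by
      rw [pow_eq_pow_iff_modEq, hY, ← ZMod.natCast_eq_natCast_iff, Nat.cast_pow, hj6,
        Nat.cast_one]
    rw [h1, pow_one]
  rw [hY6] at h6
  exact mul_inv_eq_iff_eq_mul.mp h6

example : StLA2.{u, v} := la2

end Cfsg.Agent.H3.S8
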