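import Cfsg.Agent.H90.SgDefs

/-!
# SG-FR (helper3, for helper90): `fr : StFr`, the exact Prop of `Cfsg.Agent.H90.SgDefs`

`N_X(JC) ≤ C · N_X(J)` for `J ≤ T` weakly closed in the Sylow 2-subgroup `T`
(here `C` need not even be normal).
-/

set_option autoImplicit false
open Cfsg

namespace Cfsg.Agent.H3.Sg

universe u
open Subgroup

/-- A 2-subgroup is contained in a conjugate of a 2-subgroup `T` of odd index. -/
theorem sgConjLe {X : Type u} [Group X] [Finite X] {T : Subgroup X} (hT : IsPGroup 2 ↥T)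
    (hodd : Odd T.index) {S : Subgroup X} (hS : IsPGroup 2 ↥S) :
    ∃ x : X, ∀ s ∈ S, x * s * x⁻¹ ∈ T := by
  haveI : Fact (Nat.Prime 2) := ⟨Nat.prime_two⟩
  have hnd : ¬ 2 ∣ T.index := fun h => (Nat.not_even_iff_odd.2 hodd) (even_iff_two_dvd.2 h)
  obtain ⟨R, hR⟩ := hS.exists_le_sylow
  obtain ⟨x, hx⟩ := MulAction.exists_smul_eq X R (hT.toSylow hnd)
  refine ⟨x, fun s hs => ?_⟩
  have h1 : x * s * x⁻¹ ∈ ((x • R : Sylow 2 X) : Subgroup X) := by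
    rw [Sylow.coe_subgroup_smul]
    exact ⟨s, hR hs, rfl⟩
  rw [hx] at h1
  exact (IsPGroup.mem_toSylow hT hnd).1 h1

/-- SG-FR. -/
theorem fr : Cfsg.Agent.H90.Sg.StFr.{u} := by
  intro X _ _ T C J hT hodd hCn hJT hwc n hn
  haveI : Fact (Nat.Prime 2) := ⟨Nat.prime_two⟩
  have hwc' : ∀ g : X, (∀ j ∈ J, g * j * g⁻¹ ∈ T) → g ∈ normalizer (J : Set X) := by
    intro g hg
    have h1 : J.map (MulAut.conj g).toMonoidHom ≤ T := by
      rintro _ ⟨j, hj, rfl⟩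
      exact hg j hj
    have h2 := hwc g h1
    rw [Subgroup.mem_normalizer_iff]
    intro h
    constructor
    · intro hh
      have h3 : g * h * g⁻¹ ∈ J.map (MulAut.conj g).toMonoidHom := ⟨h, hh, rfl⟩
      rw [h2] at h3
      exact h3
    · intro hh
      have h3 : g * h * g⁻¹ ∈ J.map (MulAut.conj g).toMonoidHom := by rw [h2]; exact hh
      obtain ⟨j, hj, hje⟩ := h3
      have h4 : g * j * g⁻¹ = g * h * g⁻¹ := hje
      have h5 : g⁻¹ * (g * j * g⁻¹) * g = g⁻¹ * (g * h * g⁻¹) * g := by rw [h4]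
      have h6 : j = h := by simpa [mul_assoc] using h5
      rw [← h6]; exact hj
  have hJ2 : IsPGroup 2 ↥J := hT.to_le hJT
  obtain ⟨Y, hYdef⟩ : ∃ Y : Subgroup X, Y = J ⊔ C := ⟨_, rfl⟩
  rw [← hYdef] at hn
  have hJY : J ≤ Y := by rw [hYdef]; exact le_sup_left
  obtain ⟨Jn, hJndef⟩ : ∃ Jn : Subgroup X, Jn = J.map (MulAut.conj n).toMonoidHom := ⟨_, rfl⟩
  have hJn2 : IsPGroup 2 ↥Jn := by rw [hJndef]; exact hJ2.map _
  have hJnmem : ∀ j ∈ J, n * j * n⁻¹ ∈ Jn := by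
    intro j hj
    rw [hJndef]
    exact ⟨j, hj, rfl⟩
  have hJnY : Jn ≤ Y := by
    rw [hJndef]
    rintro _ ⟨j, hj, rfl⟩
    have h0 := hn
    rw [Subgroup.mem_normalizer_iff] at h0
    exact (h0 j).1 (hJY hj)
  obtain ⟨S, hS⟩ := (hJ2.comap_subtype (K := Y)).exists_le_sylow
  obtain ⟨S', hS'⟩ := (hJn2.comap_subtype (K := Y)).exists_le_sylow
  obtain ⟨c, hc⟩ := MulAction.exists_smul_eq ↥Y S' S
  obtain ⟨x, hx⟩ := sgConjLe hT hodd (S := (S : Subgroup ↥Y).map Y.subtype) (S.isPGroup'.map _)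
  have hx1 : x ∈ normalizer (J : Set X) := by
    apply hwc'
    intro j hj
    exact hx j ⟨⟨j, hJY hj⟩, hS (Subgroup.mem_subgroupOf.2 hj), rfl⟩
  have hx2 : x * (c : X) * n ∈ normalizer (J : Set X) := by
    apply hwc'
    intro j hj
    have h1 : n * j * n⁻¹ ∈ Jn := hJnmem j hj
    have h2 : (⟨n * j * n⁻¹, hJnY h1⟩ : ↥Y) ∈ (S' : Subgroup ↥Y) :=
      hS' (Subgroup.mem_subgroupOf.2 h1)
    have h3 : c * (⟨n * j * n⁻¹, hJnY h1⟩ : ↥Y) * c⁻¹ ∈ ((c • S' : Sylow 2 ↥Y) : Subgroup ↥Y) := by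
      rw [Sylow.coe_subgroup_smul]
      exact ⟨_, h2, rfl⟩
    rw [hc] at h3
    have h4 : x * ((c : X) * (n * j * n⁻¹) * (c : X)⁻¹) * x⁻¹ ∈ T := hx _ ⟨_, h3, rfl⟩
    have h5 : x * (c : X) * n * j * (x * (c : X) * n)⁻¹ =
        x * ((c : X) * (n * j * n⁻¹) * (c : X)⁻¹) * x⁻¹ := by group
    rw [h5]
    exact h4
  have hn' : n = (c : X)⁻¹ * (x⁻¹ * (x * (c : X) * n)) := by group
  rw [hn']
  refine mul_mem ?_ (mul_mem ?_ ?_)
  · have hle : Y ≤ C ⊔ normalizer (J : Set X) := by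
      rw [hYdef]
      exact sup_le (le_sup_of_le_right le_normalizer) le_sup_left
    exact inv_mem (hle c.2)
  · exact mem_sup_right (inv_mem hx1)
  · exact mem_sup_right hx2

example : Cfsg.Agent.H90.Sg.StFr.{u} := fr

end Cfsg.Agent.H3.Sg
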