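import Cfsg.Agent.H90.SgDefs

/-!
# SG-PICK (helper3, for helper90): `pick : StPick`, the exact Prop of `Cfsg.Agent.H90.SgDefs`
-/

set_option autoImplicit false
open Cfsg

namespace Cfsg.Agent.H3.Sg

universe u

/-- In a group of order 3 every element is `1`, `κ` or `κ⁻¹` for any `κ ≠ 1`. -/
theorem sgCoset3 {D : Type u} [Group D] (hc : Nat.card D = 3) {κ : D} (hκ : κ ≠ 1)
    (d : D) : d = 1 ∨ d = κ ∨ d = κ⁻¹ := by
  haveI : Fact (Nat.Prime 3) := ⟨Nat.prime_three⟩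
  have h3 : κ ^ 3 = 1 := by rw [← hc]; exact pow_card_eq_one'
  obtain ⟨n, rfl⟩ := (mem_zpowers_of_prime_card hc hκ : d ∈ Subgroup.zpowers κ)
  have h3z : κ ^ (3 : ℤ) = 1 := by exact_mod_cast h3
  have hn : κ ^ n = κ ^ (n % 3) := by
    conv_lhs => rw [← Int.mul_ediv_add_emod n 3]
    rw [zpow_add, zpow_mul, h3z, one_zpow, one_mul]
  have : n % 3 = 0 ∨ n % 3 = 1 ∨ n % 3 = 2 := by omega
  rcases this with h | h | h
  · left; show κ ^ n = 1; rw [hn, h, zpow_zero]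
  · right; left; show κ ^ n = κ; rw [hn, h, zpow_one]
  · right; right; show κ ^ n = κ⁻¹; rw [hn, h]
    rw [eq_inv_iff_mul_eq_one]
    calc κ ^ (2 : ℤ) * κ = κ ^ (3 : ℤ) := by
          rw [show (3 : ℤ) = 2 + 1 by norm_num, zpow_add, zpow_one]
      _ = 1 := h3z

/-- SG-PICK. -/
theorem pick : Cfsg.Agent.H90.Sg.StPick.{u} := by
  intro X _ _ C J D M hCn hCD hidx hJD hDJ hCM hDM hgen
  obtain ⟨k, hkD, hkM⟩ := SetLike.not_le_iff_exists.1 hDM
  have hkC : k ∉ C := fun h => hkM (hCM h)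
  have hcardQ : Nat.card (↥D ⧸ C.subgroupOf D) = 3 := by
    rw [← Subgroup.index_eq_card]; exact hidx
  obtain ⟨q, hqdef⟩ : ∃ q : ↥D →* ↥D ⧸ C.subgroupOf D, q = QuotientGroup.mk' (C.subgroupOf D) :=
    ⟨_, rfl⟩
  have hq1 : ∀ d : ↥D, q d = 1 ↔ (d : X) ∈ C := by
    intro d
    rw [hqdef, QuotientGroup.mk'_apply, QuotientGroup.eq_one_iff, Subgroup.mem_subgroupOf]
  have hκ : q ⟨k, hkD⟩ ≠ 1 := fun h => hkC ((hq1 _).1 h)
  have hL : ∀ d ∈ D, d ∈ C ∨ d * k⁻¹ ∈ C ∨ d * k ∈ C := by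
    intro d hd
    rcases sgCoset3 hcardQ hκ (q ⟨d, hd⟩) with h | h | h
    · left; exact (hq1 _).1 h
    · right; left
      have h1 : q (⟨d, hd⟩ * ⟨k, hkD⟩⁻¹) = 1 := by rw [map_mul, map_inv, h, mul_inv_cancel]
      exact (hq1 _).1 h1
    · right; right
      have h1 : q (⟨d, hd⟩ * ⟨k, hkD⟩) = 1 := by rw [map_mul, h, inv_mul_cancel]
      exact (hq1 _).1 h1
  have hk3 : k ^ 3 ∈ C := by
    have h1 : q (⟨k, hkD⟩ ^ 3) = 1 := by rw [map_pow, ← hcardQ]; exact pow_card_eq_one'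
    have h2 := (hq1 _).1 h1
    simpa using h2
  have hconj : ∀ g ∈ J, g * k * g⁻¹ * k⁻¹ ∈ C ∨ g * k * g⁻¹ * k ∈ C := by
    intro g hg
    have h1 : g * k * g⁻¹ ∈ D := by
      have h0 := hJD hg
      rw [Subgroup.mem_normalizer_iff] at h0
      exact (h0 k).1 hkD
    have h2 : g * k * g⁻¹ ∉ C := by
      intro h
      apply hkC
      have h3 := hCn.conj_mem _ h g⁻¹
      simpa [mul_assoc] using h3
    rcases hL _ h1 with h | h | h
    · exact absurd h h2
    · left; exact h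
    · right; exact h
  obtain ⟨π, hπdef⟩ : ∃ π : X →* X ⧸ C, π = QuotientGroup.mk' C := ⟨_, rfl⟩
  have hπ1 : ∀ y : X, π y = 1 ↔ y ∈ C := by
    intro y
    rw [hπdef, QuotientGroup.mk'_apply, QuotientGroup.eq_one_iff]
  by_cases hex : ∃ A ∈ maxElementaryAbelianSubgroups 2 X, A ≤ J ∧ ∃ a ∈ A, a * k * a⁻¹ * k ∈ C
  · obtain ⟨A, hA, hAJ, a, ha, hak⟩ := hex
    exact ⟨A, hA, hAJ, a, ha, k, hkD, hkM, hkC, hk3, hak, hconj⟩
  · exfalso
    apply hDJ
    have hJN : J ≤ (Subgroup.centralizer ({π k} : Set (X ⧸ C))).comap π := by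
      apply hgen
      intro A hA hAJ a ha
      rw [Subgroup.mem_comap, Subgroup.mem_centralizer_iff]
      intro h hh
      rw [Set.mem_singleton_iff] at hh
      rw [hh]
      rcases hconj a (hAJ ha) with h1 | h1
      · have h2 : π (a * k * a⁻¹ * k⁻¹) = 1 := (hπ1 _).2 h1
        rw [map_mul, map_mul, map_mul, map_inv, map_inv] at h2
        have h3 := mul_inv_eq_one.1 h2
        have h4 := mul_inv_eq_iff_eq_mul.1 h3
        exact h4.symm
      · exact absurd ⟨A, hA, hAJ, a, ha, h1⟩ hex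
    rw [Subgroup.commutator_le]
    intro d hd g hg
    have hg' := hJN hg
    rw [Subgroup.mem_comap, Subgroup.mem_centralizer_iff] at hg'
    have hgk : π k * π g = π g * π k := hg' (π k) (Set.mem_singleton _)
    rw [← hπ1, commutatorElement_def, map_mul, map_mul, map_mul, map_inv, map_inv]
    rcases hL d hd with h | h | h
    · rw [(hπ1 d).2 h]; group
    · have h5 : π d = π k := by
        have h6 := (hπ1 _).2 h
        rw [map_mul, map_inv] at h6
        exact mul_inv_eq_one.1 h6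
      rw [h5, hgk]; group
    · have h5 : π d = (π k)⁻¹ := by
        have h6 := (hπ1 _).2 h
        rw [map_mul] at h6
        exact eq_inv_of_mul_eq_one_left h6
      rw [h5]
      have h7 : (π k)⁻¹ * π g = π g * (π k)⁻¹ :=
        (Commute.inv_left (show Commute (π k) (π g) from hgk)).eq
      rw [h7]; group

example : Cfsg.Agent.H90.Sg.StPick.{u} := pick

end Cfsg.Agent.H3.Sg
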