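import Cfsg.Agent.H3.PGroup
import Cfsg.Agent.H3.Critical

set_option autoImplicit false

namespace Cfsg.Agent.H3

open scoped commutatorElement

/-- If `G = [G, A]` and `A` fixes a characteristic subgroup `K` pointwise, then `K` is central. -/
theorem char_fixed_le_center {G : Type*} [Group G] (A : Subgroup (MulAut G))
    (hGA : Subgroup.closure {x : G | ∃ g : G, ∃ a ∈ A, x = g⁻¹ * a g} = ⊤)
    (K : Subgroup G) (hK : K.Characteristic) (hfix : ∀ a ∈ A, ∀ k ∈ K, a k = k) :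
    K ≤ Subgroup.center G := by
  have hKn : K.Normal := inferInstance
  have hle : Subgroup.closure {x : G | ∃ g : G, ∃ a ∈ A, x = g⁻¹ * a g} ≤
      Subgroup.centralizer (K : Set G) := by
    rw [Subgroup.closure_le]
    rintro x ⟨g, a, ha, rfl⟩
    rw [SetLike.mem_coe, Subgroup.mem_centralizer_iff]
    intro k hk
    have h1 : g * k * g⁻¹ ∈ K := hKn.conj_mem k hk g
    have h2 := hfix a ha _ h1
    rw [map_mul, map_mul, hfix a ha k hk, map_inv] at h2
    calc k * (g⁻¹ * a g) = g⁻¹ * (g * k * g⁻¹) * a g := by group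
      _ = g⁻¹ * (a g * k * (a g)⁻¹) * a g := by rw [h2]
      _ = g⁻¹ * a g * k := by group
  rw [hGA] at hle
  intro k hk
  rw [Subgroup.mem_center_iff]
  intro g
  have h1 := hle (Subgroup.mem_top g)
  rw [Subgroup.mem_centralizer_iff] at h1
  exact (h1 k hk).symm

/-- If a `p'`-group `A` of automorphisms of a `p`-group satisfies `G = [G, A]`, then the fixed
points of `A` lie in the derived subgroup. -/
theorem fixed_le_commutator {G : Type*} [Group G] [Finite G] {p : ℕ} [Fact p.Prime]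
    (hG : IsPGroup p G) (A : Subgroup (MulAut G)) (hA : Nat.Coprime (Nat.card A) p)
    (hGA : Subgroup.closure {x : G | ∃ g : G, ∃ a ∈ A, x = g⁻¹ * a g} = ⊤)
    (g : G) (hg : ∀ a ∈ A, a g = g) : g ∈ commutator G := by
  classical
  have hfinA : Fintype A := Fintype.ofFinite A
  let ν : G →* Abelianization G :=
    ∏ a : A, (Abelianization.of : G →* Abelianization G).comp ((a : MulAut G).toMonoidHom)
  have hν : ∀ x : G, ν x = ∏ a : A, Abelianization.of ((a : MulAut G) x) := by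
    intro x
    show (∏ a : A, (Abelianization.of : G →* Abelianization G).comp
      ((a : MulAut G).toMonoidHom)) x = _
    rw [MonoidHom.finsetProd_apply]
    rfl
  have hinv : ∀ (b : A) (x : G), ν ((b : MulAut G) x) = ν x := by
    intro b x
    rw [hν, hν]
    have h1 := Equiv.prod_comp (Equiv.mulRight b)
      (fun a : A => (Abelianization.of ((a : MulAut G) x) : Abelianization G))
    rw [← h1]
    apply Finset.prod_congr rfl
    intro a _
    rfl
  have hker : ∀ x : G, ν x = 1 := by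
    have hle : Subgroup.closure {x : G | ∃ g : G, ∃ a ∈ A, x = g⁻¹ * a g} ≤ ν.ker := by
      rw [Subgroup.closure_le]
      rintro x ⟨u, a, ha, rfl⟩
      rw [SetLike.mem_coe, MonoidHom.mem_ker, map_mul, map_inv]
      have h1 := hinv ⟨a, ha⟩ u
      have h2 : ν (a u) = ν u := h1
      rw [h2, inv_mul_cancel]
    rw [hGA] at hle
    intro x
    exact hle (Subgroup.mem_top x)
  have h1 : (Abelianization.of g : Abelianization G) ^ Nat.card A = 1 := by
    have h2 := hker g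
    rw [hν] at h2
    have h3 : ∀ a : A, (Abelianization.of ((a : MulAut G) g) : Abelianization G) =
        Abelianization.of g := fun a => by rw [hg a a.2]
    rw [Finset.prod_congr rfl (fun a _ => h3 a), Finset.prod_const, Finset.card_univ,
      ← Nat.card_eq_fintype_card] at h2
    exact h2
  obtain ⟨k, hk⟩ := hG g
  have h4 : (Abelianization.of g : Abelianization G) ^ p ^ k = 1 := by
    rw [← map_pow, hk, map_one]
  have h5 : orderOf (Abelianization.of g : Abelianization G) ∣ Nat.gcd (Nat.card A) (p ^ k) :=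
    Nat.dvd_gcd (orderOf_dvd_of_pow_eq_one h1) (orderOf_dvd_of_pow_eq_one h4)
  rw [Nat.Coprime.pow_right k hA] at h5
  have h6 : (Abelianization.of g : Abelianization G) = 1 :=
    orderOf_eq_one_iff.mp (Nat.dvd_one.mp h5)
  rw [← Abelianization.ker_of G]
  exact h6

/-- `g ↦ g h g⁻¹ h⁻¹` is multiplicative when the values are central. -/
theorem ccomm_mul {G : Type*} [Group G] (g g' h : G)
    (hz : g' * h * g'⁻¹ * h⁻¹ ∈ Subgroup.center G) :
    (g * g') * h * (g * g')⁻¹ * h⁻¹ = (g * h * g⁻¹ * h⁻¹) * (g' * h * g'⁻¹ * h⁻¹) := by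
  have hz' : ∀ x : G, x * (g' * h * g'⁻¹ * h⁻¹) = (g' * h * g'⁻¹ * h⁻¹) * x :=
    Subgroup.mem_center_iff.mp hz
  calc (g * g') * h * (g * g')⁻¹ * h⁻¹ = g * (g' * h * g'⁻¹ * h⁻¹) * h * g⁻¹ * h⁻¹ := by group
    _ = (g' * h * g'⁻¹ * h⁻¹) * g * h * g⁻¹ * h⁻¹ := by rw [hz' g]
    _ = (g' * h * g'⁻¹ * h⁻¹) * (g * h * g⁻¹ * h⁻¹) := by group
    _ = (g * h * g⁻¹ * h⁻¹) * (g' * h * g'⁻¹ * h⁻¹) := (hz' _).symm

/-- `h ↦ g h g⁻¹ h⁻¹` is multiplicative when the values are central. -/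
theorem ccomm_mul_right {G : Type*} [Group G] (g h h' : G)
    (hz : g * h' * g⁻¹ * h'⁻¹ ∈ Subgroup.center G) :
    g * (h * h') * g⁻¹ * (h * h')⁻¹ = (g * h * g⁻¹ * h⁻¹) * (g * h' * g⁻¹ * h'⁻¹) := by
  have hz' : ∀ x : G, x * (g * h' * g⁻¹ * h'⁻¹) = (g * h' * g⁻¹ * h'⁻¹) * x :=
    Subgroup.mem_center_iff.mp hz
  calc g * (h * h') * g⁻¹ * (h * h')⁻¹ = (g * h * g⁻¹) * (g * h' * g⁻¹ * h'⁻¹) * h⁻¹ := by group
    _ = (g * h' * g⁻¹ * h'⁻¹) * (g * h * g⁻¹) * h⁻¹ := by rw [hz' (g * h * g⁻¹)]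
    _ = (g * h' * g⁻¹ * h'⁻¹) * (g * h * g⁻¹ * h⁻¹) := by group
    _ = (g * h * g⁻¹ * h⁻¹) * (g * h' * g⁻¹ * h'⁻¹) := (hz' _).symm

/-- If all `g h g⁻¹ h⁻¹` (`h ∈ H`) are central, commutators centralize `H`. -/
theorem commutator_centralizes {G : Type*} [Group G] (H : Subgroup G)
    (hc : ∀ g : G, ∀ h ∈ H, g * h * g⁻¹ * h⁻¹ ∈ Subgroup.center G) (u v : G) :
    ⁅u, v⁆ ∈ Subgroup.centralizer (H : Set G) := by
  rw [Subgroup.mem_centralizer_iff]
  intro h hh
  have hcc : ∀ g : G, ∀ x : G, x * (g * h * g⁻¹ * h⁻¹) = (g * h * g⁻¹ * h⁻¹) * x :=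
    fun g => Subgroup.mem_center_iff.mp (hc g h hh)
  have hinv : ∀ g : G, (g * h * g⁻¹ * h⁻¹) * (g⁻¹ * h * g⁻¹⁻¹ * h⁻¹) = 1 := by
    intro g
    rw [← ccomm_mul g g⁻¹ h (hc g⁻¹ h hh)]
    group
  have h1 : ⁅u, v⁆ * h * ⁅u, v⁆⁻¹ * h⁻¹ = 1 := by
    rw [commutatorElement_def]
    have e1 : (u * v * u⁻¹ * v⁻¹) * h * (u * v * u⁻¹ * v⁻¹)⁻¹ * h⁻¹ =
        (u * h * u⁻¹ * h⁻¹) * (v * h * v⁻¹ * h⁻¹) * (u⁻¹ * h * u⁻¹⁻¹ * h⁻¹) *
          (v⁻¹ * h * v⁻¹⁻¹ * h⁻¹) := by
      rw [ccomm_mul (u * v * u⁻¹) v⁻¹ h (hc _ h hh), ccomm_mul (u * v) u⁻¹ h (hc _ h hh),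
        ccomm_mul u v h (hc _ h hh)]
    rw [e1]
    calc (u * h * u⁻¹ * h⁻¹) * (v * h * v⁻¹ * h⁻¹) * (u⁻¹ * h * u⁻¹⁻¹ * h⁻¹) *
          (v⁻¹ * h * v⁻¹⁻¹ * h⁻¹)
        = (u * h * u⁻¹ * h⁻¹) * ((v * h * v⁻¹ * h⁻¹) * (u⁻¹ * h * u⁻¹⁻¹ * h⁻¹)) *
          (v⁻¹ * h * v⁻¹⁻¹ * h⁻¹) := by simp only [mul_assoc]
      _ = (u * h * u⁻¹ * h⁻¹) * ((u⁻¹ * h * u⁻¹⁻¹ * h⁻¹) * (v * h * v⁻¹ * h⁻¹)) *
          (v⁻¹ * h * v⁻¹⁻¹ * h⁻¹) := by rw [hcc u⁻¹ (v * h * v⁻¹ * h⁻¹)]
      _ = ((u * h * u⁻¹ * h⁻¹) * (u⁻¹ * h * u⁻¹⁻¹ * h⁻¹)) *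
          ((v * h * v⁻¹ * h⁻¹) * (v⁻¹ * h * v⁻¹⁻¹ * h⁻¹)) := by simp only [mul_assoc]
      _ = 1 := by rw [hinv u, hinv v, one_mul]
  have h2 : ⁅u, v⁆ * h = h * ⁅u, v⁆ := by
    have h3 : ⁅u, v⁆ * h * ⁅u, v⁆⁻¹ = h := by
      have := mul_inv_eq_one.mp h1
      exact this
    calc ⁅u, v⁆ * h = (⁅u, v⁆ * h * ⁅u, v⁆⁻¹) * ⁅u, v⁆ := by group
      _ = h * ⁅u, v⁆ := by rw [h3]
  exact h2.symm

/-- If all `g h g⁻¹ h⁻¹` (`h ∈ H`) are central and `p`-th powers of `H` are central, then `p`-th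
powers centralize `H`. -/
theorem pow_centralizes {G : Type*} [Group G] (H : Subgroup G) (p : ℕ)
    (hc : ∀ g : G, ∀ h ∈ H, g * h * g⁻¹ * h⁻¹ ∈ Subgroup.center G)
    (hp : ∀ h ∈ H, h ^ p ∈ Subgroup.center G) (g : G) :
    g ^ p ∈ Subgroup.centralizer (H : Set G) := by
  rw [Subgroup.mem_centralizer_iff]
  intro h hh
  have hpg : ∀ n : ℕ, g ^ n * h * (g ^ n)⁻¹ * h⁻¹ = (g * h * g⁻¹ * h⁻¹) ^ n := by
    intro n
    induction n with
    | zero => simp
    | succ n ih =>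
      rw [pow_succ, ccomm_mul (g ^ n) g h (hc g h hh), ih, pow_succ]
  have hph : ∀ n : ℕ, g * h ^ n * g⁻¹ * (h ^ n)⁻¹ = (g * h * g⁻¹ * h⁻¹) ^ n := by
    intro n
    induction n with
    | zero => simp
    | succ n ih =>
      rw [pow_succ, ccomm_mul_right g (h ^ n) h (hc g h hh), ih, pow_succ]
  have h1 : g ^ p * h * (g ^ p)⁻¹ * h⁻¹ = 1 := by
    rw [hpg, ← hph]
    have h2 := Subgroup.mem_center_iff.mp (hp h hh) g
    rw [h2]
    group
  have h3 : g ^ p * h * (g ^ p)⁻¹ = h := mul_inv_eq_one.mp h1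
  calc h * g ^ p = (g ^ p * h * (g ^ p)⁻¹) * g ^ p := by rw [h3]
    _ = g ^ p * h := by group

/-- Thompson: if a `p'`-group `A` of automorphisms of a `p`-group `G` satisfies `G = [G, A]` and
acts trivially on every characteristic abelian subgroup, then `G' = Z(G) = Φ(G) = C_G(A)`. -/
theorem special_of_char_abelian_fixed {G : Type*} [Group G] [Finite G] {p : ℕ} [Fact p.Prime]
    (hG : IsPGroup p G) (A : Subgroup (MulAut G)) (hA : Nat.Coprime (Nat.card A) p)
    (hGA : Subgroup.closure {x : G | ∃ g : G, ∃ a ∈ A, x = g⁻¹ * a g} = ⊤)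
    (hchar : ∀ H : Subgroup G, H.Characteristic → IsMulCommutative H →
      ∀ a ∈ A, ∀ h ∈ H, a h = h) :
    frattini G = Subgroup.center G ∧ commutator G = Subgroup.center G ∧
      (∀ g : G, (g ∈ Subgroup.center G ↔ ∀ a ∈ A, a g = g)) := by
  obtain ⟨H, K, hHchar, hKchar, hKH, hKD, hDK, hpow, hcomm⟩ := critical_subgroup_exists hG
  have hKab : IsMulCommutative K := ⟨⟨fun a b => Subtype.ext
    ((Subgroup.mem_centralizer_iff.mp (hKD b.2)) a (hKH a.2))⟩⟩
  have hKZ : K ≤ Subgroup.center G :=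
    char_fixed_le_center A hGA K hKchar (hchar K hKchar hKab)
  have hz : ∀ (g : G), ∀ h ∈ H, g * h * g⁻¹ * h⁻¹ ∈ Subgroup.center G := by
    intro g h hh
    have h1 := hcomm h hh g
    have h2 : g * h * g⁻¹ * h⁻¹ = (⁅h, g⁆)⁻¹ := by
      rw [commutatorElement_def]; group
    rw [h2]
    exact hKZ (K.inv_mem h1)
  have hcommZ : ∀ u v : G, ⁅u, v⁆ ∈ Subgroup.center G :=
    fun u v => hKZ (hDK (commutator_centralizes H hz u v))
  have hpowZ : ∀ g : G, g ^ p ∈ Subgroup.center G :=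
    fun g => hKZ (hDK (pow_centralizes H p hz (fun h hh => hKZ (hpow h hh)) g))
  have hZab : IsMulCommutative (Subgroup.center G) := inferInstance
  have hZfix : ∀ a ∈ A, ∀ z ∈ Subgroup.center G, a z = z :=
    hchar (Subgroup.center G) Subgroup.centerCharacteristic hZab
  have hcomm_le : commutator G ≤ Subgroup.center G := by
    rw [commutator_def, Subgroup.commutator_le]
    intro u _ v _
    exact hcommZ u v
  have hfix_le : ∀ g : G, (∀ a ∈ A, a g = g) → g ∈ commutator G :=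
    fun g hg => fixed_le_commutator hG A hA hGA g hg
  have hZ_le : Subgroup.center G ≤ commutator G :=
    fun z hz => hfix_le z (fun a ha => hZfix a ha z hz)
  have hcomm_eq : commutator G = Subgroup.center G := le_antisymm hcomm_le hZ_le
  refine ⟨?_, hcomm_eq, ?_⟩
  · apply le_antisymm
    · have hcV : ∀ a b : G ⧸ Subgroup.center G, a * b = b * a := by
        intro a b
        induction a using QuotientGroup.induction_on with
        | H u =>
          induction b using QuotientGroup.induction_on with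
          | H v =>
            rw [← QuotientGroup.mk_mul, ← QuotientGroup.mk_mul, QuotientGroup.eq]
            have h1 := hcommZ v⁻¹ u⁻¹
            have h2 : (u * v)⁻¹ * (v * u) = ⁅v⁻¹, u⁻¹⁆ := by
              rw [commutatorElement_def]; group
            rw [h2]; exact h1
      have heV : ∀ a : G ⧸ Subgroup.center G, a ^ p = 1 := by
        intro a
        induction a using QuotientGroup.induction_on with
        | H u =>
          rw [← QuotientGroup.mk_pow, QuotientGroup.eq_one_iff]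
          exact hpowZ u
      have hfr := frattini_eq_bot_of_elementary (p := p) hcV heV
      have h1 := frattini_le_comap_frattini_of_surjective
        (QuotientGroup.mk'_surjective (Subgroup.center G))
      rw [hfr] at h1
      intro x hx
      have h2 := h1 hx
      rw [Subgroup.mem_comap, Subgroup.mem_bot] at h2
      exact (QuotientGroup.eq_one_iff x).mp h2
    · rw [← hcomm_eq]
      exact commutator_le_frattini hG
  · intro g
    constructor
    · intro hg a ha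
      exact hZfix a ha g hg
    · intro hg
      exact hcomm_le (hfix_le g hg)

end Cfsg.Agent.H3
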