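import Mathlib
import Cfsg.Agent.H61.TmExDefs
import Cfsg.Agent.H3.TiPrim
import Cfsg.Agent.H3.TiCompDvd
import Cfsg.Agent.H3.TiCycSet

/-!
# S5987-EXEVEN piece TMX-POWERS (helper3 for helper61): a fixed-point-free `T` with `T ^ r = 1`
on a space of dimension `i = ii F r` is killed by one irreducible factor of the cyclotomic
polynomial, and every other factor kills a suitable power of `T`.
-/

set_option autoImplicit false

namespace Cfsg.Agent.H3.Tm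

open Cfsg.Agent.H45 Cfsg.Agent.H42.Spd Cfsg.Agent.H42.Ti Cfsg.Agent.H77.Tq Cfsg.Agent.H77.Tm
  Cfsg.Agent.H61.Tm Module Polynomial

universe u

/-- Step 1: one factor `φ₁` kills `T`. -/
theorem px_exists_factor (F : Type u) [Field F] [Fintype F] (V : Type u) [AddCommGroup V]
    [Module F V] [FiniteDimensional F V] (r : ℕ) (T : Module.End F V) (hr : r.Prime)
    (hrF : (r : F) ≠ 0) (hT : T ^ r = 1) (hker : LinearMap.ker (T - 1) = ⊥)
    (hdim : Module.finrank F V = ii F r) (hi : 0 < ii F r) (Φs : Finset F[X])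
    (hΦs : IsCycSet F r Φs) : ∃ φ₁ ∈ Φs, aeval T φ₁ = 0 := by
  classical
  have hC := Cfsg.Agent.H3.Ti.cycSet.{u}
  obtain ⟨-, hdeg, -⟩ := (hC F r hr hrF).2 Φs hΦs
  have htop : (⊤ : Submodule F V) ∈ T.invtSubmodule := by
    rw [Module.End.mem_invtSubmodule]
    intro x _
    exact Submodule.mem_top
  have h1 := Cfsg.Agent.H3.Ti.tiPrim.{u, u} hC F V r T hr hrF hT Φs hΦs ⊤ htop
  rw [finrank_top, top_inf_eq, hker, finrank_bot, zero_add, hdim] at h1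
  have hne : ∑ φ ∈ Φs, finrank F ↥((⊤ : Submodule F V) ⊓ LinearMap.ker (aeval T φ)) ≠ 0 := by
    rw [← h1]
    exact hi.ne'
  obtain ⟨φ₁, hφ₁, hd⟩ := Finset.exists_ne_zero_of_sum_ne_zero hne
  refine ⟨φ₁, hφ₁, ?_⟩
  have hirr : Irreducible φ₁ := ((hΦs φ₁).1 hφ₁).2.1
  have h2 := Cfsg.Agent.H3.Ti.tiCompDvd.{u, u} F V T φ₁ hirr ⊤ htop
  rw [hdeg φ₁ hφ₁] at h2
  have h3 : finrank F ↥((⊤ : Submodule F V) ⊓ LinearMap.ker (aeval T φ₁)) ≤ ii F r := by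
    rw [h1]
    exact Finset.single_le_sum (f := fun φ =>
      finrank F ↥((⊤ : Submodule F V) ⊓ LinearMap.ker (aeval T φ))) (fun _ _ => Nat.zero_le _)
      hφ₁
  have h4 : finrank F ↥((⊤ : Submodule F V) ⊓ LinearMap.ker (aeval T φ₁)) = ii F r :=
    le_antisymm h3 (Nat.le_of_dvd (Nat.pos_of_ne_zero hd) h2)
  rw [top_inf_eq, ← hdim] at h4
  have h5 : LinearMap.ker (aeval T φ₁) = ⊤ := Submodule.eq_top_of_finrank_eq h4
  exact LinearMap.ker_eq_top.mp h5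

theorem powers : StPowers.{u} := by
  intro F _ _ V _ _ _ r T hr hrF hT hker hdim hi Φs hΦs φ₀ hφ₀
  classical
  obtain ⟨φ₁, hφ₁, hT1⟩ := px_exists_factor F V r T hr hrF hT hker hdim hi Φs hΦs
  obtain ⟨-, hirr1, hdvd1⟩ := (hΦs φ₁).1 hφ₁
  obtain ⟨-, hirr0, hdvd0⟩ := (hΦs φ₀).1 hφ₀
  haveI : Fact (Irreducible φ₁) := ⟨hirr1⟩
  haveI : Fact r.Prime := ⟨hr⟩
  -- the field `K = F[X]/(φ₁)` and its primitive root
  obtain ⟨ζ, hζdef⟩ : ∃ ζ : AdjoinRoot φ₁, ζ = AdjoinRoot.root φ₁ := ⟨_, rfl⟩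
  have hrK : ((r : ℕ) : AdjoinRoot φ₁) ≠ 0 := by
    intro h
    apply hrF
    have h1 : algebraMap F (AdjoinRoot φ₁) (r : F) = 0 := by
      rw [map_natCast]
      exact h
    exact (map_eq_zero (algebraMap F (AdjoinRoot φ₁))).mp h1
  haveI : NeZero ((r : ℕ) : AdjoinRoot φ₁) := ⟨hrK⟩
  have hmapcyc : (cyclotomic r F).map (algebraMap F (AdjoinRoot φ₁)) =
      cyclotomic r (AdjoinRoot φ₁) := map_cyclotomic r _
  have hζroot : (cyclotomic r (AdjoinRoot φ₁)).IsRoot ζ := by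
    rw [← hmapcyc, IsRoot.def, eval_map, ← aeval_def, hζdef, AdjoinRoot.aeval_eq]
    exact AdjoinRoot.mk_eq_zero.mpr hdvd1
  have hζ : IsPrimitiveRoot ζ r := (isRoot_cyclotomic_iff).mp hζroot
  have hprod := cyclotomic_eq_prod_X_sub_primitiveRoots hζ
  -- a root of `φ₀` in `K`
  obtain ⟨ψ, hψ⟩ : ∃ ψ : (AdjoinRoot φ₁)[X], ψ = φ₀.map (algebraMap F (AdjoinRoot φ₁)) :=
    ⟨_, rfl⟩
  have hψdeg : ψ.natDegree = φ₀.natDegree := by
    rw [hψ]
    exact natDegree_map _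
  have hφ₀deg : 0 < φ₀.natDegree := Irreducible.natDegree_pos hirr0
  have hψ0 : ψ ≠ 0 := by
    intro h
    rw [h, natDegree_zero] at hψdeg
    omega
  have hψu : ¬ IsUnit ψ := by
    intro h
    have := natDegree_eq_zero_of_isUnit h
    omega
  have hψdvd : ψ ∣ cyclotomic r (AdjoinRoot φ₁) := by
    rw [hψ, ← hmapcyc]
    exact Polynomial.map_dvd _ hdvd0
  obtain ⟨g, hg, hgψ⟩ := WfDvdMonoid.exists_irreducible_factor hψu hψ0
  have hgc : g ∣ ∏ μ ∈ primitiveRoots r (AdjoinRoot φ₁), (X - C μ) := by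
    rw [← hprod]
    exact hgψ.trans hψdvd
  obtain ⟨μ, hμ, hgμ⟩ := (Prime.dvd_finsetProd_iff hg.prime _).mp hgc
  have hassoc : Associated g (X - C μ) :=
    hg.associated_of_dvd (irreducible_X_sub_C μ) hgμ
  have hroot : ψ.IsRoot μ := dvd_iff_isRoot.mp (hassoc.symm.dvd.trans hgψ)
  have hμprim : IsPrimitiveRoot μ r := (mem_primitiveRoots hr.pos).mp hμ
  obtain ⟨e, -, he⟩ := hζ.eq_pow_of_pow_eq_one hμprim.pow_eq_one
  refine ⟨e, ?_⟩
  have h1 : aeval (ζ ^ e) φ₀ = 0 := by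
    rw [he, aeval_def, ← eval_map, ← hψ]
    exact hroot
  -- back to `F[X]`: `φ₁ ∣ φ₀ ∘ X ^ e`
  have h2 : aeval ζ (φ₀.comp (X ^ e)) = 0 := by
    rw [aeval_comp, aeval_X_pow]
    exact h1
  have h3 : φ₁ ∣ φ₀.comp (X ^ e) := by
    apply AdjoinRoot.mk_eq_zero.mp
    rw [← AdjoinRoot.aeval_eq, ← hζdef]
    exact h2
  obtain ⟨c, hc⟩ := h3
  have h4 : aeval T (φ₀.comp (X ^ e)) = aeval (T ^ e) φ₀ := by
    rw [aeval_comp, aeval_X_pow]
  rw [← h4, hc, map_mul, hT1, zero_mul]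

example : StPowers.{u} := powers

end Cfsg.Agent.H3.Tm
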