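import Mathlib
import Cfsg.Agent.H77.TqDefs
import Cfsg.Agent.H49.Siegel
import Cfsg.Agent.H49.MinusForm
import Cfsg.Agent.H49.SimpleForms

/-!
# S5978-SIEGEL (piece for helper77)

A long root (Siegel) element of `Ω⁻_{2m+2}(q)`, `q` odd, `m ≥ 2`: order `p`, non-scalar,
`x - 1` of rank two.
-/

set_option autoImplicit false
open scoped MatrixGroups
open scoped Matrix

namespace Cfsg.Agent.H3.Tq

open Cfsg.Agent.H77.Tq Cfsg.Agent.H49 Module

universe u

theorem sg_polar {F : Type u} [Field F] (m : ℕ) (a b : F) (x y : MI m → F) :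
    QuadraticMap.polar (Cfsg.quadFormMinus m F a b) x y =
      (∑ i : Fin m, (x (.inl (.inl i)) * y (.inl (.inr i)) + y (.inl (.inl i)) * x (.inl (.inr i))))
        + (2 * x (.inr 0) * y (.inr 0) + a * (x (.inr 0) * y (.inr 1) + x (.inr 1) * y (.inr 0))
          + 2 * b * x (.inr 1) * y (.inr 1)) := by
  simp only [QuadraticMap.polar, Cfsg.quadFormMinus, Pi.add_apply]
  simp only [add_mul, mul_add, Finset.sum_add_distrib]
  ring

theorem sg_polar_single {F : Type u} [Field F] (m : ℕ) (a b : F) (i : Fin m) (w : MI m → F) :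
    QuadraticMap.polar (Cfsg.quadFormMinus m F a b) (Pi.single (Sum.inl (Sum.inl i)) 1) w
      = w (Sum.inl (Sum.inr i)) := by
  rw [sg_polar]
  simp [Pi.single_apply]

theorem sg_Q_single {F : Type u} [Field F] (m : ℕ) (a b : F) (i : Fin m) :
    Cfsg.quadFormMinus m F a b (Pi.single (Sum.inl (Sum.inl i)) 1) = 0 := by
  simp [Cfsg.quadFormMinus, Pi.single_apply]

theorem siegelM (hOdd : StOddMem.{u}) : StSiegelM.{u} := by
  intro F _ _ p _ _ m a b h2 hm hab
  have hd : a ^ 2 - 4 * b ≠ 0 := disc_ne_zero_of_aniso a b hab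
  have hQ : (QuadraticMap.polarBilin (QMin m F a b)).Nondegenerate := QMin_nondeg m a b hd
  obtain ⟨i0, i1, hi01⟩ : ∃ i0 i1 : Fin m, i0 ≠ i1 :=
    ⟨⟨0, by omega⟩, ⟨1, by omega⟩, by simp [Fin.ext_iff]⟩
  obtain ⟨u, hu_def⟩ : ∃ u : MI m → F, u = Pi.single (Sum.inl (Sum.inl i0)) 1 := ⟨_, rfl⟩
  obtain ⟨v, hv_def⟩ : ∃ v : MI m → F, v = Pi.single (Sum.inl (Sum.inl i1)) 1 := ⟨_, rfl⟩
  have hpu : ∀ w, QuadraticMap.polar (⇑(QMin m F a b)) u w = w (Sum.inl (Sum.inr i0)) := by
    intro w; rw [hu_def]; exact sg_polar_single m a b i0 w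
  have hpv : ∀ w, QuadraticMap.polar (⇑(QMin m F a b)) v w = w (Sum.inl (Sum.inr i1)) := by
    intro w; rw [hv_def]; exact sg_polar_single m a b i1 w
  have hu : QMin m F a b u = 0 := by
    rw [hu_def]; exact sg_Q_single m a b i0
  have hv : QMin m F a b v = 0 := by
    rw [hv_def]; exact sg_Q_single m a b i1
  have huv : QuadraticMap.polar (⇑(QMin m F a b)) u v = 0 := by
    rw [hpu, hv_def]; simp
  obtain ⟨x, hx_def⟩ : ∃ x : ↥(Cfsg.isometryGroup F (⇑(QMin m F a b))),
      x = siegelG (QMin m F a b) u v hu hv huv 1 := ⟨_, rfl⟩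
  have hxv : ∀ w : MI m → F, ((x : GL (MI m) F) : Matrix (MI m) (MI m) F) *ᵥ w
      = w + (w (Sum.inl (Sum.inr i0)) • v - w (Sum.inl (Sum.inr i1)) • u) := by
    intro w
    rw [hx_def, siegelG_mulVec, hpu, hpv, one_smul]
  have hxN : ∀ w : MI m → F, (((x : GL (MI m) F) : Matrix (MI m) (MI m) F) - 1) *ᵥ w
      = w (Sum.inl (Sum.inr i0)) • v - w (Sum.inl (Sum.inr i1)) • u := by
    intro w
    rw [Matrix.sub_mulVec, hxv, Matrix.one_mulVec, add_sub_cancel_left]
  have hpow : ∀ k : ℕ, x ^ k = siegelG (QMin m F a b) u v hu hv huv (k : F) := by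
    intro k
    induction k with
    | zero =>
      rw [pow_zero, Nat.cast_zero]
      apply Subtype.ext
      apply Units.ext
      rw [siegelG_coe, siegel_zero]
      rfl
    | succ k ih =>
      rw [pow_succ, ih, hx_def, siegelG_mul, Nat.cast_succ]
  refine ⟨(x : GL (MI m) F), ?_, ?_, ?_, ?_⟩
  · have hmem : x ∈ commutator ↥(Cfsg.isometryGroup F (⇑(QMin m F a b))) := by
      rw [hx_def]
      exact siegelG_mem_commutator_odd (QMin m F a b) h2 hQ u v hu hv huv 1
    unfold Cfsg.Geo.omegaGL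
    exact ⟨x, hmem, rfl⟩
  · have h1 : x ^ p = 1 := by
      rw [hpow p, CharP.cast_eq_zero F p]
      apply Subtype.ext
      apply Units.ext
      rw [siegelG_coe, siegel_zero]
      rfl
    have h2' : ((x ^ p : ↥(Cfsg.isometryGroup F (⇑(QMin m F a b)))) : GL (MI m) F)
        = (x : GL (MI m) F) ^ p := by
      push_cast
      rfl
    rw [← h2', h1]
    rfl
  · intro z hz
    have h1 := hxv (Pi.single (Sum.inl (Sum.inr i0)) 1)
    rw [hz, Matrix.smul_mulVec, Matrix.one_mulVec] at h1
    have h2' := congrFun h1 (Sum.inl (Sum.inl i1))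
    rw [hu_def, hv_def] at h2'
    simp [Pi.single_apply, hi01, hi01.symm] at h2'
  · have hR : (((x : GL (MI m) F) : Matrix (MI m) (MI m) F) - 1).rank
        = finrank F ↥(LinearMap.range
          (((x : GL (MI m) F) : Matrix (MI m) (MI m) F) - 1).mulVecLin) := rfl
    have hli : LinearIndependent F ![u, v] := by
      rw [LinearIndependent.pair_iff]
      intro s t hst
      have e0 := congrFun hst (Sum.inl (Sum.inl i0))
      have e1 := congrFun hst (Sum.inl (Sum.inl i1))
      rw [hu_def, hv_def] at e0 e1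
      simp [Pi.single_apply, hi01, hi01.symm] at e0 e1
      exact ⟨e0, e1⟩
    have hspan : LinearMap.range
        (((x : GL (MI m) F) : Matrix (MI m) (MI m) F) - 1).mulVecLin
          = Submodule.span F (Set.range ![u, v]) := by
      apply le_antisymm
      · rintro _ ⟨w, rfl⟩
        rw [Matrix.mulVecLin_apply, hxN]
        apply Submodule.sub_mem
        · apply Submodule.smul_mem
          exact Submodule.subset_span ⟨1, rfl⟩
        · apply Submodule.smul_mem
          exact Submodule.subset_span ⟨0, rfl⟩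
      · rw [Submodule.span_le]
        rintro _ ⟨j, rfl⟩
        fin_cases j
        · refine ⟨-Pi.single (Sum.inl (Sum.inr i1)) 1, ?_⟩
          rw [Matrix.mulVecLin_apply, hxN]
          simp [Pi.single_apply, hi01, hi01.symm]
        · refine ⟨Pi.single (Sum.inl (Sum.inr i0)) 1, ?_⟩
          rw [Matrix.mulVecLin_apply, hxN]
          simp [Pi.single_apply, hi01, hi01.symm]
    rw [hR, hspan, finrank_span_eq_card hli]
    rfl

example (hOdd : StOddMem.{u}) : StSiegelM.{u} := siegelM hOdd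

end Cfsg.Agent.H3.Tq
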